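import Cfsg.Agent.Lib.Blocks.CyclicRank.Count
import Cfsg.Agent.Lib.Blocks.Brauer.Corner
import Cfsg.Agent.Lib.Blocks.Union
import Cfsg.Agent.Lib.Blocks.DefectNumber

/-!
# The corner of a nilpotent block with cyclic defect group, and projective simple modules

A block with a one-dimensional corner has trivial defect group, so a module of a block with
nontrivial defect group is not projective and the corner is `k[x] / x ^ n` with `2 ≤ n`.
-/

set_option autoImplicit false

universe u

namespace CfsgLib.CyclicRank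

open Cfsg MonoidAlgebra CfsgLib.Blocks CfsgLib.IBr

variable {G : Type u} [Group G] [Fintype G] {p : ℕ} [Fact p.Prime] {M : Ideal AlgInt} [M.IsPrime]
  (hM : IsPModular p M) (Dt : Data G M)
include hM

/-- A corner of dimension one forces a trivial defect group. -/
theorem eq_bot_of_finrank_le_one {B : Set (IrrCharacter G)} (hB : IsPBlock M B) {D : Subgroup G}
    (hD : IsDefectGroup p M B D) {δ : Fin Dt.n} (hδ : Dt.block hM δ = B)
    {f : MonoidAlgebra (Res M) G} (hf : f * f = f)
    (hψf : Dt.ψ f = Pi.single δ (Matrix.single 0 0 1))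
    (h : Module.finrank (Res M) (LinearMap.range (compr (Res M) f)) ≤ 1) : D = ⊥ := by
  classical
  have := Fintype.ofFinite (IrrCharacter G)
  have hdim : (Module.finrank (Res M) (LinearMap.range (compr (Res M) f)) : ℤ) =
      ∑ χ : IrrCharacter G, (Dt.dec χ δ : ℤ) ^ 2 := by
    rw [finrank_corner_eq hM hf]
    refine Finset.sum_congr rfl fun χ _ => ?_
    rw [Dt.mult_eq_sum hM χ hf, Finset.sum_eq_single δ]
    · simp [Data.rk, hψf, rank_single_one]
    · intro b _ hb
      simp [Data.rk, hψf, Pi.single_eq_of_ne hb]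
    · simp
  have hsum : ∑ χ : IrrCharacter G, Dt.dec χ δ ^ 2 ≤ 1 := by
    have h' : (∑ χ : IrrCharacter G, (Dt.dec χ δ : ℤ) ^ 2) ≤ 1 := hdim ▸ (by exact_mod_cast h)
    exact_mod_cast h'
  obtain ⟨χ₀, hχ₀⟩ := Dt.exists_dec_ne_zero hM δ
  have h0 : ∀ χ, χ ≠ χ₀ → Dt.dec χ δ = 0 := by
    intro χ hχ
    by_contra hne
    have h2 : ∑ η ∈ ({χ, χ₀} : Finset (IrrCharacter G)), Dt.dec η δ ^ 2 ≤ 1 :=
      (Finset.sum_le_sum_of_subset (Finset.subset_univ _)).trans hsum
    rw [Finset.sum_pair hχ] at h2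
    have := Nat.one_le_iff_ne_zero.2 (pow_ne_zero 2 hne)
    have := Nat.one_le_iff_ne_zero.2 (pow_ne_zero 2 hχ₀)
    omega
  have h1 : Dt.dec χ₀ δ = 1 := by
    have h2 : Dt.dec χ₀ δ ^ 2 ≤ 1 := (Finset.single_le_sum (f := fun χ => Dt.dec χ δ ^ 2)
      (fun _ _ => Nat.zero_le _) (Finset.mem_univ χ₀)).trans hsum
    nlinarith [Nat.one_le_iff_ne_zero.2 hχ₀]
  have hdvd := Dt.pow_dvd_sum_dec hM δ
  rw [Finset.sum_eq_single χ₀ (fun b _ hb => by rw [h0 b hb, zero_mul]) (fun h => absurd (Finset.mem_univ _) h),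
    h1, one_mul] at hdvd
  have hχB : χ₀ ∈ B := hδ ▸ Dt.mem_block_of_dec hM hχ₀
  obtain ⟨q, hq⟩ := charDegree_dvd_card χ₀
  have hq0 : q ≠ 0 := fun e => (Nat.card_pos (α := G)).ne' (by rw [hq, e, mul_zero])
  have hfac : (Nat.card G).factorization p =
      (charDegree (χ₀ : G → ℂ)).factorization p + q.factorization p := by
    rw [hq, Nat.factorization_mul (charDegree_pos χ₀).ne' hq0, Finsupp.add_apply]
  have hle := ((Fact.out : p.Prime).pow_dvd_iff_le_factorization (charDegree_pos χ₀).ne').1 hdvd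
  have hsing : B = {χ₀} := by
    rw [IsPBlock.eq_blockOf hB hχB]
    refine blockOf_eq_singleton hM χ₀ fun hp => ?_
    rw [hq, Nat.mul_div_cancel_left _ (charDegree_pos χ₀)] at hp
    have := (Fact.out : p.Prime).factorization_pos_of_dvd hq0 hp
    omega
  have hd0 : blockDefect p B = 0 := by
    rw [blockDefect, hsing, Set.image_singleton, csInf_singleton]
    omega
  have hc := IsDefectGroup.card_eq hM hB hD
  rw [hd0, pow_zero] at hc
  exact Subgroup.card_eq_one.1 hc

/-- A factor of a block with nontrivial defect group is not a trace from the trivial group. -/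
theorem exists_not_trace {B : Set (IrrCharacter G)} (hB : IsPBlock M B) {D : Subgroup G}
    (hD : IsDefectGroup p M B D) (hD0 : D ≠ ⊥) {δ : Fin Dt.n} (hδ : Dt.block hM δ = B)
    (R : (Fin (Dt.d δ) → Res M) →ₗ[Res M] (Fin (Dt.d δ) → Res M)) :
    ∃ v, ∑ g : G, Loc.el (rep Dt.ψ δ) g (R (Loc.el (rep Dt.ψ δ) g⁻¹ v)) ≠ v := by
  classical
  by_contra hall
  push Not at hall
  set σ := rep Dt.ψ δ with hσ
  set e := blockIdemBar M B
  have hec : ∀ b, e * b = b * e := fun b => ((isCentralElt_blockIdemBar hB).commute b).eq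
  have hee : e * e = e := blockIdemBar_mul_self hB
  set f := Dt.ε δ * e with hfdef
  have hf : f * f = f := by
    rw [hfdef, mul_assoc, ← mul_assoc e, hec (Dt.ε δ), mul_assoc (Dt.ε δ) e, hee, ← mul_assoc, Dt.hε]
  have hψf : Dt.ψ f = Pi.single δ (Matrix.single 0 0 1) := by
    funext δ'
    rw [hfdef, map_mul, Pi.mul_apply, Dt.hεψ]
    by_cases h : δ' = δ
    · subst h; rw [Dt.psi_blockIdemBar hM hB hδ, mul_one]
    · rw [Pi.single_eq_of_ne h, zero_mul]
  refine hD0 (eq_bot_of_finrank_le_one hM Dt hB hD hδ hf hψf ?_)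
  clear_value f
  set e0 : Fin (Dt.d δ) → Res M := Pi.single 0 1 with he0
  have hA : ∀ w : Fin (Dt.d δ) → Res M, ∃ a, σ (a * f) e0 = w := by
    intro w
    obtain ⟨a, ha⟩ := Dt.surj (Pi.single δ (Matrix.vecMulVec w e0))
    refine ⟨a, ?_⟩
    rw [hσ, rep_apply, map_mul, Pi.mul_apply, ha, hψf, Pi.single_eq_same, Pi.single_eq_same,
      ← Matrix.mulVec_mulVec, he0, Matrix.single_mulVec]
    ext j
    simp [Matrix.mulVec, dotProduct, Matrix.vecMulVec_apply, Pi.single_apply, Finset.sum_ite_eq']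
  have hA' := fun i : Fin (Dt.d δ) => hA (Pi.single i 1)
  choose a ha using hA'
  let S : (Fin (Dt.d δ) → Res M) →ₗ[Res M] MonoidAlgebra (Res M) G :=
    ∑ g : G, ∑ i, (LinearMap.toSpanSingleton (Res M) _ (single g 1 * (a i * f))) ∘ₗ
      LinearMap.proj i ∘ₗ R ∘ₗ Loc.el σ g⁻¹
  have hS : ∀ v, S v = ∑ g : G, ∑ i, (R (Loc.el σ g⁻¹ v)) i • (single g 1 * (a i * f)) := fun v => by
    simp [S]
  have hSeq : ∀ z v, S (σ z v) = z * S v := by
    intro z
    induction z using MonoidAlgebra.induction_on with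
    | of h =>
      intro v
      rw [MonoidAlgebra.of_apply, hS, hS, Finset.mul_sum]
      refine Fintype.sum_equiv (Equiv.mulLeft h⁻¹) _ _ fun g => ?_
      rw [Equiv.coe_mulLeft, Finset.mul_sum]
      refine Finset.sum_congr rfl fun i _ => ?_
      have hh : σ (single h 1) v = Loc.el σ h v := rfl
      rw [hh, mul_smul_comm, ← mul_assoc (single h (1 : Res M)), single_mul_single, mul_one, mul_inv_cancel_left, mul_inv_rev,
        inv_inv, Loc.el_el]
    | add b b' hb hb' => intro v; rw [map_add, LinearMap.add_apply, map_add, hb, hb', add_mul]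
    | smul r b hb => intro v; rw [map_smul, LinearMap.smul_apply, map_smul, hb, smul_mul_assoc]
  have hSinv : ∀ v, σ (S v) e0 = v := by
    intro v
    rw [hS, map_sum, LinearMap.sum_apply]
    refine Eq.trans (Finset.sum_congr rfl fun g _ => ?_) (hall v)
    rw [map_sum, LinearMap.sum_apply]
    conv_rhs => rw [pi_eq_sum_univ' (R (Loc.el σ g⁻¹ v)), map_sum]
    refine Finset.sum_congr rfl fun i _ => ?_
    rw [map_smul, LinearMap.smul_apply, Twist.rho_mul, ha, map_smul]
  have hfe0 : σ f e0 = e0 := by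
    rw [hσ, rep_apply, hψf, Pi.single_eq_same, he0, Matrix.single_mulVec]
    ext j
    simp [Pi.single_apply, Function.update_apply]
  have hcorner : ∀ u, σ (f * u * f) e0 = (Dt.ψ u δ 0 0) • e0 := by
    intro u
    rw [hσ, rep_apply, map_mul, map_mul, Pi.mul_apply, Pi.mul_apply, hψf, Pi.single_eq_same,
      Matrix.single_mul_mul_single, one_mul, mul_one, he0, Matrix.single_mulVec]
    ext j
    simp [Pi.single_apply, Function.update_apply]
  set w := S e0 with hw
  have hfw : f * w = w := by rw [hw, ← hSeq, hfe0]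
  have hwf : w * f = w := by
    rw [hw, hS, Finset.sum_mul]
    refine Finset.sum_congr rfl fun g _ => ?_
    rw [Finset.sum_mul]
    refine Finset.sum_congr rfl fun i _ => ?_
    rw [smul_mul_assoc, mul_assoc, mul_assoc, hf]
  have hψw : Dt.ψ (f - w) = 0 := by
    funext δ'
    rw [map_sub, Pi.sub_apply, ← hfw, ← hwf, ← mul_assoc, map_mul, map_mul, Pi.mul_apply, Pi.mul_apply,
      hψf]
    by_cases h : δ' = δ
    · subst h
      rw [Pi.single_eq_same, Matrix.single_mul_mul_single, one_mul, mul_one]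
      have h1 := hcorner w
      rw [hfw, hwf, hw, hSinv] at h1
      have h2 := congrFun h1 0
      simp [he0] at h2
      rw [← hw] at h2
      simp [← h2]
    · simp [Pi.single_eq_of_ne h]
  set m := f - w with hm
  obtain ⟨N, hN⟩ := Dt.nil m hψw
  have hfm : f * m = m := by rw [hm, mul_sub, hf, hfw]
  have hmf : m * f = m := by rw [hm, sub_mul, hf, hwf]
  have hgeom : ∀ N : ℕ, f * (∑ i ∈ Finset.range N, m ^ i) * (f - m) = f * (1 - m ^ N) := fun N => by
    have hc : Commute (∑ i ∈ Finset.range N, m ^ i) f :=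
      Commute.sum_left _ _ _ fun i _ => ((show Commute f m from hfm.trans hmf.symm).pow_right i).symm
    rw [show f - m = f * (1 - m) by rw [mul_sub, mul_one, hfm], mul_assoc f, ← mul_assoc (∑ i ∈ _, _) f,
      hc.eq, mul_assoc f (∑ i ∈ _, _), ← mul_assoc f f, hf, geom_sum_mul_neg]
  have hsub : f - m = w := by rw [hm, sub_sub_cancel]
  refine (Submodule.finrank_mono (?_ : _ ≤ Submodule.span (Res M) {w})).trans
    ((finrank_span_le_card _).trans (by simp))
  rintro _ ⟨b, rfl⟩
  rw [compr_apply]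
  set u := f * b * f with hu
  set s := ∑ i ∈ Finset.range N, m ^ i
  have hinv : f * s * w = f := by rw [← hsub, hgeom, hN, sub_zero, mul_one]
  have huf : u * f = u := by rw [hu, mul_assoc, hf]
  have hfu : f * u = u := by rw [hu, ← mul_assoc, ← mul_assoc, hf]
  have e1 : u = f * (u * f * s) * f * w := by
    calc u = u * (f * s * w) := by rw [hinv, huf]
      _ = _ := by
        rw [show f * (u * f * s) * f * w = f * u * (f * s) * (f * w) by simp only [mul_assoc], hfu, hfw]
        simp only [mul_assoc]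
  rw [e1, hw, ← hSeq, hcorner, map_smul, ← hw]
  exact Submodule.smul_mem _ _ (Submodule.mem_span_singleton_self _)

/-- The corner of a block with one Brauer character and nontrivial cyclic defect group. -/
theorem exists_corner {B : Set (IrrCharacter G)} (hB : IsPBlock M B) {D : Subgroup G}
    (hD : IsDefectGroup p M B D) (hcyc : IsCyclic D) (hD0 : D ≠ ⊥) {δ : Fin Dt.n}
    (hδ : Dt.block hM δ = B) (huniq : ∀ δ', Dt.block hM δ' = B → δ' = δ) :
    ∃ (f x : MonoidAlgebra (Res M) G) (n : ℕ), 2 ≤ n ∧ f * f = f ∧ f * x = x ∧ x * f = x ∧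
      x ^ n = 0 ∧ x ^ (n - 1) ≠ 0 ∧ blockIdemBar M B * f = f ∧
      Dt.ψ f = Pi.single δ (Matrix.single 0 0 1) ∧
      (∀ z, f * z * f ∈ Submodule.span (Res M) (Set.range fun i : Fin n => x ^ (i : ℕ) * f)) ∧
      ∃ (m : ℕ) (uu vv : Fin m → MonoidAlgebra (Res M) G),
        ∑ j, uu j * f * vv j = blockIdemBar M B := by
  classical
  set e := blockIdemBar M B with he
  set f := Dt.ε δ * e with hfdef
  have hec : ∀ b, e * b = b * e := fun b => ((isCentralElt_blockIdemBar hB).commute b).eq
  have hee : e * e = e := blockIdemBar_mul_self hB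
  have hf : f * f = f := by
    rw [hfdef, mul_assoc, ← mul_assoc e, hec (Dt.ε δ), mul_assoc (Dt.ε δ) e, hee, ← mul_assoc, Dt.hε]
  have hef : e * f = f := by rw [hfdef, ← mul_assoc, hec, mul_assoc, hee]
  have hψf : Dt.ψ f = Pi.single δ (Matrix.single 0 0 1) := by
    funext δ'
    rw [hfdef, map_mul, Pi.mul_apply, Dt.hεψ]
    by_cases h : δ' = δ
    · subst h; rw [Dt.psi_blockIdemBar hM hB hδ, mul_one]
    · rw [Pi.single_eq_of_ne h, zero_mul]
  clear_value f
  let π : MonoidAlgebra (Res M) G →ₗ[Res M] Res M :=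
    Matrix.entryLinearMap (Res M) (Res M) (0 : Fin (Dt.d δ)) 0 ∘ₗ LinearMap.proj δ ∘ₗ Dt.ψ.toLinearMap
  have hπ : ∀ x, π x = Dt.ψ x δ 0 0 := fun x => rfl
  set U := LinearMap.range (compr (Res M) f) with hU
  have hmem : ∀ a ∈ U, Dt.ψ a = Pi.single δ (Matrix.single 0 0 (π a)) := by
    intro a ha
    have h := (mem_range_compr hf).1 ha
    funext b
    rw [hπ, ← h]
    simp only [map_mul, Pi.mul_apply, hψf]
    by_cases hb : b = δ
    · subst hb
      rw [Pi.single_eq_same, Pi.single_eq_same, Matrix.single_mul_mul_single, one_mul, mul_one,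
        Matrix.single_apply_same]
    · rw [Pi.single_eq_of_ne hb, Pi.single_eq_of_ne hb, zero_mul, zero_mul]
  have hπf : π f = 1 := by rw [hπ, hψf, Pi.single_eq_same, Matrix.single_apply_same]
  have hπmul : ∀ a ∈ U, ∀ b ∈ U, π (a * b) = π a * π b := by
    intro a ha b hb
    rw [hπ (a * b), map_mul, Pi.mul_apply, hmem a ha, hmem b hb, Pi.single_eq_same, Pi.single_eq_same,
      Matrix.single_mul_single_same, Matrix.single_apply_same]
  obtain ⟨ar, har, hear⟩ := Cyclic1.exists_relTrace hM hB hD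
  have := Star.isAlgClosed_res (M := M)
  have := charP_residueField hM
  obtain ⟨t, ht, hgen⟩ := Cyclic1.exists_generated (IsDefectGroup.isPGroup hD) har hear hec hf hef π
    hπf hπmul
  set J := U ⊓ LinearMap.ker π with hJ
  have hJnil : ∀ a ∈ J, Dt.ψ a = 0 := fun a ha => by
    rw [hmem a ha.1, LinearMap.mem_ker.1 ha.2, Matrix.single_zero, Pi.single_zero]
  -- the radical is nilpotent
  obtain ⟨N, hN⟩ : ∃ N, (Ring.jacobson (MonoidAlgebra (Res M) G)) ^ N = ⊥ := by
    have : IsArtinianRing (MonoidAlgebra (Res M) G) := IsArtinianRing.of_finite (Res M) _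
    obtain ⟨N, hN⟩ := IsArtinianRing.isNilpotent_jacobson_bot (R := MonoidAlgebra (Res M) G)
    rw [Ideal.jacobson_bot] at hN
    exact ⟨N, hN⟩
  have hker : ∀ x, Dt.ψ x = 0 → x ∈ Ring.jacobson (MonoidAlgebra (Res M) G) := by
    intro x hx
    rw [← Ideal.jacobson_bot, Ideal.mem_jacobson_iff]
    intro y
    have hn : IsNilpotent (-(y * x)) := (Dt.nil _ (by rw [map_mul, hx, mul_zero])).neg
    obtain ⟨u, hu⟩ := hn.isUnit_one_sub
    refine ⟨↑u⁻¹, ?_⟩
    rw [Ideal.mem_bot, mul_assoc, show (↑u⁻¹ : MonoidAlgebra (Res M) G) * (y * x) + ↑u⁻¹ - 1 =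
      ↑u⁻¹ * (1 - -(y * x)) - 1 by rw [mul_sub, mul_one, mul_neg]; abel, ← hu, Units.inv_mul, sub_self]
  have hJJ : J * J ≤ J := Submodule.mul_le.2 fun a ha b hb =>
    ⟨mul_mem_corner hf ha.1 hb.1, by
      rw [SetLike.mem_coe, LinearMap.mem_ker, hπmul a ha.1 b hb.1, LinearMap.mem_ker.1 ha.2, zero_mul]⟩
  have hpowJ : ∀ i, 1 ≤ i → ∀ a ∈ J ^ i, a ∈ (Ring.jacobson (MonoidAlgebra (Res M) G)) ^ i := by
    intro i hi
    induction i with
    | zero => omega
    | succ i ih =>
      rcases Nat.eq_zero_or_pos i with rfl | hi'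
      · intro a ha
        rw [zero_add, Submodule.pow_one] at ha ⊢
        exact hker a (hJnil a ha)
      · intro a ha
        rw [pow_succ] at ha
        refine Submodule.mul_induction_on ha (fun b hb c hc => ?_) fun b c hb hc => add_mem hb hc
        rw [Submodule.pow_succ]
        exact Ideal.mul_mem_mul (ih hi' b hb) (hker c (hJnil c hc))
  have hJN : J ^ (N + 1) = ⊥ := by
    refine eq_bot_iff.2 fun a ha => ?_
    have h := hpowJ (N + 1) (by omega) a ha
    rw [Submodule.pow_succ, hN, Ideal.bot_mul, Ideal.mem_bot] at h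
    exact (Submodule.mem_bot _).2 h
  -- the powers of the generator span
  set P := Submodule.span (Res M) (Set.range fun i : ℕ => t ^ (i + 1)) with hP
  have hPP : P * P ≤ P := by
    rw [hP, Submodule.span_mul_span, Submodule.span_le]
    rintro _ ⟨_, ⟨i, rfl⟩, _, ⟨j, rfl⟩, rfl⟩
    exact Submodule.subset_span ⟨i + j + 1, by
      show t ^ (i + j + 1 + 1) = t ^ (i + 1) * t ^ (j + 1)
      rw [← pow_add]; congr 1; omega⟩
  have htP : Submodule.span (Res M) {t} ≤ P :=
    Submodule.span_le.2 (Set.singleton_subset_iff.2 (Submodule.subset_span ⟨0, by simp⟩))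
  have hPJ : P ≤ J := by
    rw [hP, Submodule.span_le]
    rintro _ ⟨i, rfl⟩
    induction i with
    | zero => simpa using ht
    | succ i ih =>
      show t ^ (i + 1 + 1) ∈ J
      rw [pow_succ]
      exact hJJ (Submodule.mul_mem_mul ih ht)
  have hJP : ∀ n, 1 ≤ n → J ≤ P ⊔ J ^ n := by
    intro n hn
    induction n with
    | zero => omega
    | succ n ih =>
      rcases Nat.eq_zero_or_pos n with rfl | hn'
      · simp
      have ih' := ih hn'
      refine hgen.trans (sup_le (le_sup_of_le_left htP) ?_)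
      refine (mul_le_mul' le_rfl ih').trans ?_
      rw [Submodule.mul_sup]
      refine sup_le ?_ (le_sup_of_le_right (le_of_eq (pow_succ' J n).symm))
      refine (mul_le_mul' ih' le_rfl).trans ?_
      rw [Submodule.sup_mul]
      refine sup_le (le_sup_of_le_left hPP) (le_sup_of_le_right ?_)
      rw [pow_succ]
      exact mul_le_mul' le_rfl hPJ
  have hle : J ≤ P := by
    have h := hJP (N + 1) (by omega)
    rwa [hJN, sup_bot_eq] at h
  have hft : f * t = t := left_mul_of_mem hf ht.1
  have htf : t * f = t := right_mul_of_mem hf ht.1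
  have hex : ∃ n, t ^ n = 0 := ⟨_, (Dt.nil t (hJnil t ht)).choose_spec⟩
  have hfU : f ∈ U := (mem_range_compr hf).2 (by rw [hf, hf])
  have hspan : ∀ z, f * z * f ∈ Submodule.span (Res M)
      (Set.range fun i : Fin (Nat.find hex) => t ^ (i : ℕ) * f) := by
    intro z
    set n := Nat.find hex with hn
    have hn1 : 1 ≤ n := by
      by_contra h0
      have h1 := Nat.find_spec hex
      rw [← hn, show n = 0 by omega, pow_zero] at h1
      exact one_ne_zero h1
    set S := Submodule.span (Res M) (Set.range fun i : Fin n => t ^ (i : ℕ) * f)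
    have hu : f * z * f ∈ U := ⟨z, compr_apply f z⟩
    have hsplit : f * z * f - π (f * z * f) • f ∈ J :=
      ⟨sub_mem hu (U.smul_mem _ hfU), by simp [LinearMap.mem_ker, hπf]⟩
    have hPS : P ≤ S := by
      rw [hP, Submodule.span_le]
      rintro _ ⟨i, rfl⟩
      show t ^ (i + 1) ∈ S
      by_cases hi : i + 1 < n
      · refine Submodule.subset_span ⟨⟨i + 1, hi⟩, ?_⟩
        show t ^ (i + 1) * f = t ^ (i + 1)
        rw [pow_succ, mul_assoc, htf]
      · rw [show i + 1 = n + (i + 1 - n) by omega, pow_add, hn, Nat.find_spec hex, zero_mul]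
        exact S.zero_mem
    rw [← sub_add_cancel (f * z * f) (π (f * z * f) • f)]
    exact add_mem (hPS (hle hsplit))
      (S.smul_mem _ (Submodule.subset_span ⟨⟨0, hn1⟩, by simp⟩))
  have hn2 : 2 ≤ Nat.find hex := by
    by_contra h
    refine hD0 (eq_bot_of_finrank_le_one hM Dt hB hD hδ hf hψf ?_)
    refine (Submodule.finrank_mono (?_ : U ≤ Submodule.span (Res M)
      (Set.range fun i : Fin (Nat.find hex) => t ^ (i : ℕ) * f))).trans ?_
    · rintro _ ⟨z, rfl⟩
      rw [compr_apply]
      exact hspan z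
    · refine (finrank_range_le_card _).trans ?_
      rw [Fintype.card_fin]
      omega
  refine ⟨f, t, Nat.find hex, hn2, hf, hft, htf, Nat.find_spec hex,
    Nat.find_min hex (by omega), hef, hψf, hspan, ?_⟩
  -- the block is generated by the idempotent
  choose a ha using fun i : Fin (Dt.d δ) => Dt.surj (Pi.single δ (Matrix.single i 0 1))
  choose b hb using fun i : Fin (Dt.d δ) => Dt.surj (Pi.single δ (Matrix.single 0 i 1))
  set w := ∑ i, a i * f * b i with hw
  have hψw : Dt.ψ (e - e * w) = 0 := by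
    funext δ'
    rw [map_sub, map_mul, Pi.sub_apply, Pi.mul_apply, hw, map_sum, Finset.sum_apply]
    by_cases h : δ' = δ
    · subst h
      rw [Dt.psi_blockIdemBar hM hB hδ, one_mul]
      simp only [map_mul, Pi.mul_apply, ha, hb, hψf, Pi.single_eq_same,
        Matrix.single_mul_single_same, one_mul, mul_one]
      rw [Pi.zero_apply, sub_eq_zero]
      ext r s
      rw [Matrix.sum_apply, Matrix.one_apply]
      by_cases hrs : r = s
      · subst hrs
        rw [if_pos rfl, Finset.sum_eq_single r]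
        · simp
        · intro c _ hc; simp [hc]
        · simp
      · rw [if_neg hrs, Finset.sum_eq_zero fun c _ => ?_]
        rw [Matrix.single_apply, if_neg]
        rintro ⟨rfl, rfl⟩
        exact hrs rfl
    · rw [Dt.psi_blockIdemBar_of_ne hM hB (fun h' => h (huniq δ' h')), zero_mul, sub_zero]
      rfl
  obtain ⟨N', hN'⟩ := Dt.nil _ hψw
  set m := e - e * w with hmdef
  have hem : e * m = m := by rw [hmdef, mul_sub, hee, ← mul_assoc, hee]
  have hgeom : ∀ N : ℕ, (∑ i ∈ Finset.range N, e * m ^ i) * (e - m) = e * (1 - m ^ N) := fun N => by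
    rw [← Finset.mul_sum, show e - m = e * (1 - m) by rw [mul_sub, mul_one, hem], ← mul_assoc,
      mul_assoc e (∑ i ∈ _, _) e, ← hec (∑ i ∈ _, _), ← mul_assoc e e, hee, mul_assoc,
      geom_sum_mul_neg]
  refine ⟨Dt.d δ, fun i => (∑ j ∈ Finset.range N', e * m ^ j) * e * a i, b, ?_⟩
  simp only [mul_assoc ((∑ j ∈ Finset.range N', e * m ^ j) * e)]
  rw [← Finset.mul_sum, ← hw, mul_assoc, show e * w = e - m by rw [hmdef, sub_sub_cancel], hgeom, hN',
    sub_zero, mul_one]

end CfsgLib.CyclicRank
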