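import Cfsg.Agent.Lib.Blocks.CyclicRank.Trace

/-!
# The factors of a block and the degrees of their witnesses

Each degree occurs as a witness in exactly one factor, each factor has a witness in exactly one
degree: there are as many factors as degrees.
-/

set_option autoImplicit false

namespace CfsgLib.CyclicRank.Loc

open MonoidAlgebra CfsgLib.Blocks

attribute [local instance] Fintype.ofFinite

variable {k : Type*} [Field k] {G : Type*} [Group G] [Fintype G] (L : Loc k G)

section Rep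

variable {V V' : Type*} [AddCommGroup V] [Module k V] [AddCommGroup V'] [Module k V']
  (ρ : MonoidAlgebra k G →ₐ[k] Module.End k V) (ρ' : MonoidAlgebra k G →ₐ[k] Module.End k V')

/-- A corner map gives an equivariant map congruent to `e` times it. -/
theorem exists_glob [FiniteDimensional k V'] {γ₀ : V →ₗ[k] V'}
    (h1 : ∀ w, ρ' L.f (γ₀ w) = γ₀ w) (h2 : ∀ w, γ₀ (ρ L.f w) = γ₀ w)
    (hx : ∀ w, γ₀ (ρ L.x w) = ρ' L.x (γ₀ w)) (hg : ∀ w, γ₀ (ρ L.g w) = ρ' L.g (γ₀ w)) :
    ∃ Γ : V →ₗ[k] V', (∀ z w, Γ (ρ z w) = ρ' z (Γ w)) ∧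
      ∀ v, ρ L.f v = v → ρ (L.x ^ (L.n - 1)) v = 0 →
        ρ' L.f (Γ v) - (L.e : k) • γ₀ v ∈ LinearMap.range (ρ' L.x) := by
  have hT : ∀ t ∈ L.T, ∀ v, L.ext ρ ρ' γ₀ (el ρ t v) = el ρ' t (L.ext ρ ρ' γ₀ v) := fun t ht v =>
    L.ext_comm ρ ρ' h1 h2 hx hg (single_mem_suppIn ht 1) v
  refine ⟨L.glob ρ ρ' (L.ext ρ ρ' γ₀), L.glob_comm ρ ρ' hT, fun v hv hv0 => ?_⟩
  have h := L.glob_congr ρ ρ' hT (L.ext_ec ρ ρ' h1 h2) (L.ext_ec_left ρ ρ' h1 h2) hv hv0
  rwa [L.ext_corner ρ ρ' h1 h2 hx hg hv] at h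

/-- The sum of the conjugates of the local block idempotent. -/
noncomputable def zc : MonoidAlgebra k G :=
  ∑ r : G ⧸ L.H, single r.out (1 : k) * L.ec * single r.out⁻¹ 1

theorem zc_term_mul (q : G) {h : G} (hh : h ∈ L.H) :
    single (q * h) (1 : k) * L.ec * single (q * h)⁻¹ 1 = single q 1 * L.ec * single q⁻¹ 1 := by
  have hc := L.hecT _ (L.suppT (single_mem_suppIn hh (1 : k)))
  rw [show single (q * h) (1 : k) = single q 1 * single h 1 by rw [single_mul_single, mul_one],
    mul_assoc (single q (1 : k)) (single h 1), ← hc, mul_assoc, mul_assoc L.ec, single_mul_single,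
    mul_inv_rev, mul_inv_cancel_left, mul_one, ← mul_assoc]

theorem zc_central (a : MonoidAlgebra k G) : L.zc * a = a * L.zc := by
  induction a using MonoidAlgebra.induction_on with
  | of h =>
    rw [MonoidAlgebra.of_apply, zc, Finset.sum_mul, Finset.mul_sum]
    refine (sum_translate L.H (fun q => single q (1 : k) * L.ec * single q⁻¹ 1 * single h 1)
      (fun q d hd => by rw [L.zc_term_mul q hd]) h).symm.trans ?_
    refine Finset.sum_congr rfl fun q _ => ?_
    rw [← mul_assoc, ← mul_assoc, single_mul_single, mul_one, mul_assoc, single_mul_single, mul_one,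
      mul_inv_rev, inv_mul_cancel_right]
  | add a b ha hb => rw [mul_add, add_mul, ha, hb]
  | smul r a ha => rw [mul_smul_comm, smul_mul_assoc, ha]

/-- The sum of the conjugates is congruent to `e` on short vectors of the corner. -/
theorem zc_congr [FiniteDimensional k V] {v : V} (hv : ρ L.f v = v)
    (hv0 : ρ (L.x ^ (L.n - 1)) v = 0) :
    ρ L.f (ρ L.zc v) - (L.e : k) • v ∈ LinearMap.range (ρ L.x) := by
  have hT : ∀ t ∈ L.T, ∀ w, ρ L.ec (el ρ t w) = el ρ t (ρ L.ec w) := fun t ht w => by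
    rw [← Twist.rho_mul, ← Twist.rho_mul, L.hecT _ (single_mem_suppIn ht 1)]
  have hec : ∀ w, ρ L.ec (ρ L.ec w) = ρ L.ec w := fun w => by rw [← Twist.rho_mul, L.ec_sq]
  have h := L.glob_congr ρ ρ (γ := ρ L.ec) hT hec hec hv hv0
  have hglob : L.glob ρ ρ (ρ L.ec) = ρ L.zc := by
    refine LinearMap.ext fun w => ?_
    simp only [glob, LinearMap.sum_apply, zc, map_sum]
    rw [sum_cosets L.hDH (fun q => L.term ρ ρ (ρ L.ec) q w)
      (fun q d hd => by rw [L.term_mul ρ ρ hT q hd])]
    refine Finset.sum_congr rfl fun r _ => ?_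
    have hterm : ∀ s : L.H ⧸ L.D.subgroupOf L.H,
        L.term ρ ρ (ρ L.ec) (r.out * (s.out : L.H)) w =
          el ρ r.out (ρ L.ec (ρ (single ((s.out : L.H) : G) 1 * L.a * single ((s.out : L.H) : G)⁻¹ 1)
            (el ρ r.out⁻¹ w))) := fun s => by
      simp only [term, LinearMap.comp_apply]
      rw [Twist.rho_mul, Twist.rho_mul, hT _ (L.hHT (s.out : L.H).2), el_el, el_el, mul_inv_rev]
    rw [Finset.sum_congr rfl fun s _ => hterm s, ← map_sum, ← map_sum, ← LinearMap.sum_apply,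
      ← map_sum, ← finsum_eq_sum_of_fintype, L.hatr, hec, ← Twist.rho_mul, ← Twist.rho_mul]
  rwa [hglob, show ρ L.f (ρ L.ec v) = v by rw [← Twist.rho_mul, L.f_ec, hv]] at h

/-- Without witnesses the conjugates of the idempotent sum to a trace from the trivial group. -/
theorem exists_trace_of_no_witness [FiniteDimensional k V] (h : ∀ t, ¬ L.toTwist.Wit ρ t) :
    ∃ R : V →ₗ[k] V, ∀ v, ∑ g : G, el ρ g (R (el ρ g⁻¹ v)) = ρ L.zc v := by
  classical
  have hn := L.hn
  obtain ⟨P, hP⟩ := L.toTwist.exists_homotopy ρ h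
  let b := Module.finBasis k V
  let φ : Fin (Module.finrank k V) → V →ₗ[k] k := fun l => b.coord l ∘ₗ P
  let θ : Fin (Module.finrank k V) → V →ₗ[k] MonoidAlgebra k G := fun l =>
    ∑ i ∈ Finset.range L.n, (LinearMap.toSpanSingleton k _ (L.x ^ i * L.f)) ∘ₗ φ l ∘ₗ
      ρ (L.x ^ (L.n - 1 - i)) ∘ₗ ρ L.f
  have hθ : ∀ l w, θ l w =
      ∑ i ∈ Finset.range L.n, φ l (ρ (L.x ^ (L.n - 1 - i)) (ρ L.f w)) • (L.x ^ i * L.f) :=
    fun l w => by simp [θ]
  have hθf : ∀ l w, θ l (ρ L.f w) = θ l w := fun l w => by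
    rw [hθ, hθ]
    simp only [← Twist.rho_mul ρ L.f, L.hff]
  have hθx : ∀ l w, θ l (ρ L.x w) = L.x * θ l w := by
    intro l w
    rw [hθ, hθ, Finset.mul_sum]
    obtain ⟨n', hn'⟩ : ∃ n', L.n = n' + 1 := ⟨L.n - 1, by omega⟩
    rw [hn', Finset.sum_range_succ', Finset.sum_range_succ]
    have e1 : ∀ j, ρ (L.x ^ j) (ρ L.f (ρ L.x w)) = ρ (L.x ^ (j + 1)) (ρ L.f w) := fun j => by
      rw [← Twist.rho_mul, ← Twist.rho_mul, ← Twist.rho_mul, mul_assoc, L.hfx, pow_succ,
        mul_assoc (L.x ^ j) L.x, L.hxf]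
    congr 1
    · refine Finset.sum_congr rfl fun i hi => ?_
      rw [Finset.mem_range] at hi
      rw [e1, mul_smul_comm, ← mul_assoc, ← pow_succ',
        show n' + 1 - 1 - (i + 1) + 1 = n' + 1 - 1 - i by omega]
    · rw [e1, mul_smul_comm, ← mul_assoc, ← pow_succ', ← hn']
      rw [show L.n - 1 - 0 + 1 = L.n by omega, L.hxn, map_zero, LinearMap.zero_apply, map_zero,
        zero_smul, zero_mul, smul_zero]
  have hθU : ∀ l, ∀ z ∈ suppIn k (L.H : Set G), ∀ w,
      θ l (ρ (L.f * z * L.f) w) = L.f * z * L.f * θ l w := by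
    intro l z hz
    have hz' := L.hU z hz
    generalize L.f * z * L.f = u at hz' ⊢
    have hpow : ∀ (i : ℕ) w, θ l (ρ (L.x ^ i) w) = L.x ^ i * θ l w := fun i => by
      induction i with
      | zero => intro w; simp
      | succ i ih => intro w; rw [pow_succ', Twist.rho_mul, hθx, ih, mul_assoc]
    have hfθ : ∀ w, L.f * θ l w = θ l w := fun w => by
      rw [hθ, Finset.mul_sum]
      refine Finset.sum_congr rfl fun i _ => ?_
      rw [mul_smul_comm, ← mul_assoc, ((L.toTwist.xf_comm.pow_left i).symm).eq, mul_assoc, L.hff]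
    induction hz' using Submodule.span_induction with
    | mem u hu =>
      obtain ⟨i, rfl⟩ := hu
      intro w
      rw [Twist.rho_mul, hpow, hθf, mul_assoc, hfθ]
    | zero => simp
    | add u u' _ _ hu hu' => intro w; simp [hu, hu', add_mul]
    | smul r u _ hu => intro w; simp [hu]
  let y : Fin (Module.finrank k V) → V →ₗ[k] MonoidAlgebra k G := fun l =>
    ∑ j, LinearMap.mulLeft k (L.uu j) ∘ₗ θ l ∘ₗ ρ (L.f * L.vv j)
  have hy : ∀ l s, y l s = ∑ j, L.uu j * θ l (ρ (L.f * L.vv j) s) := fun l s => by simp [y]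
  have hyH : ∀ l s, y l s ∈ suppIn k (L.H : Set G) := fun l s => by
    rw [hy]
    refine Submodule.sum_mem _ fun j _ => mul_mem_subgroup (L.huH j) ?_
    rw [hθ]
    exact Submodule.sum_mem _ fun i _ => Submodule.smul_mem _ _
      (mul_mem_subgroup (pow_mem_subgroup L.hxH i) L.hfH)
  have hyeq : ∀ l, ∀ z ∈ suppIn k (L.H : Set G), ∀ s, y l (ρ z s) = z * y l s := by
    intro l z hz s
    have hstep : ∀ j, θ l (ρ (L.f * L.vv j) (ρ z s)) =
        ∑ j', L.f * (L.vv j * z * L.uu j') * L.f * θ l (ρ (L.f * L.vv j') s) := fun j => by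
      simp only [← hθU l _ (mul_mem_subgroup (mul_mem_subgroup (L.hvH j) hz) (L.huH _))]
      rw [← map_sum]
      refine congrArg (θ l) ?_
      simp only [← Twist.rho_mul]
      rw [← LinearMap.sum_apply, ← map_sum]
      refine congrArg (fun u => ρ u s) ?_
      calc L.f * L.vv j * z = L.f * (L.vv j * z) * L.ec := by
            rw [mul_assoc L.f (L.vv j * z), ← L.hecT _ (L.suppT (mul_mem_subgroup (L.hvH j) hz)),
              ← mul_assoc L.f L.ec, L.f_ec, mul_assoc]
        _ = ∑ l, L.f * (L.vv j * z * L.uu l) * L.f * (L.f * L.vv l) := by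
            rw [← L.hdec, Finset.mul_sum]
            refine Finset.sum_congr rfl fun l _ => ?_
            rw [show L.f * (L.vv j * z * L.uu l) * L.f * (L.f * L.vv l) =
              L.f * (L.vv j * z * L.uu l) * (L.f * L.f) * L.vv l by simp only [mul_assoc], L.hff]
            simp only [mul_assoc]
    rw [hy, hy, Finset.mul_sum]
    simp only [hstep, Finset.mul_sum]
    rw [Finset.sum_comm]
    refine Finset.sum_congr rfl fun j' _ => ?_
    have hfθ' : L.f * θ l (ρ (L.f * L.vv j') s) = θ l (ρ (L.f * L.vv j') s) := by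
      rw [hθ, Finset.mul_sum]
      refine Finset.sum_congr rfl fun i _ => ?_
      rw [mul_smul_comm, ← mul_assoc, ((L.toTwist.xf_comm.pow_left i).symm).eq, mul_assoc, L.hff]
    calc ∑ j, L.uu j * (L.f * (L.vv j * z * L.uu j') * L.f * θ l (ρ (L.f * L.vv j') s))
        = L.ec * (z * L.uu j' * L.f) * θ l (ρ (L.f * L.vv j') s) := by
          rw [← L.hdec, Finset.sum_mul, Finset.sum_mul]
          simp only [mul_assoc]
      _ = z * (L.uu j' * θ l (ρ (L.f * L.vv j') s)) := by
          rw [show z * L.uu j' * L.f = z * (L.uu j' * L.f) by rw [mul_assoc], ← mul_assoc,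
            L.hecT z (L.suppT hz), mul_assoc z L.ec, L.ec_uf, mul_assoc z, mul_assoc (L.uu j'), hfθ']
  have hsum : ∀ s, ∑ l, ρ (y l s) (b l) = ρ L.ec s := by
    intro s
    simp only [hy, hθ, Finset.mul_sum, mul_smul_comm, map_sum, map_smul, LinearMap.sum_apply,
      LinearMap.smul_apply]
    rw [Finset.sum_comm, ← L.hdec, map_sum, LinearMap.sum_apply]
    refine Finset.sum_congr rfl fun j _ => ?_
    rw [Finset.sum_comm]
    have hfix : ρ L.f (ρ (L.f * L.vv j) s) = ρ (L.f * L.vv j) s := by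
      rw [← Twist.rho_mul, ← mul_assoc, L.hff]
    rw [show ρ (L.uu j * L.f * L.vv j) s = ρ (L.uu j) (ρ (L.f * L.vv j) s) by
      rw [← Twist.rho_mul, mul_assoc]]
    conv_rhs => rw [← hfix]
    conv_rhs => arg 2; arg 2; rw [← hP _ hfix]
    rw [map_sum, map_sum]
    refine Finset.sum_congr rfl fun i _ => ?_
    simp only [φ, LinearMap.comp_apply, ← map_smul, ← map_sum, Module.Basis.coord_apply, b.sum_repr]
    rw [hfix, ← Twist.rho_mul, ← Twist.rho_mul, (L.toTwist.xf_comm.pow_left i).eq, ← Twist.rho_mul,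
      mul_assoc]
  let R₁ : V →ₗ[k] V := ∑ l, (LinearMap.toSpanSingleton k V (b l)) ∘ₗ
    (Finsupp.lapply (1 : G) ∘ₗ (MonoidAlgebra.coeffLinearEquiv k).toLinearMap) ∘ₗ y l
  have hR₁ : ∀ s, R₁ s = ∑ l, (y l s).coeff 1 • b l := fun s => by simp [R₁]
  have hec : ∀ s, ∑ c : L.H, el ρ (c : G) (R₁ (el ρ (c : G)⁻¹ s)) = ρ L.ec s := by
    intro s
    rw [← hsum]
    simp only [hR₁, map_sum, map_smul]
    rw [Finset.sum_comm]
    refine Finset.sum_congr rfl fun l _ => ?_
    have hexp : y l s = ∑ c : L.H, (y l s).coeff (c : G) • single (c : G) (1 : k) := by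
      refine MonoidAlgebra.ext (Finsupp.ext fun x => ?_)
      simp only [MonoidAlgebra.coeff_sum, Finsupp.coe_finsetSum, Finset.sum_apply, coeff_smul,
        Finsupp.smul_apply, MonoidAlgebra.coeff_single, Finsupp.single_apply, smul_eq_mul, mul_ite,
        mul_one, mul_zero]
      by_cases hx : x ∈ L.H
      · rw [Finset.sum_eq_single ⟨x, hx⟩] <;> simp +contextual [Subtype.ext_iff]
      · rw [hyH l s x hx]
        symm
        refine Finset.sum_eq_zero fun c _ => if_neg fun e => hx ?_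
        rw [← e]
        exact c.2
    conv_rhs => rw [hexp]
    simp only [map_sum, LinearMap.sum_apply, map_smul, LinearMap.smul_apply]
    refine Finset.sum_congr rfl fun c _ => ?_
    rw [hyeq l _ (single_mem_suppIn (inv_mem c.2) _), coeff_mul_eq_sum,
      Finset.sum_eq_single (c : G)⁻¹]
    · simp [MonoidAlgebra.coeff_single]
    · intro g _ hg; simp [MonoidAlgebra.coeff_single, Ne.symm hg]
    · simp
  refine ⟨R₁, fun v => ?_⟩
  rw [sum_group L.H, zc, map_sum, LinearMap.sum_apply]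
  refine Finset.sum_congr rfl fun r _ => ?_
  rw [Twist.rho_mul, Twist.rho_mul, ← hec, map_sum]
  refine Finset.sum_congr rfl fun c _ => ?_
  rw [mul_inv_rev, el_el, el_el]

end Rep

variable {m : ℕ} {d : Fin m → ℕ}
  {ψ : MonoidAlgebra k G →ₐ[k] Π i, Matrix (Fin (d i)) (Fin (d i)) k}

/-- Each degree has a witness in a factor of the block. -/
theorem exists_factor_witness (hsurj : Function.Surjective ψ)
    (hnil : ∀ a, ψ a = 0 → IsNilpotent a) {eB : MonoidAlgebra k G}
    (hB : ∀ a, eB * a = a * eB) (hB2 : eB * eB = eB)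
    (hres : IsNilpotent (L.f * cut k (L.H : Set G) eB * L.f - L.f)) (t : ℕ) :
    ∃ δ, ψ eB δ ≠ 0 ∧ L.toTwist.Wit (rep ψ δ) t := by
  classical
  have hn := L.hn
  set vt : (MonoidAlgebra k G) := L.toTwist.proj t * L.x ^ (L.n - 1) with hvt
  have hxvt : L.x * vt = 0 := by
    have hz : ∀ s, L.x * L.toTwist.proj s * L.x ^ (L.n - 1) = 0 := by
      intro s
      have h1 := L.toTwist.proj_x (s + 1)
      have h2 : L.toTwist.proj (s + 1 + (L.e - 1)) = L.toTwist.proj s := by
        simp only [Twist.proj]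
        congr 1
        refine Finset.sum_congr rfl fun i _ => ?_
        congr 1
        obtain ⟨e', he'⟩ : ∃ e', L.e = e' + 1 := ⟨L.e - 1, by have := L.toTwist.one_le_e; omega⟩
        refine L.toTwist.zeta_congr 0 (i * e') ?_
        rw [he', Nat.add_sub_cancel]
        ring
      rw [h2] at h1
      rw [← h1, mul_assoc, ← pow_succ', Nat.sub_add_cancel (by omega), L.hxn, mul_zero]
    rw [hvt, ← mul_assoc, hz]
  have hfvt : L.f * vt = vt := by rw [hvt, ← mul_assoc, L.toTwist.f_proj]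
  have hgvt : L.g * vt = L.ζ ^ t • vt := by rw [hvt, ← mul_assoc, L.toTwist.g_proj, smul_mul_assoc]
  have hxf : L.f * L.x ^ (L.n - 1) = L.x ^ (L.n - 1) := L.toTwist.f_pow_x (by omega)
  -- the truncations
  have hvtT : vt ∈ suppIn k (L.T : Set G) := by
    refine mul_mem_subgroup ?_ (pow_mem_subgroup (L.suppT L.hxH) _)
    exact Submodule.smul_mem _ _ (Submodule.sum_mem _ fun i _ => Submodule.smul_mem _ _
      (mul_mem_subgroup (pow_mem_subgroup L.hgT i) (L.suppT L.hfH)))
  have hTkill : ∀ z ∈ suppIn k (L.T : Set G), L.x * (z * vt) = 0 := by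
    intro z hz
    rw [show L.x * (z * vt) = L.x * (L.f * z * L.f) * vt by
      rw [mul_assoc L.x, mul_assoc (L.f * z), hfvt, mul_assoc L.f, ← mul_assoc L.x L.f, L.hxf]]
    have hz' := L.hTf z hz
    generalize L.f * z * L.f = u at hz' ⊢
    induction hz' using Submodule.span_induction with
    | mem u hu =>
      obtain ⟨q, rfl⟩ := hu
      have hgq : ∀ i : ℕ, L.g ^ i * vt = L.ζ ^ (t * i) • vt := fun i => by
        induction i with
        | zero => simp
        | succ i ih =>
          rw [pow_succ', mul_assoc, ih, mul_smul_comm, hgvt, smul_smul, ← pow_add, Nat.mul_succ]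
      rw [mul_assoc, mul_assoc, hfvt, mul_assoc, hgq, mul_smul_comm, mul_smul_comm, ← mul_assoc,
        ← pow_succ', pow_succ, mul_assoc, hxvt, mul_zero, smul_zero]
    | zero => simp
    | add u u' _ _ hu hu' => rw [mul_add, add_mul, hu, hu', add_zero]
    | smul r u _ hu => rw [mul_smul_comm, smul_mul_assoc, hu, smul_zero]
  have hcutT : cut k (L.T : Set G) eB * vt = vt := by
    set r := cut k (L.T : Set G) eB with hr
    have hrc : ∀ z ∈ suppIn k (L.T : Set G), r * z = z * r := fun z hz => by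
      rw [hr, ← mul_cut hz, ← cut_mul hz, hB]
    have hrT := cut_mem (k := k) (L.T : Set G) eB
    obtain ⟨c, hc⟩ := (Submodule.mem_span_range_iff_exists_fun k).1 (L.hTf r hrT)
    have hgvt' : ∀ i : ℕ, L.g ^ i * vt = L.ζ ^ (t * i) • vt := fun i => by
      induction i with
      | zero => simp
      | succ i ih =>
        rw [pow_succ', mul_assoc, ih, mul_smul_comm, hgvt, smul_smul, ← pow_add, Nat.mul_succ]
    -- the coefficients on a coset
    have hcomp : ∀ (c : Fin L.n × Fin L.e → k) (l : Fin L.e),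
        cut k (L.H : Set G) ((∑ q, c q • (L.x ^ (q.1 : ℕ) * L.g ^ (q.2 : ℕ) * L.f)) * L.g ^ (L.e - l.1)) =
          ∑ i : Fin L.n, c (i, l) • (L.x ^ (i : ℕ) * L.f) := by
      intro c l
      have he1 := L.toTwist.one_le_e
      have hfg : ∀ j, 1 ≤ j → L.f * L.g ^ j = L.g ^ j := fun j hj => by
        obtain ⟨j', rfl⟩ : ∃ j', j = j' + 1 := ⟨j - 1, by omega⟩
        rw [pow_succ', ← mul_assoc, L.hfg]
      rw [Finset.sum_mul, map_sum, Fintype.sum_prod_type]
      refine Finset.sum_congr rfl fun i _ => ?_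
      rw [Finset.sum_eq_single l]
      · rw [smul_mul_assoc, map_smul, mul_assoc, hfg _ (by omega), mul_assoc, ← pow_add,
          show (l : ℕ) + (L.e - l) = L.e by omega, L.hge,
          cut_eq_self (mul_mem_subgroup (pow_mem_subgroup L.hxH _) L.hfH)]
      · intro l' _ hl'
        rw [smul_mul_assoc, map_smul, mul_assoc, hfg _ (by omega), mul_assoc, ← pow_add,
          cut_mul (pow_mem_subgroup L.hxH _)]
        have hl'' : l'.1 ≠ l.1 := fun h => hl' (Fin.ext h)
        have h0 : cut k (L.H : Set G) (L.g ^ ((l' : ℕ) + (L.e - l))) = 0 := by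
          by_cases hle : l'.1 < l.1
          · exact L.hgl _ (by omega) (by omega)
          · rw [show (l' : ℕ) + (L.e - l) = L.e + (l'.1 - l.1) by omega, pow_add, L.hge,
              hfg _ (by omega)]
            exact L.hgl _ (by omega) (by omega)
        rw [h0, mul_zero, smul_zero]
      · simp
    have hindep : ∀ (c : Fin L.n → k), ∑ i, c i • (L.x ^ (i : ℕ) * L.f) = 0 → ∀ i, c i = 0 := by
      intro c hc i
      induction i using WellFoundedLT.induction with
      | _ i ih =>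
        have h := congrArg (L.x ^ (L.n - 1 - i.1) * ·) hc
        simp only [Finset.mul_sum, mul_smul_comm, mul_zero] at h
        rw [Finset.sum_eq_single i] at h
        · rw [← mul_assoc, ← pow_add, show L.n - 1 - i.1 + i.1 = L.n - 1 by omega,
            L.toTwist.pow_x_f (by omega), smul_eq_zero] at h
          exact h.resolve_right L.hx0
        · intro j _ hj
          rcases lt_or_gt_of_ne hj with hlt | hgt
          · rw [ih j hlt, zero_smul]
          · have : i.1 < j.1 := hgt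
            rw [← mul_assoc, ← pow_add, show L.n - 1 - i.1 + j.1 = L.n + (j.1 - i.1 - 1) by omega,
              pow_add, L.hxn, zero_mul, zero_mul, smul_zero]
        · simp
    -- the scalar on the trivial coset
    have he1 := L.toTwist.one_le_e
    have hzero : c (⟨0, by omega⟩, ⟨0, by omega⟩) = 1 := by
      have h := hcomp c ⟨0, by omega⟩
      rw [hc, Nat.sub_zero, L.hge, mul_assoc, L.hff, mul_cut L.hfH, cut_mul L.hfH] at h
      have hr2 : cut k (L.H : Set G) r = cut k (L.H : Set G) eB :=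
        MonoidAlgebra.ext (Finsupp.ext fun g => by
          rw [hr, coeff_cut, coeff_cut]
          by_cases hg : g ∈ L.H
          · rw [Set.indicator_of_mem (show g ∈ (L.H : Set G) from hg),
              Set.indicator_of_mem (show g ∈ (L.H : Set G) from hg), coeff_cut,
              Set.indicator_of_mem (show g ∈ (L.T : Set G) from L.hHT hg)]
          · rw [Set.indicator_of_notMem (show g ∉ (L.H : Set G) from hg),
              Set.indicator_of_notMem (show g ∉ (L.H : Set G) from hg)])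
      rw [hr2] at h
      obtain ⟨N, hN⟩ := hres
      set u := L.f * cut k (L.H : Set G) eB * L.f - L.f with hu
      set c0 := c (⟨0, by omega⟩, ⟨0, by omega⟩) with hc0
      have h1 : L.x ^ (L.n - 1) * u = (c0 - 1) • L.x ^ (L.n - 1) := by
        rw [hu, h, mul_sub, L.toTwist.pow_x_f (by omega), sub_smul, one_smul, Finset.mul_sum,
          Finset.sum_eq_single (⟨0, by omega⟩ : Fin L.n)]
        · rw [mul_smul_comm, pow_zero, one_mul, L.toTwist.pow_x_f (by omega)]
        · intro i _ hi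
          have hi0 : i.1 ≠ 0 := fun h => hi (Fin.ext h)
          rw [mul_smul_comm, ← mul_assoc, ← pow_add, show L.n - 1 + i.1 = L.n + (i.1 - 1) by omega,
            pow_add, L.hxn, zero_mul, zero_mul, smul_zero]
        · simp
      have h2 : ∀ j : ℕ, L.x ^ (L.n - 1) * u ^ j = (c0 - 1) ^ j • L.x ^ (L.n - 1) := by
        intro j
        induction j with
        | zero => simp
        | succ j ih => rw [pow_succ u, ← mul_assoc, ih, smul_mul_assoc, h1, smul_smul, ← pow_succ]
      have h3 := h2 N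
      rw [hN, mul_zero, eq_comm, smul_eq_zero] at h3
      exact sub_eq_zero.1 ((pow_eq_zero_iff (fun e => by simp [e] at h3; exact L.hx0 h3)).1
        (h3.resolve_right L.hx0))
    have hoff : ∀ (i : Fin L.n) (l : Fin L.e), l.1 ≠ 0 → i.1 < L.n - 1 → c (i, l) = 0 := by
      intro i l hl hi
      have hcomm : L.x * (L.f * r * L.f) = L.f * r * L.f * L.x := by
        have hxT := L.suppT L.hxH
        rw [show L.x * (L.f * r * L.f) = L.x * r * L.f by rw [← mul_assoc, ← mul_assoc, L.hxf],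
          show L.f * r * L.f * L.x = L.f * (r * L.x) by rw [mul_assoc, mul_assoc, L.hfx],
          hrc _ hxT, ← mul_assoc, L.hfx, mul_assoc L.x r, hrc _ (L.suppT L.hfH), ← mul_assoc, L.hxf]
      rw [← hc] at hcomm
      let c' : Fin L.n × Fin L.e → k := fun q =>
        if h : q.1.1 = 0 then 0 else c (⟨q.1.1 - 1, by omega⟩, q.2) * (1 - L.ζ ^ q.2.1)
      have hc' : ∑ q, c' q • (L.x ^ (q.1 : ℕ) * L.g ^ (q.2 : ℕ) * L.f) = 0 := by
        rw [Finset.mul_sum, Finset.sum_mul, ← sub_eq_zero, ← Finset.sum_sub_distrib] at hcomm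
        refine Eq.trans ?_ hcomm
        rw [Fintype.sum_prod_type, Fintype.sum_prod_type]
        conv_lhs => rw [Finset.sum_comm]
        conv_rhs => rw [Finset.sum_comm]
        refine Finset.sum_congr rfl fun l' _ => ?_
        obtain ⟨n', hn'⟩ : ∃ n', L.n = n' + 1 := ⟨L.n - 1, by omega⟩
        have hterm : ∀ i : Fin L.n,
            L.x * (c (i, l') • (L.x ^ (i : ℕ) * L.g ^ (l' : ℕ) * L.f)) -
              c (i, l') • (L.x ^ (i : ℕ) * L.g ^ (l' : ℕ) * L.f) * L.x =
            (c (i, l') * (1 - L.ζ ^ l'.1)) • (L.x ^ (i.1 + 1) * L.g ^ (l' : ℕ) * L.f) := by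
          intro i
          have e0 : L.x ^ (i.1 + 1) * L.g ^ (l' : ℕ) * L.f = L.x ^ (i.1 + 1) * L.g ^ (l' : ℕ) := by
            rw [mul_assoc, (L.toTwist.gf_comm.pow_left _).eq, ← mul_assoc,
              L.toTwist.pow_x_f (by omega)]
          rw [mul_smul_comm, smul_mul_assoc, mul_assoc (L.x ^ (i : ℕ) * L.g ^ (l' : ℕ)), L.hfx,
            mul_assoc (L.x ^ (i : ℕ)) _ L.x, L.toTwist.g_pow_x, mul_smul_comm, ← mul_assoc L.x,
            ← mul_assoc L.x, ← pow_succ', ← mul_assoc (L.x ^ (i : ℕ)), ← pow_succ, e0, smul_smul,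
            mul_sub, mul_one, sub_smul]
        rw [Finset.sum_congr rfl fun i _ => hterm i]
        have key : ∀ (N n' : ℕ) (hn : N = n' + 1) (F : ℕ → MonoidAlgebra k G), F N = 0 →
            ∀ (a : Fin N → k),
            ∑ i : Fin N, (if h : i.1 = 0 then (0 : k) else a ⟨i.1 - 1, by omega⟩) • F i.1 =
              ∑ i : Fin N, a i • F (i.1 + 1) := by
          intro N n' hn F hF a
          subst hn
          rw [Fin.sum_univ_succ, Fin.sum_univ_castSucc (n := n')]
          simp [hF]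
          rfl
        exact key L.n n' hn' (fun j => L.x ^ j * L.g ^ (l' : ℕ) * L.f) (by simp [L.hxn])
          (fun i => c (i, l') * (1 - L.ζ ^ l'.1))
      have h1 := hcomp c' l
      rw [hc', zero_mul, map_zero] at h1
      have h2 := hindep _ h1.symm ⟨i.1 + 1, by omega⟩
      simp only [c', Nat.add_eq_zero_iff, one_ne_zero, and_false, dite_false, Nat.add_sub_cancel] at h2
      exact (mul_eq_zero.1 h2).resolve_right (sub_ne_zero.2 fun h =>
        L.hζ.pow_ne_one_of_pos_of_lt hl l.2 h.symm)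
    calc r * vt = L.f * r * L.f * vt := by
          rw [mul_assoc (L.f * r), hfvt, mul_assoc, ← hfvt, ← mul_assoc r, hrc _ (L.suppT L.hfH),
            ← mul_assoc L.f, ← mul_assoc L.f L.f, L.hff]
      _ = vt := by
          rw [← hc, Finset.sum_mul, Finset.sum_eq_single (⟨0, by omega⟩, ⟨0, by omega⟩)]
          · rw [hzero, one_smul, pow_zero, pow_zero, one_mul, one_mul, hfvt]
          · rintro ⟨i, l⟩ _ hne
            rw [smul_mul_assoc, mul_assoc, hfvt, mul_assoc, hgvt', mul_smul_comm]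
            by_cases hi0 : i.1 = 0
            · have hl : l.1 ≠ 0 := fun h => hne (Prod.ext (Fin.ext hi0) (Fin.ext h))
              rw [hoff i l hl (by omega), zero_smul]
            · obtain ⟨j, hj⟩ : ∃ j, i.1 = j + 1 := ⟨i.1 - 1, by omega⟩
              rw [show ((i, l).1 : Fin L.n).1 = j + 1 from hj, pow_succ, mul_assoc, hxvt, mul_zero,
                smul_zero, smul_zero]
          · simp
  have hvt0 : vt ≠ 0 := by
    intro h0
    have h := congrArg (cut k (L.H : Set G)) h0
    rw [hvt, mul_cut (pow_mem_subgroup L.hxH _), map_zero] at h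
    have hp : cut k (L.H : Set G) (L.toTwist.proj t) = (L.e : k)⁻¹ • L.f := by
      rw [Twist.proj, map_smul, map_sum,
        Finset.sum_eq_single_of_mem 0 (Finset.mem_range.2 L.toTwist.one_le_e)]
      · rw [zero_mul, pow_zero, one_smul, pow_zero, one_mul, cut_eq_self L.hfH]
      · intro i hi hi0
        rw [map_smul, mul_cut L.hfH, L.hgl i (by omega) (Finset.mem_range.1 hi), zero_mul, smul_zero]
    rw [hp, smul_mul_assoc, hxf, smul_eq_zero] at h
    exact L.hx0 (h.resolve_left (inv_ne_zero L.he))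
  -- the module
  let W : Submodule (MonoidAlgebra k G) (MonoidAlgebra k G) := Submodule.span (MonoidAlgebra k G) {eB * vt}
  have : FiniteDimensional k W :=
    Module.Finite.of_injective (W.subtype.restrictScalars k) W.subtype_injective
  have hWB : ∀ v : W, eB • v = v := by
    rintro ⟨v, hv⟩
    obtain ⟨z, rfl⟩ := Submodule.mem_span_singleton.1 hv
    refine Subtype.ext ?_
    show eB * (z * (eB * vt)) = z * (eB * vt)
    rw [← mul_assoc eB z, hB, mul_assoc, ← mul_assoc eB eB, hB2]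
  refine L.toTwist.exists_factor (V := W) hsurj hnil hWB ⟨⟨eB * vt, Submodule.mem_span_singleton_self _⟩,
    Subtype.ext ?_, Subtype.ext ?_, Subtype.ext ?_, ?_⟩
  · show L.f * (eB * vt) = eB * vt
    rw [← mul_assoc, ← hB, mul_assoc, hfvt]
  · show L.g * (eB * vt) = L.ζ ^ t • (eB * vt)
    rw [← mul_assoc, ← hB, mul_assoc, hgvt, mul_smul_comm]
  · show L.x ^ (L.n - 1) * (eB * vt) = 0
    rw [← mul_assoc, ← hB, mul_assoc, show L.x ^ (L.n - 1) = L.x ^ (L.n - 2) * L.x by
      rw [← pow_succ]; congr 1; omega, mul_assoc, hxvt, mul_zero, mul_zero]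
  · rintro ⟨⟨w, hw⟩, hw'⟩
    obtain ⟨z, rfl⟩ := Submodule.mem_span_singleton.1 hw
    have hw'' : L.x * (z * (eB * vt)) = eB * vt := congrArg Subtype.val hw'
    have h := congrArg (cut k (L.T : Set G)) hw''
    rw [cut_mul (L.suppT L.hxH), ← mul_assoc z, mul_cut hvtT, mul_cut hvtT, hcutT,
      hTkill _ (cut_mem _ _)] at h
    exact hvt0 h.symm

/-- The factors of the block are as many as the degrees. -/
theorem card_eq (hsurj : Function.Surjective ψ) (hnil : ∀ a, ψ a = 0 → IsNilpotent a)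
    {eB : MonoidAlgebra k G} (hB : ∀ a, eB * a = a * eB) (hB2 : eB * eB = eB)
    (hres : IsNilpotent (L.f * cut k (L.H : Set G) eB * L.f - L.f))
    {ω : k} (hω : ∀ δ, ψ eB δ ≠ 0 → ∀ v, rep ψ δ L.zc v = ω • v)
    (hproj : ∀ δ, ψ eB δ ≠ 0 → ∀ R : (Fin (d δ) → k) →ₗ[k] (Fin (d δ) → k),
      ∃ v, ∑ g : G, el (rep ψ δ) g (R (el (rep ψ δ) g⁻¹ v)) ≠ v) :
    Nat.card {δ : Fin m // ψ eB δ ≠ 0} = L.e := by
  classical
  have hwit := L.exists_factor_witness hsurj hnil hB hB2 hres
  have he1 := L.toTwist.one_le_e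
  -- the scalar
  have hωe : ω = (L.e : k) := by
    obtain ⟨δ, hδ, v, hf, -, hx, hr⟩ := hwit 0
    have h := L.zc_congr (rep ψ δ) hf hx
    rw [hω δ hδ, map_smul, hf, ← sub_smul] at h
    by_contra hne
    exact hr (by simpa [smul_smul, inv_mul_cancel₀ (sub_ne_zero.2 hne)] using
      Submodule.smul_mem _ (ω - (L.e : k))⁻¹ h)
  -- one factor in each degree
  have huniq : ∀ δ δ' j, ψ eB δ ≠ 0 → ψ eB δ' ≠ 0 → L.toTwist.Wit (rep ψ δ) j →
      L.toTwist.Wit (rep ψ δ') j → δ = δ' := by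
    have key : ∀ δ δ' : Fin m, δ ≠ δ' → ∀ (γ : (Fin (d δ) → k) →ₗ[k] (Fin (d δ') → k)) v,
        rep ψ δ L.f v = v → rep ψ δ (L.x ^ (L.n - 1)) v = 0 →
        γ v ∉ LinearMap.range (rep ψ δ' L.x) →
        (∀ w, rep ψ δ' L.f (γ w) = γ w) → (∀ w, γ (rep ψ δ L.f w) = γ w) →
        (∀ w, γ (rep ψ δ L.x w) = rep ψ δ' L.x (γ w)) →
        (∀ w, γ (rep ψ δ L.g w) = rep ψ δ' L.g (γ w)) → False := by
      intro δ δ' hne γ v hv hv0 hγv h1 h2 h3 h4
      obtain ⟨Γ, hΓ, hcongr⟩ := L.exists_glob (rep ψ δ) (rep ψ δ') h1 h2 h3 h4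
      have h := hcongr v hv hv0
      rw [eq_zero_of_ne hsurj hne hΓ, map_zero, zero_sub] at h
      exact hγv (by simpa [smul_smul, inv_mul_cancel₀ L.he] using
        Submodule.smul_mem _ (L.e : k)⁻¹ (neg_mem h))
    intro δ δ' j _ _ h h'
    by_contra hne
    rcases L.toTwist.exists_join _ _ h h' with ⟨γ, v, a1, a2, a3, a4, a5, a6, a7⟩ |
      ⟨γ, v, a1, a2, a3, a4, a5, a6, a7⟩
    · exact key δ δ' hne γ v a1 a2 a3 a4 a5 a6 a7
    · exact key δ' δ (Ne.symm hne) γ v a1 a2 a3 a4 a5 a6 a7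
  -- one degree in each factor
  have hdeg : ∀ δ j j', L.toTwist.Wit (rep ψ δ) j → L.toTwist.Wit (rep ψ δ) j' →
      L.ζ ^ j' = L.ζ ^ j := by
    intro δ j j' h h'
    by_contra hne
    obtain ⟨γ, v, w, hv, hv0, hvr, hw, hw0, hwr, hγv, hγw, h1, h2, h3, h4⟩ :=
      L.toTwist.exists_sep _ hne h h'
    obtain ⟨Γ, hΓ, hcongr⟩ := L.exists_glob (rep ψ δ) (rep ψ δ) h1 h2 h3 h4
    obtain ⟨c, hc⟩ := exists_scalar hsurj δ hΓ
    have a1 := hcongr v hv hv0
    have a2 := hcongr w hw hw0
    rw [hc, map_smul, hv] at a1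
    rw [hc, map_smul, hw] at a2
    have b2 : c • w ∈ LinearMap.range (rep ψ δ L.x) := by
      simpa using add_mem a2 (Submodule.smul_mem _ (L.e : k) hγw)
    have b1 : (c - (L.e : k)) • v ∈ LinearMap.range (rep ψ δ L.x) := by
      have := add_mem a1 (Submodule.smul_mem _ (L.e : k) hγv)
      rwa [smul_sub, sub_smul, sub_add_sub_cancel] at *
    by_cases hc0 : c = 0
    · exact hvr (by simpa [hc0, smul_smul, L.he] using Submodule.smul_mem _ (L.e : k)⁻¹ (neg_mem b1))
    · exact hwr (by simpa [hc0, smul_smul] using Submodule.smul_mem _ c⁻¹ b2)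
  choose Φ hΦB hΦ using fun t : Fin L.e => hwit t.1
  refine (Nat.card_congr (Equiv.ofBijective (fun t => (⟨Φ t, hΦB t⟩ : {δ // ψ eB δ ≠ 0}))
    ⟨fun t t' h => ?_, fun δ => ?_⟩)).symm.trans (Nat.card_fin L.e)
  · have h' : Φ t = Φ t' := congrArg Subtype.val h
    have h1 : L.toTwist.Wit (rep ψ (Φ t)) t'.1 := by rw [h']; exact hΦ t'
    exact Fin.ext (L.hζ.pow_inj t.2 t'.2 (hdeg _ _ _ (hΦ t) h1).symm)
  · obtain ⟨j, hj⟩ : ∃ j, L.toTwist.Wit (rep ψ δ.1) j := by
      by_contra hno
      push Not at hno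
      obtain ⟨R, hR⟩ := L.exists_trace_of_no_witness (rep ψ δ.1) hno
      obtain ⟨v, hv⟩ := hproj δ.1 δ.2 ((L.e : k)⁻¹ • R)
      refine hv ?_
      simp only [LinearMap.smul_apply, map_smul, ← Finset.smul_sum, hR, hω δ.1 δ.2, hωe, smul_smul,
        inv_mul_cancel₀ L.he, one_smul]
    refine ⟨⟨j % L.e, Nat.mod_lt _ he1⟩, Subtype.ext (huniq _ _ (j % L.e) (hΦB _) δ.2 (hΦ _)
      (hj.congr _ _ ?_))⟩
    exact L.toTwist.zeta_congr 0 (j / L.e) (by rw [mul_zero, add_zero, Nat.mod_add_div])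

end CfsgLib.CyclicRank.Loc
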