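import Cfsg.Agent.Lib.Blocks.CyclicRank.Twist
import Mathlib.LinearAlgebra.Matrix.ToLin
import Mathlib.LinearAlgebra.FiniteDimensional.Lemmas
import Mathlib.Algebra.Algebra.Bilinear

/-!
# A witness in a module gives a witness in a factor of the semisimple quotient
-/

set_option autoImplicit false

universe u v w

namespace CfsgLib.CyclicRank

variable {k : Type u} [Field k] {A : Type v} [Ring A] [Algebra k A]
  {m : ℕ} {d : Fin m → ℕ} (ψ : A →ₐ[k] Π i, Matrix (Fin (d i)) (Fin (d i)) k)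

/-- The action on the natural module of a factor. -/
noncomputable def rep (δ : Fin m) : A →ₐ[k] Module.End k (Fin (d δ) → k) :=
  (Matrix.toLinAlgEquiv' (R := k) (n := Fin (d δ))).toAlgHom.comp
    ((Pi.evalAlgHom k (fun i => Matrix (Fin (d i)) (Fin (d i)) k) δ).comp ψ)

theorem rep_apply (δ : Fin m) (a : A) (v : Fin (d δ) → k) : rep ψ δ a v = (ψ a δ).mulVec v :=
  rfl

variable {ψ} (hsurj : Function.Surjective ψ)
include hsurj

/-- Schur: endomorphisms of a factor are scalars. -/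
theorem exists_scalar (δ : Fin m) {Γ : Module.End k (Fin (d δ) → k)}
    (h : ∀ a v, Γ (rep ψ δ a v) = rep ψ δ a (Γ v)) : ∃ c : k, ∀ v, Γ v = c • v := by
  classical
  set Q := LinearMap.toMatrix' Γ with hQdef
  have hQ : ∀ v, Γ v = Q.mulVec v := fun v => by
    rw [← Matrix.toLin'_apply, hQdef, Matrix.toLin'_toMatrix']
  have hcomm : ∀ i j, i ≠ j → Commute (Matrix.single i j (1 : k)) Q := by
    intro i j _
    obtain ⟨a, ha⟩ := hsurj (Pi.single δ (Matrix.single i j 1))
    refine Matrix.toLin'.injective (LinearMap.ext fun v => ?_)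
    have h1 := h a v
    rw [rep_apply, rep_apply, ha, Pi.single_eq_same, hQ, hQ, Matrix.mulVec_mulVec,
      Matrix.mulVec_mulVec] at h1
    rw [Matrix.toLin'_apply, Matrix.toLin'_apply]
    exact h1.symm
  obtain ⟨c, hc⟩ := Matrix.mem_range_scalar_of_commute_single hcomm
  exact ⟨c, fun v => by
    rw [hQ, ← hc]
    ext i
    simp [Matrix.scalar_apply, Matrix.mulVec_diagonal]⟩

/-- Different factors have no nonzero maps between them. -/
theorem eq_zero_of_ne {δ δ' : Fin m} (hne : δ ≠ δ') {Γ : (Fin (d δ) → k) →ₗ[k] (Fin (d δ') → k)}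
    (h : ∀ a v, Γ (rep ψ δ a v) = rep ψ δ' a (Γ v)) (v : Fin (d δ) → k) : Γ v = 0 := by
  classical
  obtain ⟨a, ha⟩ := hsurj (Pi.single δ 1)
  have h1 := h a v
  rw [rep_apply, rep_apply, ha, Pi.single_eq_same, Matrix.one_mulVec,
    Pi.single_eq_of_ne (Ne.symm hne), Matrix.zero_mulVec] at h1
  exact h1

/-- A central element acts as a scalar on each factor. -/
theorem exists_scalar_of_central (δ : Fin m) {z : A} (hz : ∀ a, z * a = a * z) :
    ∃ c : k, ψ z δ = Matrix.scalar _ c := by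
  classical
  have hcomm : ∀ i j, i ≠ j → Commute (Matrix.single i j (1 : k)) (ψ z δ) := by
    intro i j _
    obtain ⟨a, ha⟩ := hsurj (Pi.single δ (Matrix.single i j 1))
    have h1 := congrArg (fun b => ψ b δ) (hz a)
    simp only [map_mul, Pi.mul_apply, ha, Pi.single_eq_same] at h1
    exact h1.symm
  obtain ⟨c, hc⟩ := Matrix.mem_range_scalar_of_commute_single hcomm
  exact ⟨c, hc.symm⟩

variable (hnil : ∀ a, ψ a = 0 → IsNilpotent a)
include hnil

/-- A simple module is one of the factors. -/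
theorem exists_equiv {V : Type w} [AddCommGroup V] [Module k V] [Module A V] [IsScalarTower k A V]
    (v₀ : V) (hv₀ : v₀ ≠ 0) (hsimple : ∀ K : Submodule A V, K = ⊥ ∨ K = ⊤) :
    ∃ δ, ∃ φ : (Fin (d δ) → k) ≃ₗ[k] V, ∀ a v, φ (rep ψ δ a v) = a • φ v := by
  classical
  have hkill : ∀ a, ψ a = 0 → ∀ v : V, a • v = 0 := by
    intro a ha v
    by_contra hv
    have hK : Submodule.span A {a • v} = ⊤ := (hsimple _).resolve_left fun h => hv (by
      rw [Submodule.span_eq_bot] at h; exact h _ rfl)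
    obtain ⟨b, hb⟩ := Submodule.mem_span_singleton.1 (hK ▸ Submodule.mem_top : v ∈ Submodule.span A {a • v})
    obtain ⟨N, hN⟩ := hnil (b * a) (by rw [map_mul, ha, mul_zero])
    have hpow : ∀ i : ℕ, (b * a) ^ i • v = v := by
      intro i
      induction i with
      | zero => rw [pow_zero, one_smul]
      | succ i ih => rw [pow_succ, mul_smul, mul_smul, hb, ih]
    have h := hpow N
    rw [hN, zero_smul] at h
    exact hv (by rw [← h, smul_zero])
  have hext : ∀ {a b : A}, ψ a = ψ b → ∀ v : V, a • v = b • v := fun {a b} h v => by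
    rw [← sub_eq_zero, ← sub_smul]
    exact hkill _ (by rw [map_sub, h, sub_self]) v
  choose E hE using fun (z : Σ i : Fin m, Fin (d i) × Fin (d i)) =>
    hsurj (Pi.single z.1 (Matrix.single z.2.1 z.2.2 (1 : k)))
  obtain ⟨δ, i, hi⟩ : ∃ δ i, E ⟨δ, i, i⟩ • v₀ ≠ 0 := by
    by_contra h
    push Not at h
    refine hv₀ ?_
    rw [← one_smul A v₀, hext (b := ∑ δ, ∑ i, E ⟨δ, i, i⟩) (by
      rw [map_one, map_sum]
      funext δ'
      simp only [map_sum, hE, Finset.sum_apply]
      rw [Finset.sum_eq_single δ' (fun b _ hb => Finset.sum_eq_zero fun i _ => by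
        rw [Pi.single_eq_of_ne (Ne.symm hb)]) (fun h => absurd (Finset.mem_univ _) h)]
      simp only [Pi.single_eq_same, Pi.one_apply]
      exact (Matrix.matrix_eq_sum_single (1 : Matrix (Fin (d δ')) (Fin (d δ')) k)).trans
        (Finset.sum_congr rfl fun i _ => by
          rw [Finset.sum_eq_single i] <;> simp +contextual [Matrix.one_apply, eq_comm])) v₀]
    simp [Finset.sum_smul, h]
  let φ : (Fin (d δ) → k) →ₗ[k] V :=
    ∑ l, (LinearMap.toSpanSingleton k V (E ⟨δ, l, i⟩ • v₀)) ∘ₗ LinearMap.proj l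
  have hφ : ∀ u, φ u = ∑ l, u l • E ⟨δ, l, i⟩ • v₀ := fun u => by simp [φ]
  have hequiv : ∀ a u, φ (rep ψ δ a u) = a • φ u := by
    intro a u
    have hmul : ∀ l, ψ (a * E ⟨δ, l, i⟩) = ψ (∑ j, (ψ a δ j l) • E ⟨δ, j, i⟩) := by
      intro l
      funext δ'
      simp only [map_mul, map_sum, map_smul, Pi.mul_apply, hE, Finset.sum_apply, Pi.smul_apply]
      by_cases h : δ' = δ
      · subst h
        ext r s
        simp only [Pi.single_eq_same, Matrix.sum_apply, Matrix.smul_apply, Matrix.single_apply,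
          Matrix.mul_apply, smul_eq_mul, mul_ite, mul_one, mul_zero]
        by_cases hs : i = s
        · subst hs; simp
        · simp [hs]
      · simp [Pi.single_eq_of_ne h]
    rw [hφ, hφ, Finset.smul_sum]
    simp only [smul_comm a, ← mul_smul (x := a), hext (hmul _), Finset.sum_smul, smul_assoc,
      Finset.smul_sum, smul_smul, rep_apply, Matrix.mulVec, dotProduct, mul_comm]
    exact Finset.sum_comm
  have hinj : Function.Injective φ := by
    rw [← LinearMap.ker_eq_bot, eq_bot_iff]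
    intro u hu
    rw [LinearMap.mem_ker, hφ] at hu
    rw [Submodule.mem_bot]
    funext j
    have hmul : ∀ l, E ⟨δ, i, j⟩ • E ⟨δ, l, i⟩ • v₀ =
        if l = j then E ⟨δ, i, i⟩ • v₀ else 0 := by
      intro l
      rw [← mul_smul]
      split_ifs with h
      · subst h
        exact hext (by rw [map_mul, hE, hE, hE, ← Pi.single_mul, Matrix.single_mul_single_same, mul_one]) _
      · exact hkill _ (by
          rw [map_mul, hE, hE, ← Pi.single_mul]
          simp [Ne.symm h]) _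
    have h := congrArg (fun z => E ⟨δ, i, j⟩ • z) hu
    simp only [Finset.smul_sum, smul_comm (E ⟨δ, i, j⟩), hmul, smul_zero, smul_ite,
      Finset.sum_ite_eq', Finset.mem_univ, if_true] at h
    exact (smul_eq_zero.1 h).resolve_right hi
  let R : Submodule A V :=
    { carrier := Set.range φ
      add_mem' := by rintro _ _ ⟨a, rfl⟩ ⟨b, rfl⟩; exact ⟨a + b, map_add φ a b⟩
      zero_mem' := ⟨0, map_zero φ⟩
      smul_mem' := by rintro a _ ⟨u, rfl⟩; exact ⟨rep ψ δ a u, hequiv a u⟩ }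
  have hR : R = ⊤ := (hsimple R).resolve_left fun h => hi (by
    have h1 : E ⟨δ, i, i⟩ • v₀ ∈ R := ⟨Pi.single i 1, by
      rw [hφ, Finset.sum_eq_single i]
      · simp
      · intro b _ hb; simp [Pi.single_eq_of_ne hb]
      · simp⟩
    rwa [h, Submodule.mem_bot] at h1)
  exact ⟨δ, LinearEquiv.ofBijective φ ⟨hinj, fun y => (hR ▸ Submodule.mem_top : y ∈ R)⟩, hequiv⟩

omit hsurj hnil

variable (T : Twist k A)

/-- A witness in a module gives one in a submodule or in the quotient. -/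
theorem Twist.wit_ses {V : Type w} [AddCommGroup V] [Module k V] [Module A V] [IsScalarTower k A V]
    (K : Submodule A V) {t : ℕ} (h : T.Wit (Algebra.lsmul k k V) t) :
    T.Wit (Algebra.lsmul k k K) t ∨ T.Wit (Algebra.lsmul k k (V ⧸ K)) t := by
  obtain ⟨v, hf, hg, hx, hr⟩ := h
  simp only [Algebra.lsmul_coe] at hf hg hx hr
  by_cases hq : (Submodule.Quotient.mk v : V ⧸ K) ∈ LinearMap.range (Algebra.lsmul k k (V ⧸ K) T.x)
  · left
    obtain ⟨u', hu'⟩ := hq
    obtain ⟨u, rfl⟩ := Submodule.Quotient.mk_surjective K u'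
    simp only [Algebra.lsmul_coe, ← Submodule.Quotient.mk_smul] at hu'
    have hk : v - T.x • u ∈ K := (Submodule.Quotient.eq K).1 hu'.symm
    set u2 := T.proj (t + (T.e - 1)) • u
    have hv : T.proj t • v = v := T.proj_apply (Algebra.lsmul k k V) hf hg
    have hk' : T.proj t • (v - T.x • u) = v - T.x • u2 := by
      rw [smul_sub, hv, ← mul_smul, T.proj_x, mul_smul]
    have hmem : v - T.x • u2 ∈ K := hk' ▸ K.smul_mem _ hk
    refine ⟨⟨_, hmem⟩, Subtype.ext ?_, Subtype.ext ?_, Subtype.ext ?_, ?_⟩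
    · show T.f • (v - T.x • u2) = v - T.x • u2
      rw [← hk', ← mul_smul, T.f_proj]
    · show T.g • (v - T.x • u2) = T.ζ ^ t • (v - T.x • u2)
      rw [← hk', ← mul_smul, T.g_proj, smul_assoc]
    · show T.x ^ (T.n - 1) • (v - T.x • u2) = 0
      rw [smul_sub, hx, ← mul_smul, ← pow_succ, Nat.sub_add_cancel (by have := T.hn; omega), T.hxn,
        zero_smul, sub_zero]
    · rintro ⟨w, hw⟩
      have hw' : T.x • (w : V) = v - T.x • u2 := congrArg Subtype.val hw
      exact hr ⟨(w : V) + u2, by simp [smul_add, hw']⟩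
  · refine Or.inr ⟨Submodule.Quotient.mk v, ?_, ?_, ?_, hq⟩
    · simp only [Algebra.lsmul_coe, ← Submodule.Quotient.mk_smul, hf]
    · simp only [Algebra.lsmul_coe, ← Submodule.Quotient.mk_smul, hg]
    · simp only [Algebra.lsmul_coe, ← Submodule.Quotient.mk_smul, hx, Submodule.Quotient.mk_zero]

include hsurj hnil

theorem Twist.exists_factor_aux (eB : A) (t N : ℕ) :
    ∀ (V : Type w) [AddCommGroup V] [Module k V] [Module A V] [IsScalarTower k A V]
      [FiniteDimensional k V], Module.finrank k V ≤ N → (∀ v : V, eB • v = v) →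
      T.Wit (Algebra.lsmul k k V) t → ∃ δ, ψ eB δ ≠ 0 ∧ T.Wit (rep ψ δ) t := by
  induction N with
  | zero =>
    intro V _ _ _ _ _ hN _ h
    have := Module.finrank_zero_iff.1 (Nat.le_zero.1 hN)
    obtain ⟨v, -, -, -, hr⟩ := h
    exact absurd ⟨0, Subsingleton.elim _ _⟩ hr
  | succ N ih =>
    intro V _ _ _ _ _ hN hB h
    by_cases hs : ∀ K : Submodule A V, K = ⊥ ∨ K = ⊤
    · obtain ⟨v, hf, hg, hx, hr⟩ := h
      have hv : v ≠ 0 := fun e => hr (e ▸ Submodule.zero_mem _)
      obtain ⟨δ, φ, hφ⟩ := exists_equiv hsurj hnil v hv hs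
      have hsymm : ∀ a w, φ.symm (a • w) = rep ψ δ a (φ.symm w) := fun a w => by
        rw [φ.symm_apply_eq, hφ, φ.apply_symm_apply]
      refine ⟨δ, fun h0 => hv ?_, φ.symm v, ?_, ?_, ?_, fun ⟨u, hu⟩ => hr ⟨φ u, ?_⟩⟩
      · have h1 := hφ eB (φ.symm v)
        rw [φ.apply_symm_apply, hB, rep_apply, h0, Matrix.zero_mulVec, map_zero] at h1
        exact h1.symm
      · rw [← hsymm]; exact congrArg φ.symm hf
      · rw [← hsymm, ← map_smul]; exact congrArg φ.symm hg
      · rw [← hsymm, ← map_zero φ.symm]; exact congrArg φ.symm hx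
      · show T.x • φ u = v
        rw [← hφ, hu, φ.apply_symm_apply]
    · push Not at hs
      obtain ⟨K, hK0, hK1⟩ := hs
      have : FiniteDimensional k K :=
        Module.Finite.of_injective (K.subtype.restrictScalars k) K.subtype_injective
      have : FiniteDimensional k (V ⧸ K) :=
        Module.Finite.of_surjective (K.mkQ.restrictScalars k) K.mkQ_surjective
      have hKsub : Module.finrank k K < Module.finrank k V := by
        have h1 : K.restrictScalars k < (⊤ : Submodule k V) := lt_top_iff_ne_top.2 fun e =>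
          hK1 (Submodule.restrictScalars_injective k A V (by rw [e, Submodule.restrictScalars_top]))
        have h2 := Submodule.finrank_lt_finrank_of_lt h1
        rwa [finrank_top] at h2
      have hQ : Module.finrank k (V ⧸ K) < Module.finrank k V := by
        have e := LinearMap.finrank_range_add_finrank_ker (K.mkQ.restrictScalars k)
        rw [LinearMap.range_eq_top.2 (show Function.Surjective (K.mkQ.restrictScalars k) from K.mkQ_surjective),
          finrank_top] at e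
        have h1 : (⊥ : Submodule k V) < LinearMap.ker (K.mkQ.restrictScalars k) :=
          bot_lt_iff_ne_bot.2 fun e0 => hK0 (eq_bot_iff.2 fun x hx => by
            have : x ∈ LinearMap.ker (K.mkQ.restrictScalars k) := by
              rw [LinearMap.mem_ker]; exact (Submodule.Quotient.mk_eq_zero K).2 hx
            rw [e0, Submodule.mem_bot] at this
            exact (Submodule.mem_bot A).2 this)
        have h2 := Submodule.finrank_lt_finrank_of_lt h1
        rw [finrank_bot] at h2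
        omega
      rcases T.wit_ses K h with h' | h'
      · exact ih K (by omega) (fun v => Subtype.ext (hB v.1)) h'
      · refine ih (V ⧸ K) (by omega) (fun v => ?_) h'
        obtain ⟨v, rfl⟩ := Submodule.Quotient.mk_surjective K v
        rw [← Submodule.Quotient.mk_smul, hB]

/-- A witness in a module fixed by a central idempotent gives one in a factor seeing it. -/
theorem Twist.exists_factor {V : Type w} [AddCommGroup V] [Module k V] [Module A V]
    [IsScalarTower k A V] [FiniteDimensional k V] {eB : A} (hB : ∀ v : V, eB • v = v) {t : ℕ}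
    (h : T.Wit (Algebra.lsmul k k V) t) : ∃ δ, ψ eB δ ≠ 0 ∧ T.Wit (rep ψ δ) t :=
  T.exists_factor_aux hsurj hnil eB t _ V le_rfl hB h

omit hsurj hnil

/-- Two witnesses of one degree are joined by a corner map. -/
theorem Twist.exists_join {V : Type w} [AddCommGroup V] [Module k V] [FiniteDimensional k V]
    {V' : Type w} [AddCommGroup V'] [Module k V'] [FiniteDimensional k V']
    (ρ : A →ₐ[k] Module.End k V) (ρ' : A →ₐ[k] Module.End k V') {j : ℕ}
    (h : T.Wit ρ j) (h' : T.Wit ρ' j) :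
    (∃ (Γ : V →ₗ[k] V') (v : V), ρ T.f v = v ∧ ρ (T.x ^ (T.n - 1)) v = 0 ∧
      Γ v ∉ LinearMap.range (ρ' T.x) ∧ (∀ w, ρ' T.f (Γ w) = Γ w) ∧ (∀ w, Γ (ρ T.f w) = Γ w) ∧
      (∀ w, Γ (ρ T.x w) = ρ' T.x (Γ w)) ∧ (∀ w, Γ (ρ T.g w) = ρ' T.g (Γ w))) ∨
    (∃ (Γ : V' →ₗ[k] V) (v : V'), ρ' T.f v = v ∧ ρ' (T.x ^ (T.n - 1)) v = 0 ∧
      Γ v ∉ LinearMap.range (ρ T.x) ∧ (∀ w, ρ T.f (Γ w) = Γ w) ∧ (∀ w, Γ (ρ' T.f w) = Γ w) ∧
      (∀ w, Γ (ρ' T.x w) = ρ T.x (Γ w)) ∧ (∀ w, Γ (ρ' T.g w) = ρ T.g (Γ w))) := by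
  have hn := T.hn
  obtain ⟨v, L, hvg, hvr, hvL, hL, hmin⟩ :=
    (T.graded ρ).exists_min T.hζ T.he (T.wit_graded ρ h) (by omega)
  obtain ⟨v', L', hv'g, hv'r, hv'L, hL', hmin'⟩ :=
    (T.graded ρ').exists_min T.hζ T.he (T.wit_graded ρ' h') (by omega)
  have key : ∀ {U : Type w} {U' : Type w} [AddCommGroup U] [Module k U] [FiniteDimensional k U]
      [AddCommGroup U'] [Module k U'] (σ : A →ₐ[k] Module.End k U) (σ' : A →ₐ[k] Module.End k U')
      (v : LinearMap.range (σ T.f)) (v' : LinearMap.range (σ' T.f)) (L L' : ℕ),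
      (T.graded σ).g v = T.ζ ^ j • v → v ∉ LinearMap.range (T.graded σ).X →
      ((T.graded σ).X ^ (L + 1)) v = 0 → L + 1 ≤ T.n - 1 →
      (∀ w, (T.graded σ).g w = T.ζ ^ j • w → ((T.graded σ).X ^ L) w = 0 →
        w ∈ LinearMap.range (T.graded σ).X) →
      (T.graded σ').g v' = T.ζ ^ j • v' → v' ∉ LinearMap.range (T.graded σ').X →
      ((T.graded σ').X ^ (L' + 1)) v' = 0 → L' ≤ L →
      ∃ (Γ : U →ₗ[k] U') (v : U), σ T.f v = v ∧ σ (T.x ^ (T.n - 1)) v = 0 ∧
        Γ v ∉ LinearMap.range (σ' T.x) ∧ (∀ w, σ' T.f (Γ w) = Γ w) ∧ (∀ w, Γ (σ T.f w) = Γ w) ∧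
        (∀ w, Γ (σ T.x w) = σ' T.x (Γ w)) ∧ (∀ w, Γ (σ T.g w) = σ' T.g (Γ w)) := by
    intro U U' _ _ _ _ _ σ σ' v v' L L' hvg hvr hvL hL hmin hv'g hv'r hv'L hle
    obtain ⟨γ, hX, hg, hγv, -⟩ := (T.graded σ).exists_hom T.hζ T.he (T.graded σ') hvg hvr hvL hmin
      hv'g (by rw [show L + 1 = (L - L') + (L' + 1) by omega, pow_add, Module.End.mul_apply, hv'L, map_zero])
    obtain ⟨Γ, h1, h2, h3, h4, h5⟩ := T.lift_hom σ σ' γ hX hg
    refine ⟨Γ, v.1, T.f_fix σ v, ?_, fun hmem => hv'r ?_, h1, h2, h3, h4⟩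
    · have hz : ((T.graded σ).X ^ (T.n - 1)) v = 0 := by
        rw [show T.n - 1 = (T.n - 1 - (L + 1)) + (L + 1) by omega, pow_add, Module.End.mul_apply,
          hvL, map_zero]
      rw [← T.coe_X₀_pow]
      exact congrArg Subtype.val hz
    · rw [h5] at hmem
      have h6 := sub_mem ((T.mem_range_X₀_iff σ').2 hmem) hγv
      rwa [sub_sub_cancel] at h6
  rcases le_total L' L with hle | hle
  · exact Or.inl (key ρ ρ' v v' L L' hvg hvr hvL hL hmin hv'g hv'r hv'L hle)
  · exact Or.inr (key ρ' ρ v' v L' L hv'g hv'r hv'L hL' hmin' hvg hvr hvL hle)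

/-- Witnesses of two degrees in one module are separated by a corner map. -/
theorem Twist.exists_sep {V : Type w} [AddCommGroup V] [Module k V] [FiniteDimensional k V]
    (ρ : A →ₐ[k] Module.End k V) {j j' : ℕ} (hne : T.ζ ^ j' ≠ T.ζ ^ j)
    (h : T.Wit ρ j) (h' : T.Wit ρ j') :
    ∃ (Γ : V →ₗ[k] V) (v w : V), ρ T.f v = v ∧ ρ (T.x ^ (T.n - 1)) v = 0 ∧
      v ∉ LinearMap.range (ρ T.x) ∧ ρ T.f w = w ∧ ρ (T.x ^ (T.n - 1)) w = 0 ∧
      w ∉ LinearMap.range (ρ T.x) ∧ Γ v - v ∈ LinearMap.range (ρ T.x) ∧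
      Γ w ∈ LinearMap.range (ρ T.x) ∧ (∀ u, ρ T.f (Γ u) = Γ u) ∧ (∀ u, Γ (ρ T.f u) = Γ u) ∧
      (∀ u, Γ (ρ T.x u) = ρ T.x (Γ u)) ∧ (∀ u, Γ (ρ T.g u) = ρ T.g (Γ u)) := by
  have hn := T.hn
  obtain ⟨v, L, hvg, hvr, hvL, hL, hmin⟩ :=
    (T.graded ρ).exists_min T.hζ T.he (T.wit_graded ρ h) (by omega)
  obtain ⟨w, hwg, hwX, hwr⟩ := T.wit_graded ρ h'
  obtain ⟨γ, hX, hg, hγv, hγw⟩ := (T.graded ρ).exists_hom T.hζ T.he (T.graded ρ) hvg hvr hvL hmin
    hvg hvL
  obtain ⟨Γ, h1, h2, h3, h4, h5⟩ := T.lift_hom ρ ρ γ hX hg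
  refine ⟨Γ, v.1, w.1, T.f_fix ρ v, ?_, fun hm => hvr ((T.mem_range_X₀_iff ρ).2 hm), T.f_fix ρ w,
    ?_, fun hm => hwr ((T.mem_range_X₀_iff ρ).2 hm), ?_, ?_, h1, h2, h3, h4⟩
  · have hz : ((T.graded ρ).X ^ (T.n - 1)) v = 0 := by
      rw [show T.n - 1 = (T.n - 1 - (L + 1)) + (L + 1) by omega, pow_add, Module.End.mul_apply,
        hvL, map_zero]
    rw [← T.coe_X₀_pow]
    exact congrArg Subtype.val hz
  · rw [← T.coe_X₀_pow]
    exact congrArg Subtype.val hwX
  · rw [h5, ← Submodule.coe_sub]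
    exact (T.mem_range_X₀_iff ρ).1 hγv
  · rw [h5]
    exact (T.mem_range_X₀_iff ρ).1 (hγw w j' hwg hne)

end CfsgLib.CyclicRank
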