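import Cfsg.Agent.Lib.Blocks.CyclicRank.Supp
import Cfsg.Agent.Lib.Blocks.CyclicRank.Factor

/-!
# The local data of a block with cyclic defect group and its relative traces

`H` centralizes the subgroup of order `p` of the defect group `D`, `T` stabilizes the block `ec` of
`H` and `N` normalizes that subgroup, so that `D` permutes freely the cosets outside `N`.
-/

set_option autoImplicit false

namespace CfsgLib.CyclicRank

open MonoidAlgebra CfsgLib.Blocks

/-- The local data. -/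
structure Loc (k : Type*) [Field k] (G : Type*) [Group G] [Fintype G] extends
    Twist k (MonoidAlgebra k G) where
  H : Subgroup G
  T : Subgroup G
  N : Subgroup G
  D : Subgroup G
  hDH : D ≤ H
  hHT : H ≤ T
  hTN : T ≤ N
  ec : MonoidAlgebra k G
  a : MonoidAlgebra k G
  m : ℕ
  uu : Fin m → MonoidAlgebra k G
  vv : Fin m → MonoidAlgebra k G
  hdec : ∑ j, uu j * f * vv j = ec
  hfH : f ∈ suppIn k (H : Set G)
  hxH : x ∈ suppIn k (H : Set G)
  hecH : ec ∈ suppIn k (H : Set G)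
  huH : ∀ j, uu j ∈ suppIn k (H : Set G)
  hvH : ∀ j, vv j ∈ suppIn k (H : Set G)
  hgT : g ∈ suppIn k (T : Set G)
  hecT : ∀ z ∈ suppIn k (T : Set G), ec * z = z * ec
  hecf : ec * f = f
  hx0 : x ^ (n - 1) ≠ 0
  hU : ∀ z ∈ suppIn k (H : Set G),
    f * z * f ∈ Submodule.span k (Set.range fun i : Fin n => x ^ (i : ℕ) * f)
  hTf : ∀ z ∈ suppIn k (T : Set G), f * z * f ∈
    Submodule.span k (Set.range fun q : Fin n × Fin e => x ^ (q.1 : ℕ) * g ^ (q.2 : ℕ) * f)
  hgl : ∀ l, 0 < l → l < e → cut k (H : Set G) (g ^ l) = 0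
  hidx : H.relIndex T = e
  haD : ∀ d ∈ D, single d (1 : k) * a = a * single d 1
  hatr : ∑ᶠ q : H ⧸ D.subgroupOf H,
    single ((q.out : H) : G) (1 : k) * a * single ((q.out : H) : G)⁻¹ 1 = ec
  horth : ∀ q ∈ N, q ∉ T → ec * single q 1 * ec = 0
  hfree : ∀ q ∉ N, ∀ d ∈ D, q⁻¹ * d * q ∈ D → d = 1

namespace Loc

variable {k : Type*} [Field k] {G : Type*} [Group G] [Fintype G] (L : Loc k G)

theorem suppT {z : MonoidAlgebra k G} (hz : z ∈ suppIn k (L.H : Set G)) :
    z ∈ suppIn k (L.T : Set G) :=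
  suppIn_mono (fun _ h => L.hHT h) hz

theorem f_ec : L.f * L.ec = L.f := by rw [← L.hecT _ (L.suppT L.hfH), L.hecf]

theorem ec_uf (j : Fin L.m) : L.ec * (L.uu j * L.f) = L.uu j * L.f := by
  rw [← mul_assoc, L.hecT _ (L.suppT (L.huH j)), mul_assoc, L.hecf]

theorem ec_sq : L.ec * L.ec = L.ec := by
  conv_lhs => arg 2; rw [← L.hdec]
  rw [Finset.mul_sum]
  refine Eq.trans (Finset.sum_congr rfl fun j _ => ?_) L.hdec
  rw [← mul_assoc, L.ec_uf]

/-- An element over `H` killed by the top power lies in the radical part. -/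
theorem exists_eq_x_mul {y : MonoidAlgebra k G} (hy : y ∈ suppIn k (L.H : Set G))
    (h0 : L.x ^ (L.n - 1) * y = 0) : ∃ z, L.f * y = L.x * z := by
  have hn := L.hn
  have hj : ∀ j, ∃ z, L.f * (y * L.uu j) * L.f = L.x * z := by
    intro j
    obtain ⟨c, hc⟩ := (Submodule.mem_span_range_iff_exists_fun k).1
      (L.hU _ (mul_mem_subgroup hy (L.huH j)))
    have h1 : L.x ^ (L.n - 1) * (L.f * (y * L.uu j) * L.f) = 0 := by
      rw [← mul_assoc, ← mul_assoc, L.toTwist.pow_x_f (by omega), ← mul_assoc, h0, zero_mul, zero_mul]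
    rw [← hc, Finset.mul_sum, Finset.sum_eq_single (⟨0, by omega⟩ : Fin L.n)] at h1
    · rw [mul_smul_comm, pow_zero, one_mul, L.toTwist.pow_x_f (by omega), smul_eq_zero] at h1
      refine ⟨∑ i : Fin L.n, c i • (L.x ^ (i.1 - 1) * L.f), ?_⟩
      rw [← hc, Finset.mul_sum]
      refine Finset.sum_congr rfl fun i _ => ?_
      by_cases hi : i.1 = 0
      · have : c i = 0 := by
          rw [show i = (⟨0, by omega⟩ : Fin L.n) from Fin.ext hi]; exact h1.resolve_right L.hx0
        simp [this]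
      · rw [mul_smul_comm, ← mul_assoc, ← pow_succ', Nat.sub_add_cancel (by omega)]
    · intro i _ hi
      have hi0 : i.1 ≠ 0 := fun h => hi (Fin.ext h)
      rw [mul_smul_comm, ← mul_assoc, ← pow_add, show L.n - 1 + i.1 = L.n + (i.1 - 1) by omega,
        pow_add, L.hxn, zero_mul, zero_mul, smul_zero]
    · simp
  choose z hz using hj
  refine ⟨∑ j, z j * L.vv j, ?_⟩
  calc L.f * y = L.f * (y * L.ec) := by rw [← L.hecT _ (L.suppT hy), ← mul_assoc, L.f_ec]
    _ = ∑ j, L.f * (y * L.uu j) * L.f * L.vv j := by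
      rw [← L.hdec, Finset.mul_sum, Finset.mul_sum]
      simp only [mul_assoc]
    _ = L.x * ∑ j, z j * L.vv j := by
      rw [Finset.mul_sum]
      exact Finset.sum_congr rfl fun j _ => by rw [hz, mul_assoc]

section Rep

variable {V V' : Type*} [AddCommGroup V] [Module k V] [AddCommGroup V'] [Module k V']
  [FiniteDimensional k V'] (ρ : MonoidAlgebra k G →ₐ[k] Module.End k V)
  (ρ' : MonoidAlgebra k G →ₐ[k] Module.End k V')

/-- The action of a group element. -/
noncomputable abbrev el (σ : MonoidAlgebra k G →ₐ[k] Module.End k V) (g : G) : Module.End k V :=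
  σ (single g (1 : k))

theorem el_mul (σ : MonoidAlgebra k G →ₐ[k] Module.End k V) (g h : G) :
    el σ (g * h) = el σ g * el σ h := by
  rw [el, el, el, ← map_mul, single_mul_single, mul_one]

/-- A trace over `H` from the trivial group maps short vectors into the radical part. -/
theorem trick [Fintype L.H] (R : V →ₗ[k] V') {v : V} (hv : ρ L.f v = v)
    (hv0 : ρ (L.x ^ (L.n - 1)) v = 0) :
    ρ' L.f (∑ c : L.H, el ρ' (c : G) (R (el ρ ((c : G)⁻¹) v))) ∈ LinearMap.range (ρ' L.x) := by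
  classical
  let b := Module.finBasis k V'
  let Y : Fin (Module.finrank k V') → V →ₗ[k] MonoidAlgebra k G := fun i =>
    ∑ c : L.H, (LinearMap.toSpanSingleton k _ (single (c : G) (1 : k))) ∘ₗ (b.coord i) ∘ₗ R ∘ₗ
      el ρ ((c : G)⁻¹)
  have hY : ∀ i w, Y i w = ∑ c : L.H, b.coord i (R (el ρ ((c : G)⁻¹) w)) • single (c : G) (1 : k) :=
    fun i w => by simp [Y]
  have hmem : ∀ i w, Y i w ∈ suppIn k (L.H : Set G) := fun i w => by
    rw [hY]
    exact Submodule.sum_mem _ fun c _ => Submodule.smul_mem _ _ (single_mem_suppIn c.2 _)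
  have heq : ∀ i, ∀ z ∈ suppIn k (L.H : Set G), ∀ w, Y i (ρ z w) = z * Y i w := by
    intro i z hz
    refine induction_suppIn (P := fun z => ∀ w, Y i (ρ z w) = z * Y i w) (by simp)
      (fun u u' hu hu' w => by rw [map_add, LinearMap.add_apply, map_add, hu, hu', add_mul])
      (fun h hh r w => ?_) hz
    have hr : (single h r : MonoidAlgebra k G) = r • single h 1 := by
      rw [smul_single', mul_one]
    rw [hr, map_smul, LinearMap.smul_apply, map_smul, smul_mul_assoc]
    congr 1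
    rw [hY, hY, Finset.mul_sum]
    refine Fintype.sum_equiv (Equiv.mulLeft (⟨h, hh⟩ : L.H)⁻¹) _ _ fun c => ?_
    rw [Equiv.coe_mulLeft, mul_smul_comm, single_mul_single, mul_one]
    simp only [Subgroup.coe_mul, Subgroup.coe_inv, mul_inv_rev, inv_inv, mul_inv_cancel_left]
    rw [el_mul, Module.End.mul_apply]
  have hsum : ∀ w, ∑ c : L.H, el ρ' (c : G) (R (el ρ ((c : G)⁻¹) w)) = ∑ i, ρ' (Y i w) (b i) := by
    intro w
    simp only [hY, map_sum, LinearMap.sum_apply, map_smul, LinearMap.smul_apply]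
    rw [Finset.sum_comm]
    refine Finset.sum_congr rfl fun c _ => ?_
    conv_lhs => rw [← b.sum_repr (R (el ρ ((c : G)⁻¹) w))]
    simp only [map_sum, map_smul, Module.Basis.coord_apply]
  rw [hsum, map_sum]
  refine Submodule.sum_mem _ fun i _ => ?_
  obtain ⟨z, hz⟩ := L.exists_eq_x_mul (hmem i v) (by
    rw [← heq i _ (pow_mem_subgroup L.hxH _), hv0, map_zero])
  rw [← Twist.rho_mul, hz, Twist.rho_mul]
  exact LinearMap.mem_range_self _ _

variable (γ₀ : V →ₗ[k] V')

/-- The extension of a corner map to a map over `T`. -/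
noncomputable def ext : V →ₗ[k] V' := ∑ j, ρ' (L.uu j) ∘ₗ γ₀ ∘ₗ ρ (L.f * L.vv j)

omit [FiniteDimensional k V'] in
theorem ext_apply (v : V) : L.ext ρ ρ' γ₀ v = ∑ j, ρ' (L.uu j) (γ₀ (ρ (L.f * L.vv j) v)) := by
  simp [ext]

variable {γ₀} (h1 : ∀ w, ρ' L.f (γ₀ w) = γ₀ w) (h2 : ∀ w, γ₀ (ρ L.f w) = γ₀ w)
  (hx : ∀ w, γ₀ (ρ L.x w) = ρ' L.x (γ₀ w)) (hg : ∀ w, γ₀ (ρ L.g w) = ρ' L.g (γ₀ w))
include h1 h2

omit [FiniteDimensional k V'] in
theorem ext_ec_left (v : V) : ρ' L.ec (L.ext ρ ρ' γ₀ v) = L.ext ρ ρ' γ₀ v := by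
  rw [ext_apply, map_sum]
  refine Finset.sum_congr rfl fun j _ => ?_
  rw [← h1, ← Twist.rho_mul ρ' (L.uu j) L.f, ← Twist.rho_mul, L.ec_uf]

omit [FiniteDimensional k V'] in
theorem ext_ec (v : V) : L.ext ρ ρ' γ₀ (ρ L.ec v) = L.ext ρ ρ' γ₀ v := by
  rw [ext_apply, ext_apply]
  refine Finset.sum_congr rfl fun j _ => ?_
  rw [← Twist.rho_mul, show L.f * L.vv j * L.ec = L.f * L.vv j by
    rw [mul_assoc, ← L.hecT _ (L.suppT (L.hvH j)), ← mul_assoc, L.f_ec]]

include hx hg

omit [FiniteDimensional k V'] in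
/-- The corner map commutes with the corner over `T`. -/
theorem comm_corner {z : MonoidAlgebra k G} (hz : z ∈ suppIn k (L.T : Set G)) (w : V) :
    γ₀ (ρ (L.f * z * L.f) w) = ρ' (L.f * z * L.f) (γ₀ w) := by
  have hxi : ∀ (i : ℕ) w, γ₀ (ρ (L.x ^ i) w) = ρ' (L.x ^ i) (γ₀ w) := fun i => by
    induction i with
    | zero => intro w; simp
    | succ i ih => intro w; rw [pow_succ', Twist.rho_mul, hx, ih, Twist.rho_mul]
  have hgi : ∀ (i : ℕ) w, γ₀ (ρ (L.g ^ i) w) = ρ' (L.g ^ i) (γ₀ w) := fun i => by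
    induction i with
    | zero => intro w; simp
    | succ i ih => intro w; rw [pow_succ', Twist.rho_mul, hg, ih, Twist.rho_mul]
  revert w
  have hz' := L.hTf z hz
  generalize L.f * z * L.f = u at hz' ⊢
  induction hz' using Submodule.span_induction with
  | mem u hu =>
    obtain ⟨q, rfl⟩ := hu
    intro w
    rw [Twist.rho_mul, Twist.rho_mul, hxi, hgi, h2, Twist.rho_mul, Twist.rho_mul, h1]
  | zero => simp
  | add u u' _ _ hu hu' => intro w; simp [hu, hu']
  | smul r u _ hu => intro w; simp [hu]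

omit [FiniteDimensional k V'] in
theorem ext_corner {v : V} (hv : ρ L.f v = v) : ρ' L.f (L.ext ρ ρ' γ₀ v) = γ₀ v := by
  rw [ext_apply, map_sum]
  calc ∑ j, ρ' L.f (ρ' (L.uu j) (γ₀ (ρ (L.f * L.vv j) v)))
      = ∑ j, γ₀ (ρ (L.f * L.uu j * L.f) (ρ (L.f * L.vv j) v)) := by
        refine Finset.sum_congr rfl fun j _ => ?_
        rw [L.comm_corner ρ ρ' h1 h2 hx hg (L.suppT (L.huH j)), Twist.rho_mul ρ' (L.f * L.uu j), h1,
          Twist.rho_mul ρ' L.f (L.uu j)]
    _ = γ₀ (ρ (L.f * L.ec) v) := by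
        rw [← map_sum, ← L.hdec, Finset.mul_sum]
        refine congrArg γ₀ ?_
        rw [map_sum, LinearMap.sum_apply]
        refine Finset.sum_congr rfl fun j _ => ?_
        rw [← Twist.rho_mul]
        congr 2
        rw [show L.f * L.uu j * L.f * (L.f * L.vv j) = L.f * L.uu j * (L.f * L.f) * L.vv j by
          simp only [mul_assoc], L.hff]
        simp only [mul_assoc]
    _ = γ₀ v := by rw [L.f_ec, hv]

omit [FiniteDimensional k V'] in
/-- The extension commutes with everything over `T`. -/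
theorem ext_comm {z : MonoidAlgebra k G} (hz : z ∈ suppIn k (L.T : Set G)) (s : V) :
    L.ext ρ ρ' γ₀ (ρ z s) = ρ' z (L.ext ρ ρ' γ₀ s) := by
  have hstep : ∀ j, γ₀ (ρ (L.f * L.vv j) (ρ z s)) =
      ∑ l, ρ' (L.f * (L.vv j * z * L.uu l) * L.f) (γ₀ (ρ (L.f * L.vv l) s)) := fun j => by
    have hmem : ∀ l, L.vv j * z * L.uu l ∈ suppIn k (L.T : Set G) := fun l =>
      mul_mem_subgroup (mul_mem_subgroup (L.suppT (L.hvH j)) hz) (L.suppT (L.huH l))
    simp only [← L.comm_corner ρ ρ' h1 h2 hx hg (hmem _)]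
    rw [← map_sum]
    refine congrArg γ₀ ?_
    simp only [← Twist.rho_mul]
    rw [← LinearMap.sum_apply, ← map_sum]
    refine congrArg (fun u => ρ u s) ?_
    calc L.f * L.vv j * z = L.f * (L.vv j * z) * L.ec := by
          rw [mul_assoc L.f (L.vv j * z), ← L.hecT _ (mul_mem_subgroup (L.suppT (L.hvH j)) hz),
            ← mul_assoc L.f L.ec, L.f_ec, mul_assoc]
      _ = ∑ l, L.f * (L.vv j * z * L.uu l) * L.f * (L.f * L.vv l) := by
          rw [← L.hdec, Finset.mul_sum]
          refine Finset.sum_congr rfl fun l _ => ?_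
          rw [show L.f * (L.vv j * z * L.uu l) * L.f * (L.f * L.vv l) =
            L.f * (L.vv j * z * L.uu l) * (L.f * L.f) * L.vv l by simp only [mul_assoc], L.hff]
          simp only [mul_assoc]
  rw [ext_apply, ext_apply, map_sum]
  simp only [hstep]
  simp only [map_sum, ← Twist.rho_mul]
  rw [Finset.sum_comm]
  refine Finset.sum_congr rfl fun l _ => ?_
  rw [← LinearMap.sum_apply, ← map_sum]
  conv_rhs => rw [← h1 (ρ (L.f * L.vv l) s), ← Twist.rho_mul]
  refine congrArg (fun u => ρ' u (γ₀ (ρ (L.f * L.vv l) s))) ?_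
  calc ∑ j, L.uu j * (L.f * (L.vv j * z * L.uu l) * L.f) = L.ec * (z * L.uu l * L.f) := by
        rw [← L.hdec, Finset.sum_mul]
        simp only [mul_assoc]
    _ = z * L.uu l * L.f := by
        rw [show z * L.uu l * L.f = z * (L.uu l * L.f) by rw [mul_assoc], ← mul_assoc,
          L.hecT z hz, mul_assoc, L.ec_uf]

end Rep

end Loc

end CfsgLib.CyclicRank
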