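import Cfsg.Agent.Lib.Pairs.AbelianLocal

/-!
# The defect group of the block below the top pair, for an abelian defect group
-/

set_option autoImplicit false

namespace CfsgLib.CyclicRank

open Cfsg CfsgLib.Blocks CfsgLib.Pairs MonoidAlgebra

variable {G : Type*} [Group G] [Fintype G] {M : Ideal AlgInt} [M.IsPrime] {p : ℕ} [Fact p.Prime]
  (hM : IsPModular p M)
include hM

theorem isDefectGroup_below {B : Set (IrrCharacter G)} {P : Subgroup G}
    {c : Set (IrrCharacter (Subgroup.centralizer (P : Set G)))}
    (hmax : IsMaximalBrauerPair p M B P c) (hab : ∀ x ∈ P, ∀ y ∈ P, x * y = y * x)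
    {Q : Subgroup G} {f₀ : Set (IrrCharacter (Subgroup.centralizer (Q : Set G)))}
    (hle : SubpairLE p M Q f₀ P c) :
    IsDefectGroup p M f₀ (P.subgroupOf (Subgroup.centralizer (Q : Set G))) := by
  classical
  have hQP : Q ≤ P := le_of_subpairLE hle
  have hPC := le_centralizer_of_abelian hmax hab hQP
  have hfc : (blockFusion hM hmax).IsFullyCentralized Q := by
    refine ⟨hQP, fun R hR => ?_⟩
    have hRP : R ≤ P := CfsgLib.Fusion.isConj_le_right hR
    rw [CfsgLib.Fusion.centralizerIn_eq_self hab hQP, CfsgLib.Fusion.centralizerIn_eq_self hab hRP]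
  have h := (isFullyCentralized_iff (isBlockFusionSystemOn_blockFusion hM hmax) hM hle).1 hfc
  rwa [inf_eq_left.2 hPC] at h

end CfsgLib.CyclicRank
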