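import Mathlib.Algebra.Algebra.Basic
import Mathlib.LinearAlgebra.Span.Basic
import Mathlib.Algebra.Field.GeomSum
import Mathlib.Algebra.CharP.Lemmas
import Mathlib.Algebra.CharP.Algebra
import Mathlib.LinearAlgebra.Finsupp.LinearCombination
import Mathlib.FieldTheory.IsAlgClosed.Basic
import Mathlib.FieldTheory.Finite.Basic
import Mathlib.RingTheory.RootsOfUnity.PrimitiveRoots

/-!
# Twisting a uniserial corner

An element `g` that normalizes `k[x] f` has, after a change of generator and of scale, `g ^ e = f`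
and `g x = s x g`.
-/

set_option autoImplicit false

namespace CfsgLib.CyclicRank

variable {k : Type*} [Field k] {A : Type*} [Ring A] [Algebra k A] {f x : A} {n : ℕ}

/-- The span of the powers in the corner. -/
def powSpan (k : Type*) [Field k] {A : Type*} [Ring A] [Algebra k A] (f x : A) (n : ℕ) :
    Submodule k A := Submodule.span k (Set.range fun i : Fin n => x ^ (i : ℕ) * f)

/-- The hypotheses on the corner. -/
structure IsUni (f x : A) (n : ℕ) : Prop where
  hff : f * f = f
  hfx : f * x = x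
  hxf : x * f = x
  hxn : x ^ n = 0
  hn : 2 ≤ n
  hx0 : x ^ (n - 1) ≠ 0

namespace IsUni

variable (h : IsUni f x n)
include h

theorem comm (i : ℕ) : Commute f (x ^ i) :=
  ((show Commute f x from h.hfx.trans h.hxf.symm)).pow_right i

theorem pow_f {i : ℕ} (hi : 1 ≤ i) : x ^ i * f = x ^ i := by
  obtain ⟨j, rfl⟩ : ∃ j, i = j + 1 := ⟨i - 1, by omega⟩
  rw [pow_succ, mul_assoc, h.hxf]

theorem pow_mem (i : ℕ) : x ^ i * f ∈ powSpan k f x n := by
  by_cases hi : i < n
  · exact Submodule.subset_span ⟨⟨i, hi⟩, rfl⟩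
  · rw [show i = n + (i - n) by omega, pow_add, h.hxn, zero_mul, zero_mul]
    exact Submodule.zero_mem _

theorem f_mem : f ∈ powSpan k f x n := by
  simpa using h.pow_mem (k := k) 0

theorem f_mul {u : A} (hu : u ∈ powSpan k f x n) : f * u = u := by
  induction hu using Submodule.span_induction with
  | mem u hu =>
    obtain ⟨i, rfl⟩ := hu
    rw [← mul_assoc, (h.comm i).eq, mul_assoc, h.hff]
  | zero => rw [mul_zero]
  | add u v _ _ hu hv => rw [mul_add, hu, hv]
  | smul r u _ hu => rw [mul_smul_comm, hu]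

theorem mul_f {u : A} (hu : u ∈ powSpan k f x n) : u * f = u := by
  induction hu using Submodule.span_induction with
  | mem u hu => obtain ⟨i, rfl⟩ := hu; rw [mul_assoc, h.hff]
  | zero => rw [zero_mul]
  | add u v _ _ hu hv => rw [add_mul, hu, hv]
  | smul r u _ hu => rw [smul_mul_assoc, hu]

theorem x_comm {u : A} (hu : u ∈ powSpan k f x n) (i : ℕ) : x ^ i * u = u * x ^ i := by
  induction hu using Submodule.span_induction with
  | mem u hu =>
    obtain ⟨j, rfl⟩ := hu
    rw [mul_assoc, (h.comm i).eq, ← mul_assoc, ← mul_assoc, ← pow_add, ← pow_add, add_comm]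
  | zero => rw [zero_mul, mul_zero]
  | add u v _ _ hu hv => rw [mul_add, add_mul, hu, hv]
  | smul r u _ hu => rw [mul_smul_comm, smul_mul_assoc, hu]

theorem x_mul_mem {u : A} (hu : u ∈ powSpan k f x n) (i : ℕ) : x ^ i * u ∈ powSpan k f x n := by
  induction hu using Submodule.span_induction with
  | mem u hu => obtain ⟨j, rfl⟩ := hu; rw [← mul_assoc, ← pow_add]; exact h.pow_mem _
  | zero => rw [mul_zero]; exact Submodule.zero_mem _
  | add u v _ _ hu hv => rw [mul_add]; exact add_mem hu hv
  | smul r u _ hu => rw [mul_smul_comm]; exact Submodule.smul_mem _ _ hu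

theorem mul_mem {u v : A} (hu : u ∈ powSpan k f x n) (hv : v ∈ powSpan k f x n) :
    u * v ∈ powSpan k f x n := by
  induction hu using Submodule.span_induction with
  | mem u hu => obtain ⟨j, rfl⟩ := hu; rw [mul_assoc, h.f_mul hv]; exact h.x_mul_mem hv _
  | zero => rw [zero_mul]; exact Submodule.zero_mem _
  | add u w _ _ hu hw => rw [add_mul]; exact add_mem hu hw
  | smul r u _ hu => rw [smul_mul_assoc]; exact Submodule.smul_mem _ _ hu

theorem mul_comm' {u v : A} (hu : u ∈ powSpan k f x n) (hv : v ∈ powSpan k f x n) :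
    u * v = v * u := by
  induction hu using Submodule.span_induction with
  | mem u hu =>
    obtain ⟨j, rfl⟩ := hu
    rw [mul_assoc, h.f_mul hv, h.x_comm hv, ← mul_assoc]
    conv_rhs => rw [mul_assoc, ← (h.comm j).eq, ← mul_assoc, h.mul_f hv]
  | zero => rw [zero_mul, mul_zero]
  | add u w _ _ hu hw => rw [add_mul, mul_add, hu, hw]
  | smul r u _ hu => rw [smul_mul_assoc, mul_smul_comm, hu]

/-- The constant term. -/
theorem exists_split {u : A} (hu : u ∈ powSpan k f x n) :
    ∃ c : k, ∃ w ∈ powSpan k f x n, u = c • f + x * w := by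
  induction hu using Submodule.span_induction with
  | mem u hu =>
    obtain ⟨⟨j, hj⟩, rfl⟩ := hu
    rcases Nat.eq_zero_or_pos j with rfl | hj0
    · exact ⟨1, 0, Submodule.zero_mem _, by simp⟩
    · refine ⟨0, x ^ (j - 1) * f, h.pow_mem _, ?_⟩
      rw [zero_smul, zero_add, ← mul_assoc, ← pow_succ', Nat.sub_add_cancel hj0]
  | zero => exact ⟨0, 0, Submodule.zero_mem _, by simp⟩
  | add u v _ _ hu hv =>
    obtain ⟨c, w, hw, rfl⟩ := hu
    obtain ⟨c', w', hw', rfl⟩ := hv
    exact ⟨c + c', w + w', add_mem hw hw', by rw [add_smul, mul_add]; abel⟩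
  | smul r u _ hu =>
    obtain ⟨c, w, hw, rfl⟩ := hu
    exact ⟨r * c, r • w, Submodule.smul_mem _ _ hw, by rw [smul_add, smul_smul, mul_smul_comm]⟩

theorem xw_nilpotent {w : A} (hw : w ∈ powSpan k f x n) : (x * w) ^ n = 0 := by
  have hc : Commute x w := by
    have := h.x_comm hw 1
    rw [pow_one] at this
    exact this
  rw [hc.mul_pow, h.hxn, zero_mul]

theorem top_mul {c : k} {w : A} (hw : w ∈ powSpan k f x n) :
    x ^ (n - 1) * (c • f + x * w) = c • x ^ (n - 1) := by
  have := h.hn
  rw [mul_add, mul_smul_comm, h.pow_f (by omega), ← mul_assoc, ← pow_succ,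
    Nat.sub_add_cancel (by omega), h.hxn, zero_mul, add_zero]

/-- An element of the corner is nilpotent or invertible. -/
theorem unit_or_nilpotent {u : A} (hu : u ∈ powSpan k f x n) :
    IsNilpotent u ∨ ∃ v ∈ powSpan k f x n, u * v = f ∧ v * u = f := by
  classical
  obtain ⟨c, w, hw, rfl⟩ := h.exists_split hu
  by_cases hc : c = 0
  · exact Or.inl ⟨n, by rw [hc, zero_smul, zero_add, h.xw_nilpotent hw]⟩
  right
  set m := -(c⁻¹ • (x * w)) with hm
  have hxw : x * w ∈ powSpan k f x n := by simpa using h.x_mul_mem hw 1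
  have hmS : m ∈ powSpan k f x n := neg_mem (Submodule.smul_mem _ _ hxw)
  have hmn : m ^ n = 0 := by
    rw [hm, neg_pow, smul_pow, h.xw_nilpotent hw, smul_zero, mul_zero]
  set v := c⁻¹ • ∑ i ∈ Finset.range n, f * m ^ i with hv
  have hterm : ∀ i, f * m ^ i ∈ powSpan k f x n := fun i => by
    induction i with
    | zero => rw [pow_zero, mul_one]; exact h.f_mem
    | succ i ih => rw [pow_succ, ← mul_assoc]; exact h.mul_mem ih hmS
  have hvS : v ∈ powSpan k f x n :=
    Submodule.smul_mem _ _ (Submodule.sum_mem _ fun i _ => hterm i)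
  have hvu : v * (c • f + x * w) = f := by
    have e1 : c • f + x * w = c • (f * (1 - m)) := by
      rw [mul_sub, mul_one, h.f_mul hmS, smul_sub, hm, smul_neg, smul_smul, mul_inv_cancel₀ hc,
        one_smul, sub_neg_eq_add]
    have hs : Commute (∑ i ∈ Finset.range n, m ^ i) f :=
      Commute.sum_left _ _ _ fun i _ =>
        ((show Commute f m from (h.f_mul hmS).trans (h.mul_f hmS).symm).pow_right i).symm
    rw [e1, hv, smul_mul_assoc, mul_smul_comm, smul_smul, inv_mul_cancel₀ hc, one_smul,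
      ← Finset.mul_sum, mul_assoc f, ← mul_assoc (∑ i ∈ _, _) f, hs.eq, mul_assoc f (∑ i ∈ _, _),
      ← mul_assoc f f, h.hff, geom_sum_mul_neg, hmn, sub_zero, mul_one]
  exact ⟨v, hvS, by rw [h.mul_comm' hu hvS, hvu], hvu⟩

/-- A nonzero nilpotent element is a power of `x` times a unit. -/
theorem exists_order {u : A} (hu : u ∈ powSpan k f x n) (hu0 : u ≠ 0) :
    ∃ j < n, ∃ c : k, c ≠ 0 ∧ ∃ w ∈ powSpan k f x n, u = x ^ j * (c • f + x * w) := by
  by_contra hcon
  push Not at hcon
  have key : ∀ j ≤ n, ∃ v ∈ powSpan k f x n, u = x ^ j * v := by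
    intro j hj
    induction j with
    | zero => exact ⟨u, hu, by simp⟩
    | succ j ih =>
      obtain ⟨v, hv, huv⟩ := ih (by omega)
      obtain ⟨c, w, hw, rfl⟩ := h.exists_split hv
      by_cases hc : c = 0
      · exact ⟨w, hw, by rw [huv, hc, zero_smul, zero_add, ← mul_assoc, ← pow_succ]⟩
      · exact absurd huv (hcon j (by omega) c hc w hw)
  obtain ⟨v, -, hv⟩ := key n le_rfl
  exact hu0 (by rw [hv, h.hxn, zero_mul])

/-- The normal form of a twisting element. -/
theorem exists_twist [IsAlgClosed k] {p : ℕ} [Fact p.Prime] [CharP k p] {g g' : A} {e : ℕ}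
    (he : 1 ≤ e) (hep : ¬ p ∣ e) (hfg : f * g = g) (hgf : g * f = g) (hgg : g * g' = f)
    (hg'g : g' * g = f) (hconj : ∀ u ∈ powSpan k f x n, g * u * g' ∈ powSpan k f x n)
    (hge : g ^ e ∈ powSpan k f x n) (hge' : g' ^ e ∈ powSpan k f x n)
    {z : A} (hz : z ∈ powSpan k f x n) (hz0 : z ≠ 0) (hznil : IsNilpotent z) {r : k}
    (hzr : ∃ w ∈ powSpan k f x n, g * z * g' = z * (r • f + x * w))
    (hr : ∀ m : ℕ, r ^ m = 1 → e ∣ m) :
    ∃ (y : A) (u : A) (ζ : k), IsUni f y n ∧ powSpan k f x n ≤ powSpan k f y n ∧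
      y ∈ powSpan k f x n ∧ u ∈ powSpan k f x n ∧ (g * u) ^ e = f ∧
      g * u * y = ζ • (y * (g * u)) ∧ IsPrimitiveRoot ζ e := by
  classical
  have hek : (e : k) ≠ 0 := fun h0 => hep ((CharP.cast_eq_zero_iff k p e).1 h0)
  have hn := h.hn
  have hx : x ∈ powSpan k f x n := by simpa [h.hxf] using h.pow_mem (k := k) 1
  let σ : A → A := fun u => g * u * g'
  have hσm : ∀ {u v : A}, v ∈ powSpan k f x n → σ (u * v) = σ u * σ v := fun {u v} hv => by
    show g * (u * v) * g' = g * u * g' * (g * v * g')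
    rw [show g * u * g' * (g * v * g') = g * u * (g' * g) * v * g' by simp only [mul_assoc], hg'g,
      mul_assoc (g * u) f, h.f_mul hv, mul_assoc g u]
  have hσf : σ f = f := by show g * f * g' = f; rw [hgf, hgg]
  have hσadd : ∀ u v, σ (u + v) = σ u + σ v := fun u v => by
    show g * (u + v) * g' = _; rw [mul_add, add_mul]
  have hσsmul : ∀ (c : k) u, σ (c • u) = c • σ u := fun c u => by
    show g * (c • u) * g' = _; rw [mul_smul_comm, smul_mul_assoc]
  -- the linear term
  obtain ⟨c0, q, hq, hσx⟩ := h.exists_split (hconj x hx)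
  have hc0 : c0 = 0 := by
    have h1 : σ x ^ n = σ (x ^ n) := by
      have : ∀ i, 1 ≤ i → σ x ^ i = σ (x ^ i) := fun i hi => by
        induction i with
        | zero => omega
        | succ i ih =>
          rcases Nat.eq_zero_or_pos i with rfl | hi'
          · simp
          · rw [pow_succ, ih hi', ← hσm hx, ← pow_succ]
      exact this n (by omega)
    have h0 : σ (x ^ n) = 0 := by show g * x ^ n * g' = 0; rw [h.hxn, mul_zero, zero_mul]
    have h2 : ∀ i, x ^ (n - 1) * σ x ^ i = c0 ^ i • x ^ (n - 1) := fun i => by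
      induction i with
      | zero => simp
      | succ i ih =>
        rw [pow_succ (σ x), ← mul_assoc, ih, smul_mul_assoc,
          show σ x = c0 • f + x * q from hσx, h.top_mul hq, smul_smul, ← pow_succ]
    have h3 := h2 n
    rw [h1, h0, mul_zero, eq_comm, smul_eq_zero] at h3
    exact (pow_eq_zero_iff (by omega)).1 (h3.resolve_right h.hx0)
  obtain ⟨s, q', hq', hqsplit⟩ := h.exists_split hq
  have hσx1 : σ x = x * q := by rw [show σ x = c0 • f + x * q from hσx, hc0, zero_smul, zero_add]
  have hσq : ∀ w ∈ powSpan k f x n, ∃ w' ∈ powSpan k f x n, σ (x * x * w) = x * x * w' := by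
    intro w hw
    refine ⟨q * q * σ w, h.mul_mem (h.mul_mem hq hq) (hconj w hw), ?_⟩
    rw [mul_assoc, hσm (by simpa using h.x_mul_mem hw 1), hσm hw, hσx1,
      show x * q * (x * q * σ w) = x * (q * x) * q * σ w by simp only [mul_assoc],
      show q * x = x * q by simpa using (h.x_comm hq 1).symm]
    simp only [mul_assoc]
  have hiter : ∀ j : ℕ, σ^[j] x ∈ powSpan k f x n ∧
      ∃ w ∈ powSpan k f x n, σ^[j] x = s ^ j • x + x * x * w := by
    intro j
    induction j with
    | zero => exact ⟨hx, 0, Submodule.zero_mem _, by simp⟩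
    | succ j ih =>
      obtain ⟨hS, w, hw, hwj⟩ := ih
      obtain ⟨w', hw', hσw⟩ := hσq w hw
      rw [Function.iterate_succ_apply']
      refine ⟨hconj _ hS, s ^ j • q' + w', add_mem (Submodule.smul_mem _ _ hq') hw', ?_⟩
      rw [hwj, hσadd, hσsmul, hσw, hσx1, hqsplit, mul_add x, mul_smul_comm, h.hxf, smul_add,
        smul_smul, ← pow_succ, mul_add (x * x), mul_smul_comm, mul_assoc x x q', add_assoc]
  have hpow : ∀ (j : ℕ), 1 ≤ j → ∀ u, σ^[j] u = g ^ j * u * g' ^ j := by
    intro j hj u
    induction j with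
    | zero => omega
    | succ j ih =>
      rcases Nat.eq_zero_or_pos j with rfl | hj'
      · simp [σ]
      · rw [Function.iterate_succ_apply', ih hj']
        show g * (g ^ j * u * g' ^ j) * g' = _
        rw [pow_succ' g, pow_succ g']
        simp only [mul_assoc]
  have hgpow : ∀ j, 1 ≤ j → g ^ j * g' ^ j = f := fun j hj => by
    induction j with
    | zero => omega
    | succ j ih =>
      rcases Nat.eq_zero_or_pos j with rfl | hj'
      · simpa using hgg
      · rw [pow_succ, pow_succ', show g ^ j * g * (g' * g' ^ j) = g ^ j * (g * g') * g' ^ j by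
          simp only [mul_assoc], hgg]
        obtain ⟨i, rfl⟩ : ∃ i, j = i + 1 := ⟨j - 1, by omega⟩
        rw [pow_succ g i, mul_assoc (g ^ i) g f, hgf, ← pow_succ, ih hj']
  have hper : σ^[e] x = x := by
    rw [hpow e he, h.mul_comm' hge hx, mul_assoc, hgpow e he, h.hxf]
  have hse : s ^ e = 1 := by
    obtain ⟨-, w, hw, hwe⟩ := hiter e
    rw [hper] at hwe
    have h1 := congrArg (x ^ (n - 2) * ·) hwe
    simp only [mul_add, mul_smul_comm] at h1
    rw [← mul_assoc, ← mul_assoc, ← pow_succ, ← pow_succ, show n - 2 + 1 = n - 1 by omega,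
      show n - 1 + 1 = n by omega, h.hxn, zero_mul, add_zero] at h1
    have h2 : (s ^ e - 1) • x ^ (n - 1) = 0 := by rw [sub_smul, one_smul, ← h1, sub_self]
    exact sub_eq_zero.1 ((smul_eq_zero.1 h2).resolve_right h.hx0)
  have hs0 : s ≠ 0 := fun h0 => by rw [h0, zero_pow (by omega)] at hse; exact zero_ne_one hse
  -- the eigenvector
  set F : ℕ → A := fun j => (s⁻¹) ^ j • σ^[j] x with hF
  set y := ∑ j ∈ Finset.range e, F j with hy
  have hF0 : F e = F 0 := by simp [hF, hper, hse, inv_pow]
  have hσy : σ y = s • y := by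
    have h1 : ∑ j ∈ Finset.range e, F (j + 1) = ∑ j ∈ Finset.range e, F j := by
      have h2 := Finset.sum_range_succ F e
      rw [Finset.sum_range_succ', hF0] at h2
      exact add_right_cancel h2
    conv_rhs => rw [hy, ← h1]
    show g * (∑ j ∈ Finset.range e, F j) * g' = _
    rw [Finset.mul_sum, Finset.sum_mul, Finset.smul_sum]
    refine Finset.sum_congr rfl fun j _ => ?_
    simp only [hF, mul_smul_comm, smul_mul_assoc, smul_smul, pow_succ', ← mul_assoc,
      mul_inv_cancel₀ hs0, one_mul, Function.iterate_succ_apply']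
    rfl
  choose W hW hWeq using fun j => (hiter j).2
  obtain ⟨q1, hq1, hyq⟩ : ∃ q1 ∈ powSpan k f x n, y = x * ((e : k) • f + x * q1) := by
    refine ⟨∑ j ∈ Finset.range e, (s⁻¹) ^ j • W j, Submodule.sum_mem _ fun j _ =>
      Submodule.smul_mem _ _ (hW j), ?_⟩
    rw [hy, mul_add, mul_smul_comm, h.hxf, ← mul_assoc, Finset.mul_sum]
    simp only [hF, hWeq, smul_add, smul_smul, mul_smul_comm, ← mul_pow, inv_mul_cancel₀ hs0,
      one_pow, one_smul, Finset.sum_add_distrib, Finset.sum_const, Finset.card_range,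
      ← Nat.cast_smul_eq_nsmul k, mul_one]
  set Q := (e : k) • f + x * q1 with hQ
  have hQS : Q ∈ powSpan k f x n :=
    add_mem (Submodule.smul_mem _ _ h.f_mem) (by simpa using h.x_mul_mem hq1 1)
  have hyS : y ∈ powSpan k f x n := by rw [hyq]; simpa using h.x_mul_mem hQS 1
  have hQtop : ∀ i, x ^ (n - 1) * Q ^ i = (e : k) ^ i • x ^ (n - 1) := fun i => by
    induction i with
    | zero => simp
    | succ i ih => rw [pow_succ, ← mul_assoc, ih, smul_mul_assoc, hQ, h.top_mul hq1, smul_smul, ← pow_succ]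
  have hxQ : Commute x Q := by
    have := h.x_comm hQS 1
    rw [pow_one] at this
    exact this
  have hyU : IsUni f y n :=
    { hff := h.hff
      hfx := h.f_mul hyS
      hxf := h.mul_f hyS
      hxn := by rw [hyq, hxQ.mul_pow, h.hxn, zero_mul]
      hn := hn
      hx0 := by
        rw [hyq, hxQ.mul_pow, hQtop]
        exact fun h0 => h.hx0 ((smul_eq_zero.1 h0).resolve_left (pow_ne_zero _ hek)) }
  obtain ⟨Q', hQ'S, -, hQ'⟩ : ∃ v ∈ powSpan k f x n, Q * v = f ∧ v * Q = f := by
    refine (h.unit_or_nilpotent hQS).resolve_left ?_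
    rintro ⟨N, hN⟩
    have h1 := hQtop N
    rw [hN, mul_zero, eq_comm, smul_eq_zero] at h1
    exact pow_ne_zero _ hek (h1.resolve_right h.hx0)
  have hxy : x = y * Q' := by
    rw [hyq, mul_assoc, h.mul_comm' hQS hQ'S, hQ', h.hxf]
  have hspan : powSpan k f x n ≤ powSpan k f y n := by
    have key : ∀ i, ∀ w ∈ powSpan k f x n, x ^ (n - i) * w ∈ powSpan k f y n := by
      intro i
      induction i with
      | zero => intro w _; rw [Nat.sub_zero, h.hxn, zero_mul]; exact Submodule.zero_mem _
      | succ i ih =>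
        intro w hw
        by_cases hi : n ≤ i
        · rw [show n - (i + 1) = n - i by omega]; exact ih w hw
        set j := n - (i + 1) with hj
        have hij : n - i = j + 1 := by omega
        rw [hij] at ih
        -- replace `x ^ j` by `y ^ j`
        have hQj : ∀ j : ℕ, Q' ^ j * f ∈ powSpan k f x n := fun j => by
          induction j with
          | zero => rw [pow_zero, one_mul]; exact h.f_mem
          | succ j ihj => rw [pow_succ', mul_assoc]; exact h.mul_mem hQ'S ihj
        obtain ⟨c, w', hw', hQw⟩ := h.exists_split (h.mul_mem (hQj j) hw)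
        have hyQ' : Commute y Q' := h.mul_comm' hyS hQ'S
        have e1 : x ^ j * w = c • (y ^ j * f) + y ^ j * (x * w') := by
          calc x ^ j * w = x ^ j * (f * w) := by rw [h.f_mul hw]
            _ = y ^ j * (Q' ^ j * f * w) := by rw [hxy, hyQ'.mul_pow]; simp only [mul_assoc]
            _ = _ := by rw [hQw, mul_add, mul_smul_comm]
        rw [e1]
        refine add_mem (Submodule.smul_mem _ _ (hyU.pow_mem _)) ?_
        rw [← mul_assoc, show y ^ j * x = x ^ (j + 1) * Q ^ j by
          rw [hyq, hxQ.mul_pow, mul_assoc, (hxQ.pow_right j).symm.eq, ← mul_assoc, ← pow_succ],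
          mul_assoc]
        refine ih _ ?_
        clear hj hij ih e1 hQw
        induction j with
        | zero => rw [pow_zero, one_mul]; exact hw'
        | succ j ihj => rw [pow_succ', mul_assoc]; exact h.mul_mem hQS ihj
    intro u hu
    have := key n u hu
    rwa [Nat.sub_self, pow_zero, one_mul] at this
  -- the order of the multiplier
  obtain ⟨j, hj, c, hc, w, hw, hzj⟩ := hyU.exists_order (hspan hz) hz0
  have hsub : powSpan k f y n ≤ powSpan k f x n := Submodule.span_le.2 (by
    rintro _ ⟨i, rfl⟩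
    show y ^ i.1 * f ∈ powSpan k f x n
    induction i.1 with
    | zero => rw [pow_zero, one_mul]; exact h.f_mem
    | succ i ih => rw [pow_succ', mul_assoc]; exact h.mul_mem hyS ih)
  obtain ⟨w₀, hw₀, hzr⟩ := hzr
  have hσj : ∀ i, ∀ u ∈ powSpan k f x n, σ (y ^ i * u) = s ^ i • (y ^ i * σ u) := by
    intro i
    induction i with
    | zero => intro u _; simp
    | succ i ih =>
      intro u hu
      have hyu : y * u ∈ powSpan k f x n := h.mul_mem hyS hu
      rw [pow_succ, mul_assoc, ih _ hyu, hσm hu, hσy, smul_mul_assoc, mul_smul_comm, smul_smul,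
        ← pow_succ, mul_assoc]
  have hsj : s ^ j = r := by
    have h1 : σ z = z * (r • f + x * w₀) := hzr
    have hv : y * w ∈ powSpan k f x n := h.mul_mem hyS (hsub hw)
    rw [hzj, hσj j _ (add_mem (Submodule.smul_mem _ _ h.f_mem) hv), hσadd, hσsmul, hσf] at h1
    have hσyw : σ (y * w) = y * (s • σ w) := by rw [hσm (hsub hw), hσy, smul_mul_assoc, mul_smul_comm]
    rw [hσyw] at h1
    obtain ⟨c2, w2, hw2, hsplit⟩ := hyU.exists_split
      (hspan (h.x_mul_mem hw₀ 1) : x ^ 1 * w₀ ∈ powSpan k f y n)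
    rw [pow_one] at hsplit
    have hc2 : c2 = 0 := by
      have e2 : y ^ (n - 1) * (x * w₀) = 0 := by
        rw [hxy, ← mul_assoc, ← mul_assoc, ← pow_succ, Nat.sub_add_cancel (by omega), hyU.hxn,
          zero_mul, zero_mul]
      rw [hsplit, hyU.top_mul hw2, smul_eq_zero] at e2
      exact e2.resolve_right hyU.hx0
    rw [hsplit, hc2, zero_smul, zero_add] at h1
    have h2 := congrArg (y ^ (n - 1 - j) * ·) h1
    rw [mul_smul_comm] at h2
    simp only [← mul_assoc, ← pow_add] at h2
    rw [show n - 1 - j + j = n - 1 by omega, hyU.top_mul (Submodule.smul_mem _ _ (hspan (hconj w (hsub hw)))),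
      hyU.top_mul hw, smul_mul_assoc, hyU.top_mul hw2, smul_smul, smul_smul] at h2
    have h3 : (s ^ j * c - c * r) • y ^ (n - 1) = 0 := by rw [sub_smul, h2, sub_self]
    have h4 := (smul_eq_zero.1 h3).resolve_right hyU.hx0
    rw [mul_comm, ← mul_sub, mul_eq_zero] at h4
    exact sub_eq_zero.1 (h4.resolve_left hc)
  have hζ : IsPrimitiveRoot s e := ⟨hse, fun m hm => hr m (by
    rw [← hsj, ← pow_mul, Nat.mul_comm, pow_mul, hm, one_pow])⟩
  -- the scale
  obtain ⟨c', w', hw', hge2⟩ := h.exists_split hge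
  have hc' : c' ≠ 0 := by
    intro h0
    have h1 := congrArg (x ^ (n - 1) * ·) (hgpow e he)
    rw [← mul_assoc, hge2, h.top_mul hw', h0, zero_smul, zero_mul, h.pow_f (by omega)] at h1
    exact h.hx0 h1.symm
  have : Nontrivial A := ⟨⟨x ^ (n - 1), 0, h.hx0⟩⟩
  have := charP_of_injective_algebraMap (algebraMap k A).injective (A := A) p
  set u1 := f + c'⁻¹ • (x * w') with hu1
  have hxw' : x * w' ∈ powSpan k f x n := by simpa using h.x_mul_mem hw' 1
  have hu1S : u1 ∈ powSpan k f x n := add_mem h.f_mem (Submodule.smul_mem _ _ hxw')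
  have hgu : g ^ e = c' • u1 := by
    rw [hge2, hu1, smul_add, smul_smul, mul_inv_cancel₀ hc', one_smul]
  obtain ⟨N, hN⟩ : ∃ N, n ≤ p ^ N := ⟨n, (Nat.lt_pow_self (Fact.out : p.Prime).one_lt).le⟩
  have hP : u1 ^ p ^ N = f := by
    have hc : Commute f (c'⁻¹ • (x * w')) :=
      (h.f_mul (Submodule.smul_mem _ _ hxw')).trans (h.mul_f (Submodule.smul_mem _ _ hxw')).symm
    rw [hu1, add_pow_char_pow_of_commute p N hc, smul_pow,
      show (x * w') ^ p ^ N = 0 by
        rw [show p ^ N = n + (p ^ N - n) by omega, pow_add, h.xw_nilpotent hw', zero_mul],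
      smul_zero, add_zero]
    exact (show IsIdempotentElem f from h.hff).pow_eq (pow_ne_zero N (Fact.out : p.Prime).ne_zero)
  set l := e ^ ((p ^ N).totient - 1) * (p ^ N - 1) with hl
  have hldiv : p ^ N ∣ l * e + 1 := by
    have hcop : e.Coprime (p ^ N) :=
      (((Fact.out : p.Prime).coprime_iff_not_dvd).2 hep).symm.pow_right N
    have hT := Nat.ModEq.pow_totient hcop
    have hpos : 1 ≤ p ^ N := Nat.one_le_pow _ _ (Fact.out : p.Prime).pos
    have htot : 1 ≤ (p ^ N).totient := Nat.totient_pos.2 hpos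
    have e1 : l * e = e ^ (p ^ N).totient * (p ^ N - 1) := by
      rw [hl, mul_right_comm, ← pow_succ, Nat.sub_add_cancel htot]
    rw [e1, ← Nat.modEq_zero_iff_dvd]
    refine ((hT.mul_right _).add_right 1).trans ?_
    rw [one_mul, Nat.sub_add_cancel hpos]
    exact Nat.modEq_zero_iff_dvd.2 dvd_rfl
  obtain ⟨d, hd⟩ := hldiv
  have hd0 : d ≠ 0 := by rintro rfl; omega
  obtain ⟨ρ, hρ⟩ := IsAlgClosed.exists_pow_nat_eq c'⁻¹ (n := e) (by omega)
  have hgu1 : Commute g u1 := by
    have h1 : Commute g (c' • u1) := hgu ▸ Commute.self_pow g e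
    have h2 := h1.smul_right c'⁻¹
    rwa [inv_smul_smul₀ hc'] at h2
  have hu1p : u1 ^ l * f ∈ powSpan k f x n := by
    clear hl hd hd0
    induction l with
    | zero => rw [pow_zero, one_mul]; exact h.f_mem
    | succ l ih => rw [pow_succ', mul_assoc]; exact h.mul_mem hu1S ih
  refine ⟨y, ρ • (u1 ^ l * f), s, hyU, hspan, hyS, Submodule.smul_mem _ _ hu1p, ?_, ?_, hζ⟩
  · have hgu' : g * (ρ • (u1 ^ l * f)) = ρ • (g * u1 ^ l) := by
      rw [mul_smul_comm, ← mul_assoc, (hgu1.pow_right l).eq, mul_assoc, hgf]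
    rw [hgu', smul_pow, hρ, (hgu1.pow_right l).mul_pow, hgu, smul_mul_assoc, smul_smul,
      inv_mul_cancel₀ hc', one_smul, ← pow_mul, ← pow_succ', hd, pow_mul, hP]
    exact (show IsIdempotentElem f from h.hff).pow_eq hd0
  · have hgy : g * y = s • (y * g) := by
      calc g * y = σ y * g := by
            show _ = g * y * g' * g
            rw [mul_assoc (g * y), hg'g, mul_assoc, h.mul_f hyS]
        _ = s • (y * g) := by rw [hσy, smul_mul_assoc]
    rw [mul_smul_comm, smul_mul_assoc, mul_assoc g, h.mul_comm' hu1p hyS, ← mul_assoc g, hgy,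
      smul_mul_assoc, mul_assoc y g, mul_smul_comm, smul_comm]

end IsUni

end CfsgLib.CyclicRank
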