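import Cfsg.Agent.Lib.Blocks.CyclicRank.Corner
import Cfsg.Agent.Lib.Blocks.CyclicRank.LocalBlock
import Cfsg.Agent.Lib.Blocks.CyclicRank.Uniserial
import Cfsg.Agent.Lib.Blocks.Cyclic1.Translate
import Cfsg.Agent.S4633
import Cfsg.Agent.S4689

/-!
# The regular rank of a block with cyclic defect group is the inertial index
-/

set_option autoImplicit false

namespace CfsgLib.CyclicRank

open Cfsg MonoidAlgebra CfsgLib.Blocks CfsgLib.Pairs CfsgLib.IBr

variable {G : Type*} [Group G] [Fintype G]

theorem inclElt_mem {k : Type*} [Field k] (H : Subgroup G) (a : MonoidAlgebra k H) :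
    inclElt H a ∈ suppIn k (H : Set G) := fun _ hg => coeff_inclElt_of_notMem H a hg

theorem inclElt_resElt {k : Type*} [Field k] (H : Subgroup G) (a : MonoidAlgebra k G) :
    inclElt H (resElt H a) = cut k (H : Set G) a := by
  refine MonoidAlgebra.ext (Finsupp.ext fun g => ?_)
  rw [coeff_cut]
  by_cases hg : g ∈ H
  · rw [Set.indicator_of_mem (show g ∈ (H : Set G) from hg)]
    exact coeff_inclElt H _ ⟨g, hg⟩
  · rw [Set.indicator_of_notMem (show g ∉ (H : Set G) from hg), coeff_inclElt_of_notMem H _ hg]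

theorem exists_incl_eq {k : Type*} [Field k] {H : Subgroup G} {z : MonoidAlgebra k G}
    (hz : z ∈ suppIn k (H : Set G)) : ∃ z₀, inclElt H z₀ = z :=
  ⟨resElt H z, (inclElt_resElt H z).trans (cut_eq_self hz)⟩

theorem inclElt_single {k : Type*} [Field k] (H : Subgroup G) (h : H) (c : k) :
    inclElt H (single h c) = single (h : G) c := mapDomain_single

theorem inclElt_injective {k : Type*} [Field k] (H : Subgroup G) :
    Function.Injective (inclElt (R := k) H) := fun a b h => by
  rw [← resElt_inclElt H a, h, resElt_inclElt]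

/-- An element commuting with a group element has invariant coefficients. -/
theorem single_comm_iff {k : Type*} [Field k] (u : G) (a : MonoidAlgebra k G) :
    single u 1 * a = a * single u 1 ↔ ∀ x, a.coeff (u * x * u⁻¹) = a.coeff x := by
  have h : ∀ x, (single u 1 * a).coeff (u * x) = a.coeff x ∧
      (a * single u 1).coeff (u * x) = a.coeff (u * x * u⁻¹) := fun x => by
    constructor
    · rw [show single u (1 : k) * a = single u 1 * a * single 1 1 by rw [← one_def, mul_one],
        MinimalDim.coeff_translate, inv_one, mul_one, inv_mul_cancel_left]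
    · rw [show a * single u (1 : k) = single 1 1 * a * single u 1 by rw [← one_def, one_mul],
        MinimalDim.coeff_translate, inv_one, one_mul]
  constructor
  · intro he x
    rw [← (h x).2, ← he, (h x).1]
  · intro hx
    refine MonoidAlgebra.ext (Finsupp.ext fun y => ?_)
    rw [show y = u * (u⁻¹ * y) by group, (h _).1, (h _).2, hx]

variable {p : ℕ} [Fact p.Prime] {M : Ideal AlgInt} [M.IsPrime] (hM : IsPModular p M)
  {B : Set (IrrCharacter G)} {D : Subgroup G}
include hM

/-- The subgroup of order `p` of a cyclic defect group, and the inertial quotient at it. -/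
theorem exists_local_data (hB : IsPBlock M B) (hD : IsDefectGroup p M B D) (hcyc : IsCyclic D)
    (hD0 : D ≠ ⊥) {b : Set (IrrCharacter (Subgroup.centralizer (D : Set G)))}
    (hb : IsBrauerPairOf p M B D b) :
    ∃ (y : G) (c : Set (IrrCharacter (Subgroup.centralizer (Subgroup.zpowers y : Set G)))),
      y ∈ D ∧ orderOf y = p ∧ IsBrauerPairOf p M B (Subgroup.zpowers y) c ∧
      IsDefectGroup p M c (D.subgroupOf (Subgroup.centralizer (Subgroup.zpowers y : Set G))) ∧
      blockRank p c = 1 ∧
      (Subgroup.centralizer (Subgroup.zpowers y : Set G)).relIndex (pairStab (Subgroup.zpowers y) c) =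
        (Subgroup.centralizer (D : Set G)).relIndex (pairStab D b) ∧
      ¬ p ∣ (Subgroup.centralizer (D : Set G)).relIndex (pairStab D b) ∧
      (∀ q : G, q ∉ Subgroup.normalizer (Subgroup.zpowers y : Set G) →
        ∀ d ∈ D, q⁻¹ * d * q ∈ D → d = 1) := by
  classical
  have hPp := IsDefectGroup.isPGroup hD
  have hab : ∀ x ∈ D, ∀ y ∈ D, x * y = y * x := by
    intro x hx y hy
    let := IsCyclic.commGroup (α := D)
    exact congrArg Subtype.val (mul_comm (⟨x, hx⟩ : D) ⟨y, hy⟩)
  have hmax := isMaximal_of_isDefectGroup hM hb hD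
  obtain ⟨y, hy, hyo⟩ : ∃ y ∈ D, orderOf y = p := by
    obtain ⟨n, hn⟩ := hPp.exists_card_eq
    have hn0 : n ≠ 0 := fun h => hD0 (Subgroup.card_eq_one.1 (by rw [hn, h, pow_zero]))
    obtain ⟨y, hy⟩ := exists_prime_orderOf_dvd_card' (G := D) p (hn ▸ dvd_pow_self p hn0)
    exact ⟨y, y.2, (Subgroup.orderOf_coe y).trans hy⟩
  have hy1 : y ≠ 1 := fun h => (Fact.out : p.Prime).ne_one (by rw [← hyo, h, orderOf_one])
  have hZD : Subgroup.zpowers y ≤ D := Subgroup.zpowers_le.2 hy
  have hPC : D ≤ Subgroup.centralizer (D : Set G) := fun x hx =>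
    Subgroup.mem_centralizer_iff.2 fun y hy => hab y hy x hx
  have hn : ((Subgroup.centralizer (D : Set G)).subgroupOf (pairStab D b)).Normal := by
    refine ⟨fun x hx g => ?_⟩
    rw [Subgroup.mem_subgroupOf, Subgroup.mem_centralizer_iff] at hx ⊢
    intro v hv
    have hg := (pairStab_le_normalizer D b) g.2
    have hv' : (g : G)⁻¹ * v * g ∈ D := by
      simpa using (Subgroup.mem_normalizer_iff.1 (inv_mem hg) v).1 hv
    have h := hx _ hv'
    show v * ((g : G) * x * (g : G)⁻¹) = (g : G) * x * (g : G)⁻¹ * v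
    calc v * ((g : G) * x * (g : G)⁻¹) = g * ((g : G)⁻¹ * v * g * x) * (g : G)⁻¹ := by group
      _ = g * ((x : G) * ((g : G)⁻¹ * v * g)) * (g : G)⁻¹ := by rw [h]
      _ = _ := by group
  obtain ⟨-, hdvd, hfree⟩ := Cfsg.Agent.S4633.result p M hM B hB D hD hD0 hcyc b
    ((inducedFromCent_iff hM hb.1.1 hPC hb.1.2 B).2 hb) (pairStab D b) (fun g => Iff.rfl) (hn := hn)
  obtain ⟨c, hcb, hle⟩ := exists_below hM (Nat.card D) (Nat.sub_le _ _) hb.1 hZD
  have hpair : IsBrauerPairOf p M B (Subgroup.zpowers y) c :=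
    (subpairLE_pairOf_iff hM hle B).1 hb
  have hnil := (free_iff_local_nilpotent hM hmax hab).1 hfree (Subgroup.zpowers y) hZD
    (Subgroup.zpowers_ne_bot.2 hy1) c (inducedIn_of_subpair hM hmax hab hle)
  have hF := isBlockFusionSystemOn_blockFusion hM hmax
  refine ⟨y, c, hy, hyo, hpair, isDefectGroup_below hM hmax hab hle,
    (Cfsg.Agent.S4689.result p M hM c hnil).1, ?_, fun h => ?_, ?_⟩
  · rw [Subgroup.relIndex, Subgroup.relIndex, Subgroup.index_eq_card, Subgroup.index_eq_card]
    have hTN : pairStab D b ≤ Subgroup.normalizer (Subgroup.zpowers y : Set G) := by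
      intro g hg
      have key : ∀ g ∈ pairStab D b, ∀ u ∈ Subgroup.zpowers y, g * u * g⁻¹ ∈ Subgroup.zpowers y := by
        rintro g hg u ⟨i, rfl⟩
        have hgN := Subgroup.mem_normalizer_iff.1 (pairStab_le_normalizer D b hg)
        let σ : D →* D :=
          { toFun := fun u => ⟨g * u * g⁻¹, (hgN u).1 u.2⟩
            map_one' := Subtype.ext (by simp)
            map_mul' := fun u v => Subtype.ext (by simp [mul_assoc]) }
        obtain ⟨r, hr⟩ := MonoidHom.map_cyclic σ
        have : g * y * g⁻¹ = y ^ r := congrArg Subtype.val (hr ⟨y, hy⟩)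
        show g * y ^ i * g⁻¹ ∈ _
        rw [← conj_zpow, this, ← zpow_mul]
        exact Subgroup.zpow_mem_zpowers y _
      refine Subgroup.mem_normalizer_iff.2 fun u => ⟨key g hg u, fun h => ?_⟩
      simpa [mul_assoc] using key g⁻¹ (inv_mem hg) _ h
    have hTT : pairStab D b ≤ pairStab (Subgroup.zpowers y) c := fun g hg =>
      inf_normalizer_le_pairStab hF hM hle ⟨hg, hTN hg⟩
    let f : pairStab D b ⧸ (Subgroup.centralizer (D : Set G)).subgroupOf (pairStab D b) →
        pairStab (Subgroup.zpowers y) c ⧸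
          (Subgroup.centralizer (Subgroup.zpowers y : Set G)).subgroupOf (pairStab (Subgroup.zpowers y) c) :=
      fun w => ((⟨(w.out : pairStab D b), hTT (w.out : pairStab D b).2⟩ :
        pairStab (Subgroup.zpowers y) c) : _ ⧸ _)
    refine (Nat.card_congr (Equiv.ofBijective f ⟨fun w w' hw => ?_, fun r => ?_⟩)).symm
    · simp only [f, QuotientGroup.eq, Subgroup.mem_subgroupOf] at hw
      rw [← QuotientGroup.out_eq' w, ← QuotientGroup.out_eq' w', QuotientGroup.eq,
        Subgroup.mem_subgroupOf]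
      refine hfree _ ((pairStab D b).mul_mem ((pairStab D b).inv_mem (w.out : pairStab D b).2)
        (w'.out : pairStab D b).2) y hy hy1 ?_
      exact mul_inv_eq_iff_eq_mul.2
        (Subgroup.mem_centralizer_iff.1 hw y (Subgroup.mem_zpowers y)).symm
    · induction r using QuotientGroup.induction_on with
      | _ r =>
        obtain ⟨t, ht, v, hv, hr⟩ := exists_factor_of_abelian hF hM hab hle r.2
        refine ⟨((⟨t, ht.1⟩ : pairStab D b) : _ ⧸ _), ?_⟩
        obtain ⟨u, hu⟩ := QuotientGroup.mk_out_eq_mul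
          ((Subgroup.centralizer (D : Set G)).subgroupOf (pairStab D b)) (⟨t, ht.1⟩ : pairStab D b)
        simp only [f, QuotientGroup.eq, Subgroup.mem_subgroupOf]
        rw [hu]
        show (t * ((u : pairStab D b) : G))⁻¹ * (r : G) ∈ _
        rw [hr, mul_inv_rev, mul_assoc, inv_mul_cancel_left]
        exact Subgroup.mul_mem _ (Subgroup.inv_mem _ (Subgroup.centralizer_le
          (SetLike.coe_subset_coe.2 hZD) (Subgroup.mem_subgroupOf.1 u.2))) hv
  · have h1 := Nat.le_of_dvd (Nat.sub_pos_of_lt (Fact.out : p.Prime).one_lt) (h.trans hdvd)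
    have := (Fact.out : p.Prime).two_le
    omega
  · intro q hq d hd hqd
    by_contra hd1
    -- a nontrivial element of order `p` in `zpowers d`
    obtain ⟨k, hk⟩ := IsPGroup.iff_orderOf.1 hPp ⟨d, hd⟩
    rw [Subgroup.orderOf_mk] at hk
    have hk0 : k ≠ 0 := fun h0 => hd1 (orderOf_eq_one_iff.1 (by rw [hk, h0, pow_zero]))
    set u := d ^ p ^ (k - 1) with hu
    have huo : orderOf u = p := by
      rw [hu, orderOf_pow' d (pow_ne_zero _ (Fact.out : p.Prime).ne_zero), hk,
        Nat.gcd_eq_right (pow_dvd_pow p (Nat.sub_le _ _)), Nat.pow_div (Nat.sub_le _ _) (Fact.out : p.Prime).pos,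
        show k - (k - 1) = 1 by omega, pow_one]
    -- the subgroup of order `p` is unique
    have huniq : ∀ v ∈ D, orderOf v = p → Subgroup.zpowers v = Subgroup.zpowers y := by
      intro v hv hvo
      have hmem : v ∈ Subgroup.zpowers y := by
        have hle : (Finset.univ.filter fun w : D => (w : G) ∈ Subgroup.zpowers y) ⊆
            Finset.univ.filter fun w : D => w ^ p = 1 := fun w hw => by
          rw [Finset.mem_filter] at hw ⊢
          refine ⟨hw.1, Subtype.ext ?_⟩
          obtain ⟨i, hi⟩ := Subgroup.mem_zpowers_iff.1 hw.2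
          rw [SubgroupClass.coe_pow, ← hi, ← zpow_natCast, ← zpow_mul, mul_comm, zpow_mul,
            zpow_natCast, ← hyo, pow_orderOf_eq_one, one_zpow, Subgroup.coe_one]
        have hcard : (Finset.univ.filter fun w : D => (w : G) ∈ Subgroup.zpowers y).card = p := by
          rw [← Fintype.card_subtype, ← Nat.card_eq_fintype_card, ← hyo, ← Nat.card_zpowers y]
          exact Nat.card_congr (Subgroup.subgroupOfEquivOfLe hZD).toEquiv
        have heq := Finset.eq_of_subset_of_card_le hle
          ((IsCyclic.card_pow_eq_one_le (α := D) (Fact.out : p.Prime).pos).trans hcard.ge)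
        have hv' : (⟨v, hv⟩ : D) ∈ Finset.univ.filter fun w : D => w ^ p = 1 :=
          Finset.mem_filter.2 ⟨Finset.mem_univ _, Subtype.ext (by
            rw [SubgroupClass.coe_pow, ← hvo, pow_orderOf_eq_one, Subgroup.coe_one])⟩
        rw [← heq, Finset.mem_filter] at hv'
        exact hv'.2
      exact Subgroup.eq_of_le_of_card_ge (Subgroup.zpowers_le.2 hmem)
        (by rw [Nat.card_zpowers, Nat.card_zpowers, hyo, hvo])
    have hu' : q⁻¹ * u * q ∈ D := by
      rw [hu, show q⁻¹ * d ^ p ^ (k - 1) * q = (q⁻¹ * d * q) ^ p ^ (k - 1) by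
        simpa using (conj_pow (a := q⁻¹) (b := d) (i := p ^ (k - 1))).symm]
      exact D.pow_mem hqd _
    have huo' : orderOf (q⁻¹ * u * q) = p := by
      rw [← huo]
      simpa using MulEquiv.orderOf_eq (MulAut.conj q⁻¹) u
    refine hq (inv_mem_iff.1 (Subgroup.mem_normalizer_iff_map_conj_eq.2 ?_))
    conv_lhs => rw [← huniq u (D.pow_mem hd _) huo]
    rw [MonoidHom.map_zpowers, ← huniq _ hu' huo']
    congr 1
    simp

/-- The count at the subgroup of order `p`. -/
theorem blockRank_eq_relIndex_aux (hB : IsPBlock M B) (hD : IsDefectGroup p M B D) (hcyc : IsCyclic D)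
    (hD0 : D ≠ ⊥) {y : G} (hy : y ∈ D) (hyo : orderOf y = p) (Z H T N : Subgroup G)
    (hZ : Z = Subgroup.zpowers y) (hH : H = Subgroup.centralizer (Z : Set G))
    (hN : N = Subgroup.normalizer (Z : Set G)) (hHT : H ≤ T) (hTN : T ≤ N)
    {c : Set (IrrCharacter H)} (hcb : IsPBlock M c)
    (hTst : ∀ q ∈ N, q ∈ T ↔ StabilizesBlock H c q)
    (hval : ∀ ξ ∈ c, omegaBar ξ (resElt H (blockIdemBar M B)) = 1)
    (hcdef : IsDefectGroup p M c (D.subgroupOf H)) (hc1 : blockRank p c = 1)
    (hep : ¬ p ∣ H.relIndex T) (hfree : ∀ q : G, q ∉ N → ∀ d ∈ D, q⁻¹ * d * q ∈ D → d = 1) :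
    blockRank p B = H.relIndex T := by
  classical
  set e := H.relIndex T with he
  have := Star.isAlgClosed_res (M := M)
  have : CharP (Res M) p := charP_residueField hM
  have hab : ∀ x ∈ D, ∀ y ∈ D, x * y = y * x := by
    intro x hx y hy
    let := IsCyclic.commGroup (α := D)
    exact congrArg Subtype.val (mul_comm (⟨x, hx⟩ : D) ⟨y, hy⟩)
  have hZD : Z ≤ D := hZ ▸ Subgroup.zpowers_le.2 hy
  have hDH : D ≤ H := fun x hx => by
    rw [hH]
    exact Subgroup.mem_centralizer_iff.2 fun w hw => hab w (hZD hw) x hx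
  have hy1 : y ≠ 1 := fun h => (Fact.out : p.Prime).ne_one (by rw [← hyo, h, orderOf_one])
  have hTH : ∀ t ∈ T, ∀ h ∈ H, t * h * t⁻¹ ∈ H := fun t ht h hh => by
    subst hH hN
    exact (conj_centralizer_iff (hTN ht) h).1 hh
  have hZcent : ∀ w ∈ Z, ∀ h ∈ H, w * h = h * w := fun w hw h hh => by
    rw [hH] at hh
    exact Subgroup.mem_centralizer_iff.1 hh w hw
  have hyZ : y ∈ Z := hZ ▸ Subgroup.mem_zpowers y
  -- the corner
  obtain ⟨Dc⟩ := CfsgLib.IBr.nonempty_data (G := H) (M := M)
  have huni := Dc.card_block_eq hM hcb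
  rw [hc1, Nat.card_eq_one_iff_unique] at huni
  obtain ⟨hsub, ⟨⟨δ, hδ⟩⟩⟩ := huni
  have huniq : ∀ δ', Dc.block hM δ' = c → δ' = δ := fun δ' h =>
    congrArg Subtype.val (@Subsingleton.elim _ hsub ⟨δ', h⟩ ⟨δ, hδ⟩)
  have hD'c : IsCyclic (D.subgroupOf H) :=
    isCyclic_of_injective (Subgroup.subgroupOfEquivOfLe hDH).toMonoidHom
      (Subgroup.subgroupOfEquivOfLe hDH).injective
  have hD'0 : D.subgroupOf H ≠ ⊥ := fun h => hy1 (by
    have h2 : (⟨y, hDH hy⟩ : H) ∈ D.subgroupOf H := Subgroup.mem_subgroupOf.2 hy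
    rw [h, Subgroup.mem_bot] at h2
    exact congrArg Subtype.val h2)
  obtain ⟨f₀, x₀, n, hn, hf₀, hfx₀, hxf₀, hxn₀, hx0₀, hef₀, hψf₀, hspan₀, m, u₀, v₀, hdec₀⟩ :=
    exists_corner hM Dc hcb hcdef hD'c hD'0 hδ huniq
  obtain ⟨ar, har, hear⟩ := Cyclic1.exists_relTrace hM hcb hcdef
  set ι := inclElt (R := Res M) H with hι
  have hιS : ∀ (r : Res M) z, ι (r • z) = r • ι z := fun r z => inclElt_smul H r z
  set ec := subIdem M H c with hec
  have hecι : ec = ι (blockIdemBar M c) := rfl
  have hecH : ec ∈ suppIn (Res M) (H : Set G) := inclElt_mem H _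
  have hecT : ∀ z ∈ suppIn (Res M) (T : Set G), ec * z = z * ec := by
    intro z hz
    refine induction_suppIn (P := fun z => ec * z = z * ec) (by simp)
      (fun a b ha hb => by rw [mul_add, add_mul, ha, hb]) (fun t ht r => ?_) hz
    have hinv := invUnder_subIdem (P := T) hcb fun u hu => (hTst u (hTN hu)).1 hu
    have h := (single_comm_iff t ec).2 fun x => hinv t ht x
    rw [show single t r = r • single t (1 : Res M) by rw [smul_single', mul_one], mul_smul_comm,
      smul_mul_assoc, h]
  set f := ι f₀ with hf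
  set x := ι x₀ with hx
  have hfH : f ∈ suppIn (Res M) (H : Set G) := inclElt_mem H _
  have hxH : x ∈ suppIn (Res M) (H : Set G) := inclElt_mem H _
  have hU : IsUni f x n :=
    { hff := by rw [hf, ← map_mul, hf₀]
      hfx := by rw [hf, hx, ← map_mul, hfx₀]
      hxf := by rw [hf, hx, ← map_mul, hxf₀]
      hxn := by rw [hx, ← map_pow, hxn₀, map_zero]
      hn := hn
      hx0 := by
        rw [hx, ← map_pow]
        exact fun h => hx0₀ (inclElt_injective H (h.trans (map_zero _).symm)) }
  have hspan : ∀ z ∈ suppIn (Res M) (H : Set G), f * z * f ∈ powSpan (Res M) f x n := by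
    intro z hz
    obtain ⟨z₀, rfl⟩ := exists_incl_eq hz
    rw [hf, ← map_mul, ← map_mul]
    have h := hspan₀ z₀
    generalize f₀ * z₀ * f₀ = w at h ⊢
    induction h using Submodule.span_induction with
    | mem w hw =>
      obtain ⟨i, rfl⟩ := hw
      show ι (x₀ ^ (i : ℕ) * f₀) ∈ _
      rw [map_mul, map_pow]
      exact hU.pow_mem _
    | zero => rw [map_zero]; exact Submodule.zero_mem _
    | add a b _ _ ha hb => rw [map_add]; exact add_mem ha hb
    | smul r a _ ha => rw [hιS]; exact Submodule.smul_mem _ _ ha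
  have hSH : ∀ {u}, u ∈ powSpan (Res M) f x n → u ∈ suppIn (Res M) (H : Set G) := fun {u} hu =>
    (Submodule.span_le.2 (by
      rintro _ ⟨i, rfl⟩
      exact mul_mem_subgroup (pow_mem_subgroup hxH _) hfH) : powSpan (Res M) f x n ≤ _) hu
  have hψf : Dc.ψ f₀ δ = Matrix.single 0 0 1 := by rw [hψf₀, Pi.single_eq_same]
  -- the generator of `T / H`
  have hHn : (H.subgroupOf T).Normal := ⟨fun h hh g => by
    rw [Subgroup.mem_subgroupOf] at hh ⊢
    exact hTH _ g.2 _ hh⟩
  obtain ⟨τ, hτT, hτgen, hτord⟩ : ∃ τ ∈ T, (∀ t ∈ T, ∃ l < e, t * (τ ^ l)⁻¹ ∈ H) ∧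
      ∀ l : ℕ, τ ^ l ∈ H → e ∣ l := by
    have hTN' : T ≤ Subgroup.normalizer (Z : Set G) := hN ▸ hTN
    have : IsCyclic Z := hZ ▸ Subgroup.isCyclic_zpowers y
    let Θ : T →* MulAut Z := Z.normalizerMonoidHom.comp (Subgroup.inclusion hTN')
    have hker : Θ.ker = H.subgroupOf T := by
      rw [← MonoidHom.comap_ker, Subgroup.normalizerMonoidHom_ker]
      ext g
      simp [Subgroup.mem_subgroupOf, hH]
    have hcyc' : IsCyclic (MulAut Z) := by
      have e := IsCyclic.mulAutMulEquiv Z
      have hc : Nat.card Z = p := by rw [hZ, Nat.card_zpowers, hyo]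
      rw [hc] at e
      exact isCyclic_of_injective e.toMonoidHom e.injective
    let E : T ⧸ H.subgroupOf T ≃* Θ.range :=
      (QuotientGroup.quotientMulEquivOfEq hker.symm).trans (QuotientGroup.quotientKerEquivRange Θ)
    have hQ : IsCyclic (T ⧸ H.subgroupOf T) := isCyclic_of_injective E.toMonoidHom E.injective
    obtain ⟨w, hw⟩ := IsCyclic.exists_generator (α := T ⧸ H.subgroupOf T)
    obtain ⟨τ, rfl⟩ := QuotientGroup.mk_surjective w
    have hord : orderOf (τ : T ⧸ H.subgroupOf T) = e := by
      rw [orderOf_eq_card_of_forall_mem_zpowers hw, he, Subgroup.relIndex, Subgroup.index_eq_card]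
    refine ⟨τ, τ.2, fun t ht => ?_, fun l hl => ?_⟩
    · obtain ⟨i, hi⟩ := (mem_powers_iff_mem_zpowers).2 (hw ((⟨t, ht⟩ : T) : T ⧸ H.subgroupOf T))
      have hi' : (τ : T ⧸ H.subgroupOf T) ^ i = ((⟨t, ht⟩ : T) : T ⧸ H.subgroupOf T) := hi
      refine ⟨i % e, Nat.mod_lt _ (hord ▸ orderOf_pos _), ?_⟩
      rw [← pow_mod_orderOf, hord, ← QuotientGroup.mk_pow, QuotientGroup.eq,
        Subgroup.mem_subgroupOf] at hi'
      simp only [Subgroup.coe_mul, Subgroup.coe_inv, SubgroupClass.coe_pow] at hi'
      have h2 := hTH _ (T.pow_mem τ.2 (i % e)) _ hi'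
      rwa [mul_inv_cancel_left] at h2
    · rw [← hord, orderOf_dvd_iff_pow_eq_one, ← QuotientGroup.mk_pow, QuotientGroup.eq_one_iff,
        Subgroup.mem_subgroupOf]
      simpa using hl
  have he1 : 1 ≤ e := Nat.one_le_iff_ne_zero.2 fun h0 => hep (by rw [h0]; exact dvd_zero p)
  let C : ℕ → Set G := fun l => {q | q * (τ ^ l)⁻¹ ∈ H}
  have hC0 : C 0 = (H : Set G) := by ext q; simp [C]
  have hτe : τ ^ e ∈ H := by
    obtain ⟨l, hl, hm⟩ := hτgen _ (T.pow_mem hτT e)
    have hl0 : l = 0 := by
      have h' : τ ^ (e - l) ∈ H := by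
        rwa [show τ ^ e = τ ^ (e - l) * τ ^ l by rw [← pow_add, Nat.sub_add_cancel hl.le],
          mul_inv_cancel_right] at hm
      rcases Nat.eq_zero_or_pos l with h0 | h0
      · exact h0
      · exact absurd (Nat.le_of_dvd (by omega) (hτord _ h')) (by omega)
    simpa [hl0] using hm
  have hCe : C e = (H : Set G) := by
    ext q
    exact H.mul_mem_cancel_right (H.inv_mem hτe)
  have hCmul : ∀ {l l' : ℕ} {a b : MonoidAlgebra (Res M) G}, a ∈ suppIn (Res M) (C l) →
      b ∈ suppIn (Res M) (C l') → a * b ∈ suppIn (Res M) (C (l + l')) := fun {l l' a b} ha hb =>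
    mul_mem_suppIn (fun q hq q' hq' => by
      show q * q' * (τ ^ (l + l'))⁻¹ ∈ H
      rw [show q * q' * (τ ^ (l + l'))⁻¹ =
        q * (τ ^ l)⁻¹ * (τ ^ l * (q' * (τ ^ l')⁻¹) * (τ ^ l)⁻¹) by rw [pow_add]; group]
      exact H.mul_mem hq (hTH _ (T.pow_mem hτT l) _ hq')) ha hb
  have hHC : ∀ {a : MonoidAlgebra (Res M) G}, a ∈ suppIn (Res M) (H : Set G) →
      a ∈ suppIn (Res M) (C 0) := fun {a} ha => hC0.symm ▸ ha
  have hCT : ∀ l, C l ⊆ (T : Set G) := fun l q hq => by
    have h := T.mul_mem (hHT hq) (T.pow_mem hτT l)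
    rwa [inv_mul_cancel_right] at h
  -- the twisting element
  set f' := single τ (1 : Res M) * f * single τ⁻¹ 1 with hf'
  have hf'H : f' ∈ suppIn (Res M) (H : Set G) := by
    intro q hq
    rw [hf', MinimalDim.coeff_translate, inv_inv]
    refine hfH _ fun h => hq ?_
    simpa [mul_assoc] using hTH τ hτT _ h
  obtain ⟨F', hF'⟩ := exists_incl_eq hf'H
  have hf'idem : f' * f' = f' := by
    rw [hf', show single τ (1 : Res M) * f * single τ⁻¹ 1 * (single τ 1 * f * single τ⁻¹ 1) =
      single τ 1 * f * (single τ⁻¹ 1 * single τ 1) * f * single τ⁻¹ 1 by simp only [mul_assoc],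
      single_mul_single, inv_mul_cancel, one_mul, ← one_def, mul_one, mul_assoc (single τ 1) f f, hU.hff]
  have hef' : ec * f' = f' := by
    rw [hf', ← mul_assoc, ← mul_assoc, hecT _ (single_mem_suppIn hτT 1), mul_assoc (single τ 1) ec f]
    congr 2
    rw [hecι, hf, ← map_mul, hef₀]
  have hF'i : F' * F' = F' := inclElt_injective H (by rw [map_mul, hF', hf'idem])
  have hF'e : blockIdemBar M c * F' = F' := inclElt_injective H (by rw [map_mul, hF']; exact hef')
  obtain ⟨i, l, hil⟩ : ∃ i l, Dc.ψ F' δ i l ≠ 0 := by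
    by_contra hcon
    push Not at hcon
    have hψ0 : Dc.ψ F' = 0 := by
      funext δ'
      by_cases h : δ' = δ
      · subst h; ext i l; exact hcon i l
      · rw [← hF'e, map_mul, Pi.mul_apply,
          Dc.psi_blockIdemBar_of_ne hM hcb (fun h' => h (huniq δ' h')), zero_mul]; rfl
    obtain ⟨N', hN'⟩ := Dc.nil F' hψ0
    have h0 : F' = 0 := IsIdempotentElem.eq_zero_of_isNilpotent hF'i ⟨N', hN'⟩
    have : f' = 0 := by rw [← hF', h0, map_zero]
    have h1 : f = 0 := by
      have h2 : single τ⁻¹ (1 : Res M) * f' * single τ 1 = f := by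
        rw [hf', ← mul_assoc, ← mul_assoc, single_mul_single, inv_mul_cancel, one_mul, mul_assoc,
          single_mul_single, inv_mul_cancel, one_mul, ← one_def, one_mul, mul_one]
      rw [← h2, this, mul_zero, zero_mul]
    exact hU.hx0 (by rw [← hU.pow_f (i := n - 1) (by omega), h1, mul_zero])
  obtain ⟨α, hα⟩ := Dc.surj (Pi.single δ (Matrix.single 0 i 1))
  obtain ⟨β, hβ⟩ := Dc.surj (Pi.single δ (Matrix.single l 0 1))
  set g := f * ι α * single τ 1 * f with hg
  set h' := f * single τ⁻¹ 1 * ι β * f with hh'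
  have hprod : g * h' = ι (f₀ * α * F' * β * f₀) := by
    rw [hg, hh', map_mul, map_mul, map_mul, map_mul, hF', hf']
    simp only [← mul_assoc]
    rw [mul_assoc (f * ι α * single τ 1) f f, hU.hff]
  have hnotnil : ¬ IsNilpotent (g * h') := by
    rintro ⟨N', hN'⟩
    rw [hprod, ← map_pow] at hN'
    have h0 := inclElt_injective H (hN'.trans (map_zero _).symm)
    have h1 := congrArg (fun z => Dc.ψ z δ) h0
    simp only [map_pow, Pi.pow_apply, map_mul, Pi.mul_apply, hψf, hα, hβ, Pi.single_eq_same,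
      map_zero, Pi.zero_apply] at h1
    rw [Matrix.single_mul_single_same, Matrix.single_mul_mul_single, Matrix.single_mul_single_same] at h1
    simp only [one_mul, mul_one] at h1
    have h2 : ∀ j : ℕ, (Matrix.single (0 : Fin (Dc.d δ)) (0 : Fin (Dc.d δ)) (Dc.ψ F' δ i l)) ^ (j + 1) =
        Matrix.single 0 0 ((Dc.ψ F' δ i l) ^ (j + 1)) := fun j => by
      induction j with
      | zero => simp
      | succ j ih => rw [pow_succ, ih, Matrix.single_mul_single_same, ← pow_succ]
    have h3 : (Matrix.single (0 : Fin (Dc.d δ)) (0 : Fin (Dc.d δ)) (Dc.ψ F' δ i l)) ^ (N' + 1) = 0 := by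
      rw [pow_succ, h1, zero_mul]
    rw [h2] at h3
    have h4 := congrFun (congrFun h3 0) 0
    rw [Matrix.single_apply_same] at h4
    exact hil (eq_zero_of_pow_eq_zero h4)
  have hgC : g ∈ suppIn (Res M) (C 1) := by
    have h := hCmul (hCmul (hHC (mul_mem_subgroup hfH (inclElt_mem H α)))
      (single_mem_suppIn (S := C 1) (g := τ) (by simp [C]) (1 : Res M))) (hHC hfH)
    simpa using h
  obtain ⟨vinv, hvinvS, hgv, -⟩ : ∃ v ∈ powSpan (Res M) f x n, g * h' * v = f ∧ v * (g * h') = f := by
    refine (hU.unit_or_nilpotent ?_).resolve_left hnotnil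
    rw [hprod, show ι (f₀ * α * F' * β * f₀) = f * ι (α * F' * β) * f by
      simp only [hf, map_mul, mul_assoc]]
    exact hspan _ (inclElt_mem H _)
  set g' := h' * vinv with hg'
  have hfg : f * g = g := by rw [hg, ← mul_assoc, ← mul_assoc, ← mul_assoc, hU.hff]
  have hgf : g * f = g := by rw [hg, mul_assoc _ f f, hU.hff]
  have hfg' : f * g' = g' := by
    rw [hg', hh', ← mul_assoc, ← mul_assoc, ← mul_assoc, ← mul_assoc, hU.hff]
  have hg'f : g' * f = g' := by rw [hg', mul_assoc, hU.mul_f hvinvS]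
  have hgg' : g * g' = f := by rw [hg', ← mul_assoc, hgv]
  have hg'C : ∀ q, q ∈ suppIn (Res M) (H : Set G) →
      single τ⁻¹ (1 : Res M) * q * single τ 1 ∈ suppIn (Res M) (H : Set G) := by
    intro q hq z hz
    rw [MinimalDim.coeff_translate, inv_inv]
    refine hq _ fun h => hz ?_
    simpa [mul_assoc] using hTH τ⁻¹ (T.inv_mem hτT) _ h
  have hg'H : ∀ q ∈ suppIn (Res M) (H : Set G), g' * q * single τ 1 ∈ suppIn (Res M) (H : Set G) := by
    intro q hq
    rw [hg', hh', show f * single τ⁻¹ 1 * ι β * f * vinv * q * single τ 1 =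
      f * (single τ⁻¹ 1 * (ι β * f * vinv * q) * single τ 1) by simp only [mul_assoc]]
    exact mul_mem_subgroup hfH (hg'C _ (mul_mem_subgroup (mul_mem_subgroup (mul_mem_subgroup
      (inclElt_mem H β) hfH) (hSH hvinvS)) hq))
  have hg'g : g' * g = f := by
    have hS : g' * g ∈ powSpan (Res M) f x n := by
      have hmem : g' * g ∈ suppIn (Res M) (H : Set G) := by
        rw [show g' * g = g' * (f * ι α) * single τ 1 * f by rw [hg]; simp only [mul_assoc]]
        exact mul_mem_subgroup (hg'H _ (mul_mem_subgroup hfH (inclElt_mem H α))) hfH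
      have h := hspan _ hmem
      rwa [← mul_assoc f g' g, hfg', mul_assoc, hgf] at h
    have hid : g' * g * (g' * g) = g' * g := by
      rw [mul_assoc, ← mul_assoc g g' g, hgg', hfg]
    rcases hU.unit_or_nilpotent hS with hnil | ⟨v, hv, huv, -⟩
    · have h0 := IsIdempotentElem.eq_zero_of_isNilpotent hid hnil
      exfalso
      have : f = 0 := by
        calc f = g * g' * (g * g') := by rw [hgg', hU.hff]
          _ = g * (g' * g) * g' := by simp only [mul_assoc]
          _ = 0 := by rw [h0, mul_zero, zero_mul]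
      exact hU.hx0 (by rw [← hU.pow_f (i := n - 1) (by omega), this, mul_zero])
    · calc g' * g = g' * g * f := by rw [hU.mul_f hS]
        _ = g' * g * (g' * g) * v := by rw [← huv, ← mul_assoc]
        _ = f := by rw [hid, huv]
  have hconj : ∀ u ∈ powSpan (Res M) f x n, g * u * g' ∈ powSpan (Res M) f x n := by
    intro u hu
    have hmem : g * u * g' ∈ suppIn (Res M) (H : Set G) := by
      have h1 : f * u = u := hU.f_mul hu
      rw [show g * u * g' = f * ι α * (single τ 1 * (f * u * f) * single τ⁻¹ 1) * (ι β * f * vinv) by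
        rw [hg, hg', hh']
        simp only [mul_assoc]]
      refine mul_mem_subgroup (mul_mem_subgroup (mul_mem_subgroup hfH (inclElt_mem H α)) ?_)
        (mul_mem_subgroup (mul_mem_subgroup (inclElt_mem H β) hfH) (hSH hvinvS))
      intro q hq
      rw [MinimalDim.coeff_translate, inv_inv]
      refine (mul_mem_subgroup (mul_mem_subgroup hfH (hSH hu)) hfH) _ fun h => hq ?_
      simpa [mul_assoc] using hTH τ hτT _ h
    have h := hspan _ hmem
    rwa [show f * (g * u * g') * f = g * u * g' by
      rw [← mul_assoc f (g * u), ← mul_assoc f g, hfg, mul_assoc (g * u), hg'f]] at h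
  have hgpow : ∀ j, 1 ≤ j → g ^ j ∈ suppIn (Res M) (C j) ∧ f * g ^ j = g ^ j ∧ g ^ j * f = g ^ j ∧
      f * g' ^ j = g' ^ j ∧ g' ^ j * f = g' ^ j := fun j hj => by
    induction j with
    | zero => omega
    | succ j ih =>
      rcases Nat.eq_zero_or_pos j with rfl | hj'
      · simpa using ⟨hgC, hfg, hgf, hfg', hg'f⟩
      obtain ⟨h1, h2, h3, h4, h5⟩ := ih hj'
      refine ⟨?_, ?_, ?_, ?_, ?_⟩
      · rw [pow_succ]; exact hCmul h1 hgC
      · rw [pow_succ, ← mul_assoc, h2]
      · rw [pow_succ, mul_assoc, hgf]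
      · rw [pow_succ, ← mul_assoc, h4]
      · rw [pow_succ, mul_assoc, hg'f]
  have hgg'pow : ∀ j, 1 ≤ j → g ^ j * g' ^ j = f := fun j hj => by
    induction j with
    | zero => omega
    | succ j ih =>
      rcases Nat.eq_zero_or_pos j with rfl | hj'
      · simpa using hgg'
      · rw [pow_succ g, pow_succ' g', show g ^ j * g * (g' * g' ^ j) = g ^ j * (g * g') * g' ^ j by
          simp only [mul_assoc], hgg', (hgpow j hj').2.2.1, ih hj']
  have hge : g ^ e ∈ powSpan (Res M) f x n := by
    have h := hspan _ (hCe ▸ (hgpow e he1).1 : g ^ e ∈ suppIn (Res M) (H : Set G))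
    rwa [(hgpow e he1).2.1, (hgpow e he1).2.2.1] at h
  have hge' : g' ^ e ∈ powSpan (Res M) f x n := by
    rcases hU.unit_or_nilpotent hge with ⟨N', hN'⟩ | ⟨v, hv, -, hvge⟩
    · exfalso
      have h1 := hgg'pow (e * (N' + 1)) (Nat.mul_pos (by omega) (by omega))
      rw [pow_mul, pow_succ, hN', zero_mul, zero_mul] at h1
      exact hU.hx0 (by rw [← hU.pow_f (i := n - 1) (by omega), ← h1, mul_zero])
    · have h1 := congrArg (v * ·) (hgg'pow e he1)
      rw [← mul_assoc, hvge, (hgpow e he1).2.2.2.1, hU.mul_f hv] at h1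
      rwa [h1]
  -- the element `y - 1`
  set z := (single y (1 : Res M) - 1) * f with hzdef
  have hyH : y ∈ H := hDH hy
  have hycomm : ∀ w ∈ Z, ∀ q ∈ suppIn (Res M) (H : Set G), single w 1 * q = q * single w 1 := by
    intro w hw q hq
    refine induction_suppIn (P := fun q => single w 1 * q = q * single w 1) (by simp)
      (fun a b ha hb => by rw [mul_add, add_mul, ha, hb]) (fun h hh r => ?_) hq
    rw [single_mul_single, single_mul_single, mul_comm (1 : Res M), hZcent w hw h hh]
  have hzS : z ∈ powSpan (Res M) f x n := by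
    have h := hspan (single y 1 - 1) (sub_mem (single_mem_suppIn hyH 1) (one_mem_suppIn H))
    rwa [show f * (single y 1 - 1) * f = z by
      rw [hzdef, mul_sub, sub_mul, sub_mul, mul_one, one_mul,
        ← hycomm y hyZ f hfH, mul_assoc, hU.hff]] at h
  have hyp : (single y (1 : Res M)) ^ p = 1 := by
    rw [single_pow, one_pow, ← hyo, pow_orderOf_eq_one, ← one_def]
  have hznil : IsNilpotent z := by
    refine ⟨p, ?_⟩
    have hc : Commute (single y (1 : Res M) - 1) f :=
      (show Commute (single y (1 : Res M)) f from hycomm y hyZ f hfH).sub_left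
        (Commute.one_left f)
    have := charP_of_injective_algebraMap (algebraMap (Res M) (MonoidAlgebra (Res M) G)).injective p
    rw [hzdef, hc.mul_pow, sub_pow_char_of_commute (p := p) (Commute.one_right _), hyp, one_pow,
      sub_self, zero_mul]
  have hz0 : z ≠ 0 := by
    intro h0
    have hyf : single y (1 : Res M) * f = f := by
      rwa [hzdef, sub_mul, one_mul, sub_eq_zero] at h0
    have hinv : ∀ u ∈ Z, single u (1 : Res M) * f = f := by
      intro u hu
      obtain ⟨i, rfl⟩ : ∃ i : ℕ, y ^ i = u := by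
        rw [hZ] at hu
        exact (mem_powers_iff_mem_zpowers).2 hu
      induction i with
      | zero => rw [pow_zero, ← one_def, one_mul]
      | succ i ih =>
        rw [pow_succ', show single (y * y ^ i) (1 : Res M) = single y 1 * single (y ^ i) 1 by
          rw [single_mul_single, mul_one], mul_assoc, ih (hZ ▸ Subgroup.pow_mem _ (Subgroup.mem_zpowers y) i),
          hyf]
    have hcoef : ∀ u ∈ Z, ∀ q : G, f.coeff (u * q) = f.coeff q := by
      intro u hu q
      conv_lhs => rw [← hinv u hu]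
      rw [show single u (1 : Res M) * f = single u 1 * f * single 1 1 by rw [← one_def, mul_one],
        MinimalDim.coeff_translate, inv_one, mul_one, inv_mul_cancel_left]
    have hf0 : f * f = 0 := by
      refine MonoidAlgebra.ext (Finsupp.ext fun q => ?_)
      rw [coeff_mul_eq_sum]
      by_cases hq : q ∈ H
      · let act : MulAction Z G := MulAction.compHom G Z.subtype
        have hsm : ∀ (u : Z) (w : G), u • w = (u : G) * w := fun _ _ => rfl
        have hZp : IsPGroup p Z := IsPGroup.of_card (n := 1) (by rw [hZ, Nat.card_zpowers, hyo, pow_one])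
        rw [sum_eq_sum_fixedPoints hZp (fun w => f.coeff w * f.coeff (w⁻¹ * q)) fun u w => ?_,
          Finset.sum_eq_zero]
        · simp
        · intro w hw
          have h1 := (Finset.mem_filter.1 hw).2 ⟨y, hyZ⟩
          rw [hsm] at h1
          exact absurd (mul_eq_right.1 h1) hy1
        · rw [hsm]
          by_cases hw : w ∈ H
          · rw [hcoef u u.2]
            congr 1
            rw [mul_inv_rev, ← hcoef (u : G)⁻¹ (Z.inv_mem u.2) (w⁻¹ * q), ← mul_assoc ((u : G)⁻¹),
              hZcent _ (Z.inv_mem u.2) _ (H.inv_mem hw), mul_assoc]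
          · have huw : (u : G) * w ∉ H := fun h => hw ((Subgroup.mul_mem_cancel_left H
              (hDH (hZD u.2))).1 h)
            rw [hfH w hw, hfH _ huw, zero_mul, zero_mul]
      · rw [Finset.sum_eq_zero]
        · simp
        · intro w _
          by_cases hw : w ∈ H
          · rw [hfH (w⁻¹ * q) fun h => hq (by simpa using H.mul_mem hw h), mul_zero]
          · rw [hfH w hw, zero_mul]
    rw [hU.hff] at hf0
    exact hU.hx0 (by rw [← hU.pow_f (i := n - 1) (by omega), hf0, mul_zero])
  -- the multiplier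
  obtain ⟨r, hr⟩ : ∃ r : ℕ, τ * y * τ⁻¹ = y ^ r := by
    have h1 : τ * y * τ⁻¹ ∈ Z := by
      have h2 := hTN hτT
      rw [hN] at h2
      exact (Subgroup.mem_normalizer_iff.1 h2 y).1 hyZ
    rw [hZ] at h1
    obtain ⟨r, hr⟩ := (mem_powers_iff_mem_zpowers).2 h1
    exact ⟨r, hr.symm⟩
  have hrord : ∀ j : ℕ, (r : Res M) ^ j = 1 → e ∣ j := by
    intro j hj
    refine hτord j ?_
    have hjy : ∀ j : ℕ, τ ^ j * y * (τ ^ j)⁻¹ = y ^ (r ^ j) := fun j => by
      induction j with
      | zero => simp
      | succ j ih =>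
        calc τ ^ (j + 1) * y * (τ ^ (j + 1))⁻¹ = τ * (τ ^ j * y * (τ ^ j)⁻¹) * τ⁻¹ := by
              rw [pow_succ']; group
          _ = (τ * y * τ⁻¹) ^ (r ^ j) := by rw [ih, conj_pow]
          _ = y ^ (r ^ (j + 1)) := by rw [hr, ← pow_mul, pow_succ']
    have hmod : y ^ (r ^ j) = y := by
      conv_rhs => rw [← pow_one y]
      rw [pow_eq_pow_iff_modEq, hyo, ← CharP.natCast_eq_natCast (Res M) p, Nat.cast_pow, Nat.cast_one, hj]
    rw [hH, hZ, Subgroup.mem_centralizer_iff]
    intro w hw
    have hc : Commute y (τ ^ j) := (mul_inv_eq_iff_eq_mul.1 ((hjy j).trans hmod)).symm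
    obtain ⟨i, rfl⟩ := Subgroup.mem_zpowers_iff.1 hw
    exact (hc.zpow_left i).eq
  have hgy : g * single y 1 = single (y ^ r) 1 * g := by
    rw [hg, mul_assoc _ f (single y 1), ← hycomm y hyZ f hfH, ← mul_assoc, mul_assoc (f * ι α),
      single_mul_single, mul_one, show τ * y = y ^ r * τ by rw [← hr, inv_mul_cancel_right],
      show single (y ^ r * τ) (1 : Res M) = single (y ^ r) 1 * single τ 1 by
        rw [single_mul_single, mul_one], ← mul_assoc (f * ι α),
      ← hycomm _ (Z.pow_mem hyZ r) _ (mul_mem_subgroup hfH (inclElt_mem H α))]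
    simp only [hι, mul_assoc]
  have hσz : ∃ w ∈ powSpan (Res M) f x n, g * z * g' = z * ((r : Res M) • f + x * w) := by
    set Y := single y (1 : Res M) with hY
    have hYH : Y ∈ suppIn (Res M) (H : Set G) := single_mem_suppIn hyH 1
    have hYf : Commute Y f := hycomm y hyZ f hfH
    have e1 : g * z * g' = (single (y ^ r) 1 - 1) * f := by
      rw [hzdef, mul_assoc (g) _ g', mul_assoc (Y - 1), hfg', ← mul_assoc, mul_sub, mul_one, hgy,
        sub_mul, mul_assoc, hgg', sub_mul, one_mul]
    have e2 : single (y ^ r) (1 : Res M) - 1 = (Y - 1) * ∑ i ∈ Finset.range r, Y ^ i := by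
      rw [mul_geom_sum, hY, single_pow, one_pow]
    set S := ∑ i ∈ Finset.range r, Y ^ i
    have hSH' : S ∈ suppIn (Res M) (H : Set G) :=
      Submodule.sum_mem _ fun i _ => pow_mem_subgroup hYH i
    have hSf : f * S * f ∈ powSpan (Res M) f x n := hspan _ hSH'
    have hSc : Commute S f := Commute.sum_left _ _ _ fun i _ => hYf.pow_left i
    obtain ⟨a, w, hw, haw⟩ := hU.exists_split hSf
    have hfz : f * z = z := hU.f_mul hzS
    refine ⟨w, hw, ?_⟩
    have e3 : g * z * g' = z * (f * S * f) := by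
      rw [e1, e2, hzdef, mul_assoc (Y - 1) S f, mul_assoc (Y - 1) f, hSc.symm.eq, mul_assoc S f f, hU.hff]
      congr 1
      rw [← mul_assoc, hSc.symm.eq, mul_assoc, hU.hff]
    rw [e3, haw]
    have ha : a = (r : Res M) := by
      obtain ⟨N', hN'⟩ := hznil
      have hdiff : ∀ i : ℕ, ∃ q, Y ^ i - 1 = (Y - 1) * q := fun i =>
        ⟨∑ j ∈ Finset.range i, Y ^ j, (mul_geom_sum Y i).symm⟩
      choose q hq using hdiff
      have h4 : f * S * f - (r : Res M) • f = z * (f * (∑ i ∈ Finset.range r, q i) * f) := by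
        have h5 : S - (r : Res M) • 1 = (Y - 1) * ∑ i ∈ Finset.range r, q i := by
          rw [Finset.mul_sum, ← Finset.sum_congr rfl fun i _ => hq i, Finset.sum_sub_distrib,
            Finset.sum_const, Finset.card_range, Nat.cast_smul_eq_nsmul]
        calc f * S * f - (r : Res M) • f = f * (S - (r : Res M) • 1) * f := by
              rw [mul_sub, sub_mul, mul_smul_comm, mul_one, smul_mul_assoc, hU.hff]
          _ = _ := by
              rw [h5, hzdef, ← mul_assoc f (Y - 1),
                show f * (Y - 1) = (Y - 1) * f by rw [mul_sub, sub_mul, hYf.eq, mul_one, one_mul]]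
              simp only [mul_assoc]
              rw [← mul_assoc f f, hU.hff]
      obtain ⟨bz, wz, hwz, hzsplit⟩ := hU.exists_split hzS
      have hbz : bz = 0 := by
        have h6 : ∀ j : ℕ, x ^ (n - 1) * z ^ j = bz ^ j • x ^ (n - 1) := fun j => by
          induction j with
          | zero => simp
          | succ j ih =>
            rw [pow_succ z, ← mul_assoc, ih, smul_mul_assoc, hzsplit, hU.top_mul hwz, smul_smul, ← pow_succ]
        have h7 := h6 N'
        rw [hN', mul_zero, eq_comm, smul_eq_zero] at h7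
        exact eq_zero_of_pow_eq_zero (h7.resolve_right hU.hx0)
      have h8 := congrArg (x ^ (n - 1) * ·) h4
      rw [haw, mul_sub, hU.top_mul hw, mul_smul_comm, hU.pow_f (by omega), ← mul_assoc, hzsplit, hU.top_mul hwz,
        hbz, zero_smul, zero_mul, ← sub_smul, smul_eq_zero] at h8
      exact sub_eq_zero.1 (h8.resolve_right hU.hx0)
    rw [ha]
  obtain ⟨x', u, ζ, hU', hspan', hx'S, huS, hgue, hgux, hζ⟩ :=
    hU.exists_twist he1 hep hfg hgf hgg' hg'g hconj hge hge' hzS hz0 hznil hσz hrord
  set g₁ := g * u with hg₁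
  have hg₁C : g₁ ∈ suppIn (Res M) (C 1) := by simpa using hCmul hgC (hHC (hSH huS))
  have hg₁f : g₁ * f = g₁ := by rw [hg₁, mul_assoc, hU.mul_f huS]
  have hfg₁ : f * g₁ = g₁ := by rw [hg₁, ← mul_assoc, hfg]
  have hg₁pow : ∀ j : ℕ, g₁ ^ j ∈ suppIn (Res M) (C j) := fun j => by
    induction j with
    | zero => rw [pow_zero, hC0]; exact one_mem_suppIn H
    | succ j ih => rw [pow_succ]; exact hCmul ih hg₁C
  have hek : (e : Res M) ≠ 0 := fun h0 => hep ((CharP.cast_eq_zero_iff (Res M) p e).1 h0)
  have hxi : ∀ (i : ℕ) (l : ℕ), x' ^ i * f * g₁ ^ l = x' ^ i * g₁ ^ l * f := fun i l => by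
    rw [mul_assoc, mul_assoc, ((show Commute g₁ f from hg₁f.trans hfg₁.symm).pow_left l).eq]
  have hTf : ∀ q ∈ suppIn (Res M) (T : Set G), f * q * f ∈ Submodule.span (Res M)
      (Set.range fun w : Fin n × Fin e => x' ^ (w.1 : ℕ) * g₁ ^ (w.2 : ℕ) * f) := by
    intro q hq
    refine induction_suppIn (P := fun q => f * q * f ∈ Submodule.span (Res M) (Set.range _))
      (by simp) (fun a b ha hb => by rw [mul_add, add_mul]; exact add_mem ha hb) (fun t ht r' => ?_) hq
    obtain ⟨j, hj, htj⟩ := hτgen t ht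
    set w := f * single t r' * f with hw
    have hwC : w ∈ suppIn (Res M) (C j) := by
      have h := hCmul (hCmul (hHC hfH) (single_mem_suppIn (S := C j) htj r')) (hHC hfH)
      simpa using h
    have hfw : f * w = w := by rw [hw, ← mul_assoc, ← mul_assoc, hU.hff]
    have hge₁ : g₁ ^ (e - j) * f = g₁ ^ (e - j) := by
      obtain ⟨i, hi⟩ : ∃ i, e - j = i + 1 := ⟨e - j - 1, by omega⟩
      rw [hi, pow_succ, mul_assoc, hg₁f]
    have hu' : w * g₁ ^ (e - j) ∈ powSpan (Res M) f x' n := by
      have h := hCmul hwC (hg₁pow (e - j))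
      rw [Nat.add_sub_cancel' hj.le, hCe] at h
      have h2 := hspan _ h
      rw [← mul_assoc f w, hfw, mul_assoc, hge₁] at h2
      exact hspan' h2
    have hw2 : w = w * g₁ ^ (e - j) * g₁ ^ j := by
      rw [mul_assoc, ← pow_add, Nat.sub_add_cancel hj.le, hgue, hw, mul_assoc (f * single t r'), hU.hff]
    rw [hw2]
    generalize w * g₁ ^ (e - j) = v at hu' ⊢
    induction hu' using Submodule.span_induction with
    | mem v hv =>
      obtain ⟨i, rfl⟩ := hv
      exact Submodule.subset_span ⟨(i, ⟨j, hj⟩), (hxi _ _).symm⟩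
    | zero => rw [zero_mul]; exact Submodule.zero_mem _
    | add a b _ _ ha hb => rw [add_mul]; exact add_mem ha hb
    | smul c' a _ ha => rw [smul_mul_assoc]; exact Submodule.smul_mem _ _ ha
  let L : Loc (Res M) G :=
    { f := f
      x := x'
      g := g₁
      n := n
      e := e
      ζ := ζ
      hff := hU.hff
      hfx := hU'.hfx
      hxf := hU'.hxf
      hfg := hfg₁
      hgf := hg₁f
      hxn := hU'.hxn
      hn := hn
      hge := hgue
      hgx := hgux
      hζ := hζ
      he := hek
      H := H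
      T := T
      N := N
      D := D
      hDH := hDH
      hHT := hHT
      hTN := hTN
      ec := ec
      a := ι ar
      m := m
      uu := fun j => ι (u₀ j)
      vv := fun j => ι (v₀ j)
      hdec := by
        rw [hecι, ← hdec₀, map_sum]
        simp only [map_mul, hf]
      hfH := hfH
      hxH := hSH hx'S
      hecH := hecH
      huH := fun j => inclElt_mem H _
      hvH := fun j => inclElt_mem H _
      hgT := suppIn_mono (hCT 1) hg₁C
      hecT := hecT
      hecf := by rw [hecι, hf, ← map_mul, hef₀]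
      hx0 := hU'.hx0
      hU := fun q hq => hspan' (hspan q hq)
      hTf := hTf
      hgl := fun j hj0 hje => by
        refine cut_eq_zero (fun q hq hqH => ?_) (hg₁pow j)
        have h1 : τ ^ j ∈ H := by
          have h2 := H.mul_mem (H.inv_mem hq) hqH
          rwa [mul_inv_rev, inv_inv, inv_mul_cancel_right] at h2
        exact absurd (Nat.le_of_dvd hj0 (hτord j h1)) (by omega)
      hidx := he.symm
      haD := fun d hd => by
        have h := (single_comm_iff (⟨d, hDH hd⟩ : H) ar).2
          fun q => har _ (Subgroup.mem_subgroupOf.2 hd) q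
        have h2 := congrArg ι h
        rwa [map_mul, map_mul, inclElt_single] at h2
      hatr := by
        have := Fintype.ofFinite (H ⧸ D.subgroupOf H)
        rw [finsum_eq_sum_of_fintype, hecι]
        have h : ∑ q : H ⧸ D.subgroupOf H, single q.out (1 : Res M) * ar * single q.out⁻¹ 1 =
            blockIdemBar M c := MonoidAlgebra.ext (Finsupp.ext fun w => by
          rw [MonoidAlgebra.coeff_sum, Finsupp.coe_finsetSum, Finset.sum_apply, ← hear w,
            finsum_eq_sum_of_fintype]
          exact Finset.sum_congr rfl fun q _ => by rw [MinimalDim.coeff_translate, inv_inv])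
        rw [← h, map_sum]
        refine Finset.sum_congr rfl fun q _ => ?_
        rw [map_mul, map_mul, inclElt_single, inclElt_single, Subgroup.coe_inv]
      horth := fun q hqN hqT => by
        have hqH : q⁻¹ ∈ Subgroup.normalizer (H : Set G) := by
          have h1 := hqN
          rw [hN] at h1
          rw [hH]
          exact inv_mem (normalizer_le_normalizer_centralizer Z h1)
        have hne : conjSelf hqH c ≠ c := fun h => hqT (by
          have h1 : q⁻¹ ∈ T := (hTst _ (N.inv_mem hqN)).2 (stabilizesBlock_iff.2 ⟨hqH, h⟩)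
          simpa using T.inv_mem h1)
        have horth := subIdem_mul_of_ne (M := M) (isPBlock_conjSelf hqH hcb) hcb hne
        rw [subIdem_conjSelf hqH hcb] at horth
        have hconj : conjAlg q⁻¹ (subIdem M H c) = single q⁻¹ 1 * ec * single q 1 :=
          MonoidAlgebra.ext (Finsupp.ext fun w => by
            rw [coeff_conjAlg, MinimalDim.coeff_translate, inv_inv])
        rw [hconj, ← hec] at horth
        calc ec * single q 1 * ec = single q 1 * (single q⁻¹ 1 * ec * single q 1 * ec) := by
              simp only [← mul_assoc]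
              rw [single_mul_single, mul_inv_cancel, one_mul, ← one_def, one_mul]
          _ = 0 := by rw [horth, mul_zero]
      hfree := hfree }
  obtain ⟨Dt⟩ := CfsgLib.IBr.nonempty_data (G := G) (M := M)
  set eB := blockIdemBar M B with heB
  have hBc : ∀ a, eB * a = a * eB := fun a => ((isCentralElt_blockIdemBar hB).commute a).eq
  -- the local scalar of the block idempotent
  have hres : IsNilpotent (L.f * cut (Res M) (L.H : Set G) eB * L.f - L.f) := by
    show IsNilpotent (f * cut (Res M) (H : Set G) eB * f - f)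
    have hra : IsCentralElt (resElt H eB) := isCentralElt_resElt H (isCentralElt_blockIdemBar hB)
    have hecc := isCentralElt_blockIdemBar (M := M) hcb
    obtain ⟨N', hN'⟩ := isNilpotent_of_omegaBar_eq_zero
      ((hra.mul hecc).sub hecc) fun χ => by
        rw [omegaBar_sub, omegaBar_mul χ hra hecc, omegaBar_blockIdemBar hcb]
        split_ifs with hχ
        · rw [hval χ hχ, one_mul, sub_self]
        · rw [mul_zero, sub_self]
    set b := resElt H eB * blockIdemBar M c - blockIdemBar M c with hb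
    have hbf : Commute b f₀ := ((hra.mul hecc).sub hecc).commute f₀
    have h1 : f₀ * resElt H eB * f₀ - f₀ = b * f₀ := by
      rw [hb, sub_mul, mul_assoc (resElt H eB) (blockIdemBar M c) f₀, hef₀, ← (hra.commute f₀).eq, mul_assoc _ f₀ f₀, hf₀]
    refine ⟨N', ?_⟩
    rw [← inclElt_resElt H eB, hf, ← map_mul, ← map_mul, ← map_sub, h1, ← map_pow, hbf.mul_pow, hN',
      zero_mul, map_zero]
  obtain ⟨χ, hχ⟩ := IsPBlock.nonempty hB
  have hzc : IsCentralElt L.zc := fun q w => (single_comm_iff w L.zc).1 (L.zc_central _).symm q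
  set ω := omegaBar χ L.zc with hω
  have hωδ : ∀ δ', Dt.ψ eB δ' ≠ 0 → ∀ v, rep Dt.ψ δ' L.zc v = ω • v := by
    intro δ' hδ' v
    have hψe : Dt.ψ eB δ' = 1 := Dt.psi_blockIdemBar hM hB (by
      by_contra h
      exact hδ' (Dt.psi_blockIdemBar_of_ne hM hB h))
    have heBc : IsCentralElt eB := isCentralElt_blockIdemBar hB
    obtain ⟨N', hN'⟩ := isNilpotent_of_omegaBar_eq_zero
      ((hzc.mul heBc).sub (heBc.smul ω)) fun χ' => by
        rw [omegaBar_sub, omegaBar_mul χ' hzc heBc, omegaBar_smul, omegaBar_blockIdemBar hB]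
        split_ifs with hχ'
        · rw [omegaBar_congr (IsPBlock.sameBlock hB hχ' hχ), mul_one, ← hω, sub_self]
        · rw [mul_zero, mul_zero, sub_self]
    obtain ⟨c', hc'⟩ := exists_scalar_of_central Dt.surj δ' (z := L.zc) L.zc_central
    have h2 := congrArg (fun q => Dt.ψ q δ') hN'
    simp only [map_pow, map_sub, map_mul, map_smul, Pi.pow_apply, Pi.sub_apply, Pi.mul_apply,
      Pi.smul_apply, map_zero, Pi.zero_apply, hψe, hc', mul_one] at h2
    have h3 : Matrix.scalar (Fin (Dt.d δ')) c' - ω • (1 : Matrix _ _ (Res M)) =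
        Matrix.scalar (Fin (Dt.d δ')) (c' - ω) := by
      rw [map_sub]
      congr 1
      rw [← Algebra.algebraMap_eq_smul_one]
      rfl
    rw [h3, ← map_pow] at h2
    have h4 := congrFun (congrFun h2 0) 0
    simp only [Matrix.scalar_apply, Matrix.diagonal_apply_eq, Matrix.zero_apply] at h4
    rw [rep_apply, hc', sub_eq_zero.1 (eq_zero_of_pow_eq_zero h4)]
    ext w
    simp [Matrix.scalar_apply, Matrix.mulVec_diagonal]
  have h := L.card_eq Dt.surj Dt.nil hBc (blockIdemBar_mul_self hB) hres hωδ (fun δ' hδ' R =>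
    exists_not_trace hM Dt hB hD hD0 (by
      by_contra h
      exact hδ' (Dt.psi_blockIdemBar_of_ne hM hB h)) R)
  refine (Dt.card_block_eq hM hB).symm.trans (Eq.trans (Nat.card_congr
    (Equiv.subtypeEquivRight fun δ' => ⟨fun hδ' h0 => ?_, fun h0 => ?_⟩)) h)
  · have := NeZero.ne (Dt.d δ')
    rw [heB, Dt.psi_blockIdemBar hM hB hδ'] at h0
    exact one_ne_zero h0
  · by_contra h'
    exact h0 (Dt.psi_blockIdemBar_of_ne hM hB h')

/-- **The regular rank of a block with cyclic defect group is the inertial index.** -/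
theorem blockRank_eq_relIndex (hB : IsPBlock M B) (hD : IsDefectGroup p M B D) (hcyc : IsCyclic D)
    (hD0 : D ≠ ⊥) {b : Set (IrrCharacter (Subgroup.centralizer (D : Set G)))}
    (hb : IsBrauerPairOf p M B D b) :
    blockRank p B = (Subgroup.centralizer (D : Set G)).relIndex (pairStab D b) := by
  obtain ⟨y, c, hy, hyo, hpair, hcdef, hc1, hidx, hep, hfree⟩ :=
    exists_local_data hM hB hD hcyc hD0 hb
  rw [← hidx] at hep ⊢
  exact blockRank_eq_relIndex_aux hM hB hD hcyc hD0 hy hyo _ _ _ _ rfl rfl rfl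
    (centralizer_le_pairStab _ c) (pairStab_le_normalizer _ c) hpair.1.2
    (fun q hq => ⟨fun h => h.2, fun h => ⟨hq, h⟩⟩)
    (fun ξ hξ => (isBrauerPairOf_iff.1 hpair).2.2 ξ hξ) hcdef hc1 hep hfree

end CfsgLib.CyclicRank
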