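import Cfsg.Agent.Lib.Blocks.GroupAlg
import Mathlib.GroupTheory.Coset.Basic

/-!
# Elements of a group algebra supported on a subset, and sums over cosets
-/

set_option autoImplicit false

namespace CfsgLib.CyclicRank

open MonoidAlgebra CfsgLib.Blocks

variable {k : Type*} [Field k] {G : Type*} [Group G]

/-- The elements with support in a set. -/
def suppIn (k : Type*) [Field k] (S : Set G) : Submodule k (MonoidAlgebra k G) where
  carrier := {a | ∀ g ∉ S, a.coeff g = 0}
  add_mem' {a b} ha hb g hg := by simp [ha g hg, hb g hg]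
  zero_mem' g _ := by simp
  smul_mem' c a ha g hg := by simp [coeff_smul, ha g hg]

theorem mem_suppIn {S : Set G} {a : MonoidAlgebra k G} :
    a ∈ suppIn k S ↔ ∀ g ∉ S, a.coeff g = 0 := Iff.rfl

theorem suppIn_mono {S S' : Set G} (h : S ⊆ S') : suppIn k S ≤ suppIn k S' :=
  fun _ ha g hg => ha g fun hgS => hg (h hgS)

theorem single_mem_suppIn {S : Set G} {g : G} (hg : g ∈ S) (c : k) : single g c ∈ suppIn k S := by
  intro x hx
  rw [MonoidAlgebra.coeff_single, Finsupp.single_eq_of_ne]
  rintro rfl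
  exact hx hg

theorem one_mem_suppIn (H : Subgroup G) : (1 : MonoidAlgebra k G) ∈ suppIn k (H : Set G) := by
  rw [MonoidAlgebra.one_def]
  exact single_mem_suppIn H.one_mem 1

/-- The cut to a set. -/
noncomputable def cut (k : Type*) [Field k] [Fintype G] (S : Set G) :
    MonoidAlgebra k G →ₗ[k] MonoidAlgebra k G where
  toFun a := ofFun (S.indicator fun g => a.coeff g)
  map_add' a b := MonoidAlgebra.ext (Finsupp.ext fun g => by
    classical
    simp only [coeff_ofFun, coeff_add, Finsupp.add_apply, Set.indicator_apply]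
    split_ifs <;> simp)
  map_smul' c a := MonoidAlgebra.ext (Finsupp.ext fun g => by
    classical
    simp only [coeff_ofFun, coeff_smul, Finsupp.smul_apply, RingHom.id_apply, Set.indicator_apply]
    split_ifs <;> simp)

section Fin

variable [Fintype G]

theorem coeff_cut (S : Set G) (a : MonoidAlgebra k G) (g : G) :
    (cut k S a).coeff g = S.indicator (fun x => a.coeff x) g := rfl

theorem cut_mem (S : Set G) (a : MonoidAlgebra k G) : cut k S a ∈ suppIn k S :=
  fun g hg => by rw [coeff_cut, Set.indicator_of_notMem hg]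

theorem cut_eq_self {S : Set G} {a : MonoidAlgebra k G} (ha : a ∈ suppIn k S) : cut k S a = a :=
  MonoidAlgebra.ext (Finsupp.ext fun g => by
    rw [coeff_cut]
    by_cases hg : g ∈ S
    · rw [Set.indicator_of_mem hg]
    · rw [Set.indicator_of_notMem hg, ha g hg])

theorem cut_eq_zero {S S' : Set G} (h : ∀ g ∈ S', g ∉ S) {a : MonoidAlgebra k G}
    (ha : a ∈ suppIn k S') : cut k S a = 0 :=
  MonoidAlgebra.ext (Finsupp.ext fun g => by
    rw [coeff_cut]
    by_cases hg : g ∈ S
    · rw [Set.indicator_of_mem hg]; simpa using ha g fun h' => h g h' hg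
    · rw [Set.indicator_of_notMem hg]; simp)

/-- A supported element is a combination of group elements of the set. -/
theorem induction_suppIn {S : Set G} {P : MonoidAlgebra k G → Prop} (h0 : P 0)
    (hadd : ∀ a b, P a → P b → P (a + b)) (hsingle : ∀ g ∈ S, ∀ c : k, P (single g c))
    {a : MonoidAlgebra k G} (ha : a ∈ suppIn k S) : P a := by
  classical
  have h : a = ∑ g : G, single g (a.coeff g) := MonoidAlgebra.ext (Finsupp.ext fun x => by
    simp [MonoidAlgebra.coeff_sum, MonoidAlgebra.coeff_single, Finsupp.single_apply])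
  rw [h]
  refine Finset.sum_induction _ P hadd h0 fun g _ => ?_
  by_cases hg : g ∈ S
  · exact hsingle g hg _
  · rw [ha g hg, single_zero]; exact h0

theorem mul_mem_suppIn {S S' S'' : Set G} (h : ∀ x ∈ S, ∀ y ∈ S', x * y ∈ S'')
    {a b : MonoidAlgebra k G} (ha : a ∈ suppIn k S) (hb : b ∈ suppIn k S') :
    a * b ∈ suppIn k S'' := by
  refine induction_suppIn (P := fun a => a * b ∈ suppIn k S'') (by simp)
    (fun u v hu hv => by rw [add_mul]; exact add_mem hu hv) (fun x hx c => ?_) ha
  refine induction_suppIn (P := fun b => single x c * b ∈ suppIn k S'') (by simp)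
    (fun u v hu hv => by rw [mul_add]; exact add_mem hu hv) (fun y hy c' => ?_) hb
  rw [single_mul_single]
  exact single_mem_suppIn (h x hx y hy) _

theorem mul_mem_subgroup {H : Subgroup G} {a b : MonoidAlgebra k G}
    (ha : a ∈ suppIn k (H : Set G)) (hb : b ∈ suppIn k (H : Set G)) :
    a * b ∈ suppIn k (H : Set G) :=
  mul_mem_suppIn (fun _ hx _ hy => H.mul_mem hx hy) ha hb

theorem pow_mem_subgroup {H : Subgroup G} {a : MonoidAlgebra k G}
    (ha : a ∈ suppIn k (H : Set G)) (i : ℕ) : a ^ i ∈ suppIn k (H : Set G) := by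
  induction i with
  | zero => rw [pow_zero]; exact one_mem_suppIn H
  | succ i ih => rw [pow_succ]; exact mul_mem_subgroup ih ha

/-- Cutting to a subgroup is a bimodule map over it. -/
theorem cut_mul {H : Subgroup G} {h : MonoidAlgebra k G} (hh : h ∈ suppIn k (H : Set G))
    (a : MonoidAlgebra k G) : cut k (H : Set G) (h * a) = h * cut k (H : Set G) a := by
  refine induction_suppIn (P := fun h => cut k (H : Set G) (h * a) = h * cut k (H : Set G) a)
    (by simp) (fun u v hu hv => by rw [add_mul, add_mul, map_add, hu, hv]) (fun x hx c => ?_) hh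
  induction a using MonoidAlgebra.induction_on with
  | of y =>
    rw [MonoidAlgebra.of_apply, single_mul_single]
    by_cases hy : y ∈ H
    · rw [cut_eq_self (single_mem_suppIn (H.mul_mem hx hy) _), cut_eq_self (single_mem_suppIn hy _),
        single_mul_single]
    · rw [cut_eq_zero (S' := {x * y}) (fun g hg hgH => hy ((Subgroup.mul_mem_cancel_left H hx).1
        (by rw [← Set.mem_singleton_iff.1 hg]; exact hgH))) (single_mem_suppIn (Set.mem_singleton _) _),
        cut_eq_zero (S' := {y}) (fun g hg hgH => hy (by rw [← Set.mem_singleton_iff.1 hg]; exact hgH))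
          (single_mem_suppIn (Set.mem_singleton _) _), mul_zero]
  | add b b' hb hb' => rw [mul_add, map_add, map_add, hb, hb', mul_add]
  | smul r b hb => rw [mul_smul_comm, map_smul, map_smul, hb, mul_smul_comm]

theorem mul_cut {H : Subgroup G} {h : MonoidAlgebra k G} (hh : h ∈ suppIn k (H : Set G))
    (a : MonoidAlgebra k G) : cut k (H : Set G) (a * h) = cut k (H : Set G) a * h := by
  refine induction_suppIn (P := fun h => cut k (H : Set G) (a * h) = cut k (H : Set G) a * h)
    (by simp) (fun u v hu hv => by rw [mul_add, mul_add, map_add, hu, hv]) (fun x hx c => ?_) hh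
  induction a using MonoidAlgebra.induction_on with
  | of y =>
    rw [MonoidAlgebra.of_apply, single_mul_single]
    by_cases hy : y ∈ H
    · rw [cut_eq_self (single_mem_suppIn (H.mul_mem hy hx) _), cut_eq_self (single_mem_suppIn hy _),
        single_mul_single]
    · rw [cut_eq_zero (S' := {y * x}) (fun g hg hgH => hy ((Subgroup.mul_mem_cancel_right H hx).1
        (by rw [← Set.mem_singleton_iff.1 hg]; exact hgH))) (single_mem_suppIn (Set.mem_singleton _) _),
        cut_eq_zero (S' := {y}) (fun g hg hgH => hy (by rw [← Set.mem_singleton_iff.1 hg]; exact hgH))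
          (single_mem_suppIn (Set.mem_singleton _) _), zero_mul]
  | add b b' hb hb' => rw [add_mul, map_add, map_add, hb, hb', add_mul]
  | smul r b hb => rw [smul_mul_assoc, map_smul, map_smul, hb, smul_mul_assoc]

end Fin

/-- A sum over the cosets of `D` splits along the cosets of a larger subgroup. -/
theorem sum_cosets {V : Type*} [AddCommMonoid V] [Fintype G] {D H : Subgroup G} (hDH : D ≤ H)
    [Fintype (G ⧸ D)] [Fintype (G ⧸ H)] [Fintype (H ⧸ D.subgroupOf H)] (F : G → V)
    (hF : ∀ q : G, ∀ d ∈ D, F (q * d) = F q) :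
    ∑ q : G ⧸ D, F q.out = ∑ r : G ⧸ H, ∑ s : H ⧸ D.subgroupOf H, F (r.out * (s.out : H)) := by
  classical
  have hco : ∀ {u v : G}, (u : G ⧸ D) = (v : G ⧸ D) → F u = F v := fun {u v} h => by
    rw [← hF u _ (QuotientGroup.eq.1 h), mul_inv_cancel_left]
  rw [← Fintype.sum_prod_type']
  refine (Fintype.sum_bijective
    (fun z : (G ⧸ H) × (H ⧸ D.subgroupOf H) => ((z.1.out * (z.2.out : H) : G) : G ⧸ D))
    ⟨?_, ?_⟩ _ _ fun z => hco (QuotientGroup.out_eq' _).symm).symm
  · rintro ⟨r, s⟩ ⟨r', s'⟩ h
    have h1 : (r.out * (s.out : H))⁻¹ * (r'.out * (s'.out : H)) ∈ D := QuotientGroup.eq.1 h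
    obtain rfl : r = r' := by
      rw [← QuotientGroup.out_eq' r, ← QuotientGroup.out_eq' r', QuotientGroup.eq]
      have h2 := H.mul_mem (H.mul_mem (s.out : H).2 (hDH h1)) (H.inv_mem (s'.out : H).2)
      simpa [mul_assoc] using h2
    obtain rfl : s = s' := by
      rw [← QuotientGroup.out_eq' s, ← QuotientGroup.out_eq' s', QuotientGroup.eq,
        Subgroup.mem_subgroupOf]
      simpa [mul_assoc] using h1
    rfl
  · intro q
    refine ⟨((q.out : G), (((⟨((q.out : G) : G ⧸ H).out⁻¹ * q.out, ?_⟩ : H)) : H ⧸ D.subgroupOf H)), ?_⟩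
    · exact QuotientGroup.eq.1 (QuotientGroup.out_eq' ((q.out : G) : G ⧸ H))
    · obtain ⟨w, hw⟩ := QuotientGroup.mk_out_eq_mul (D.subgroupOf H)
        (⟨((q.out : G) : G ⧸ H).out⁻¹ * q.out, QuotientGroup.eq.1 (QuotientGroup.out_eq' _)⟩ : H)
      dsimp only
      rw [hw, Subgroup.coe_mul, ← mul_assoc, mul_inv_cancel_left]
      conv_rhs => rw [← QuotientGroup.out_eq' q]
      rw [QuotientGroup.eq]
      simpa [mul_assoc] using inv_mem (Subgroup.mem_subgroupOf.1 w.2)

/-- A sum over a set permuted freely by a group is a relative trace from the trivial subgroup. -/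
theorem exists_free_trace {V : Type*} [AddCommMonoid V] {D : Type*} [Group D] [Fintype D] {X : Type*}
    [MulAction D X] (S : Finset X) (hS : ∀ d : D, ∀ q ∈ S, d • q ∈ S)
    (hfree : ∀ q ∈ S, ∀ d : D, d • q = q → d = 1) (F : X → V) :
    ∃ R : Finset X, R ⊆ S ∧ ∑ q ∈ S, F q = ∑ d : D, ∑ r ∈ R, F (d • r) := by
  classical
  induction S using Finset.strongInduction with
  | _ S ih =>
    rcases S.eq_empty_or_nonempty with rfl | ⟨q0, hq0⟩
    · exact ⟨∅, subset_rfl, by simp⟩
    · set O : Finset X := Finset.univ.image fun d : D => d • q0 with hO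
      have hOS : O ⊆ S := fun q hq => by
        obtain ⟨d, -, rfl⟩ := Finset.mem_image.1 hq
        exact hS d q0 hq0
      have hq0O : q0 ∈ O := Finset.mem_image.2 ⟨1, Finset.mem_univ _, one_smul D q0⟩
      have hlt : S \ O ⊂ S :=
        Finset.sdiff_ssubset hOS ⟨q0, hq0O⟩
      obtain ⟨R, hR, hsum⟩ := ih (S \ O) hlt (fun d q hq => by
        rw [Finset.mem_sdiff] at hq ⊢
        refine ⟨hS d q hq.1, fun h => hq.2 ?_⟩
        obtain ⟨d', -, hd'⟩ := Finset.mem_image.1 h
        exact Finset.mem_image.2 ⟨d⁻¹ * d', Finset.mem_univ _, by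
          rw [mul_smul, hd', inv_smul_smul]⟩) fun q hq => hfree q (Finset.mem_sdiff.1 hq).1
      have hq0R : q0 ∉ R := fun h => (Finset.mem_sdiff.1 (hR h)).2 hq0O
      refine ⟨insert q0 R, Finset.insert_subset hq0 (hR.trans Finset.sdiff_subset), ?_⟩
      simp only [Finset.sum_insert hq0R, Finset.sum_add_distrib]
      rw [← hsum, ← Finset.sum_sdiff hOS, add_comm]
      congr 1
      rw [hO, Finset.sum_image fun d _ d' _ h => ?_]
      have h1 : (d'⁻¹ * d) • q0 = q0 := by
        rw [mul_smul, h, inv_smul_smul]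
      exact (inv_mul_eq_one.1 (hfree q0 hq0 _ h1)).symm

end CfsgLib.CyclicRank

namespace CfsgLib.CyclicRank

variable {G : Type*} [Group G] [Fintype G]

/-- A sum over the group splits along the cosets of a subgroup. -/
theorem sum_group {V : Type*} [AddCommMonoid V] (H : Subgroup G) [Fintype H] [Fintype (G ⧸ H)]
    (F : G → V) : ∑ g, F g = ∑ r : G ⧸ H, ∑ c : H, F (r.out * c) := by
  classical
  rw [← Fintype.sum_prod_type']
  refine (Fintype.sum_bijective (fun z : (G ⧸ H) × H => z.1.out * (z.2 : G)) ⟨?_, fun g => ?_⟩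
    (fun z => F (z.1.out * (z.2 : G))) F fun _ => rfl).symm
  · rintro ⟨r, c⟩ ⟨r', c'⟩ h
    have h' : r.out * (c : G) = r'.out * (c' : G) := h
    obtain rfl : r = r' := by
      rw [← QuotientGroup.out_eq' r, ← QuotientGroup.out_eq' r', QuotientGroup.eq,
        show r.out⁻¹ * r'.out = c * (c' : G)⁻¹ by
          rw [eq_mul_inv_iff_mul_eq, mul_assoc, ← h', inv_mul_cancel_left]]
      exact H.mul_mem c.2 (H.inv_mem c'.2)
    exact Prod.ext rfl (Subtype.ext (mul_left_cancel h'))
  · exact ⟨((g : G ⧸ H), ⟨(g : G ⧸ H).out⁻¹ * g,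
      QuotientGroup.eq.1 (QuotientGroup.out_eq' (g : G ⧸ H))⟩), mul_inv_cancel_left _ _⟩

/-- A sum over cosets is invariant under translation. -/
theorem sum_translate {V : Type*} [AddCommMonoid V] (D : Subgroup G) [Fintype (G ⧸ D)] (F : G → V)
    (hF : ∀ q : G, ∀ d ∈ D, F (q * d) = F q) (h : G) :
    ∑ q : G ⧸ D, F (h * q.out) = ∑ q : G ⧸ D, F q.out := by
  refine Fintype.sum_equiv (MulAction.toPerm h) _ _ fun q => ?_
  rw [MulAction.toPerm_apply]
  have hq : ((h • q : G ⧸ D).out : G ⧸ D) = ((h * q.out : G) : G ⧸ D) := by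
    rw [QuotientGroup.out_eq']
    conv_lhs => rw [← QuotientGroup.out_eq' q]
    rfl
  rw [← hF (h * q.out) _ (QuotientGroup.eq.1 hq.symm), mul_inv_cancel_left]

end CfsgLib.CyclicRank
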