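import Cfsg.Agent.Lib.Blocks.CyclicRank.Local

/-!
# The global extension of a local map

`glob γ` is the trace from `D` of `γ ∘ a`. On short vectors of the corner it is `e γ` up to the
radical part: the cosets inside `T` give `e γ`, those in `N` outside `T` give zero, and the others
are permuted freely by `D`, so they give a trace from the trivial group.
-/

set_option autoImplicit false

namespace CfsgLib.CyclicRank.Loc

open MonoidAlgebra CfsgLib.Blocks

attribute [local instance] Fintype.ofFinite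

/-- A fixed choice of `Fintype` on cosets. -/
noncomputable scoped instance (priority := high) cosetFintype {α : Type*} [Group α] [Finite α]
    (s : Subgroup α) : Fintype (α ⧸ s) := Fintype.ofFinite _

variable {k : Type*} [Field k] {G : Type*} [Group G] [Fintype G] (L : Loc k G)
  {V V' : Type*} [AddCommGroup V] [Module k V] [AddCommGroup V'] [Module k V']
  (ρ : MonoidAlgebra k G →ₐ[k] Module.End k V) (ρ' : MonoidAlgebra k G →ₐ[k] Module.End k V')

theorem el_el (σ : MonoidAlgebra k G →ₐ[k] Module.End k V) (g h : G) (v : V) :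
    el σ g (el σ h v) = el σ (g * h) v := by rw [el_mul, Module.End.mul_apply]

/-- The term at a coset representative. -/
noncomputable def term (γ : V →ₗ[k] V') (q : G) : V →ₗ[k] V' :=
  el ρ' q ∘ₗ γ ∘ₗ ρ L.a ∘ₗ el ρ q⁻¹

/-- The trace from `D`. -/
noncomputable def glob (γ : V →ₗ[k] V') : V →ₗ[k] V' :=
  ∑ q : G ⧸ L.D, L.term ρ ρ' γ q.out

omit [AddCommGroup V] [Module k V] [AddCommGroup V'] [Module k V'] in
open scoped Classical in
theorem card_cosets_T :
    (Finset.univ.filter fun r : G ⧸ L.H => r.out ∈ L.T).card = L.e := by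
  classical
  have h : Nat.card {r : G ⧸ L.H // r.out ∈ L.T} = L.e := by
    rw [← L.hidx, Subgroup.relIndex, Subgroup.index_eq_card]
    let f : L.T ⧸ L.H.subgroupOf L.T → {r : G ⧸ L.H // r.out ∈ L.T} := fun w =>
      ⟨((w.out : L.T) : G), by
        obtain ⟨u, hu⟩ := QuotientGroup.mk_out_eq_mul L.H ((w.out : L.T) : G)
        rw [hu]
        exact L.T.mul_mem (w.out : L.T).2 (L.hHT u.2)⟩
    refine (Nat.card_congr (Equiv.ofBijective f ⟨fun w w' hw => ?_, fun r => ?_⟩)).symm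
    · have h1 := congrArg Subtype.val hw
      simp only [f, QuotientGroup.eq] at h1
      rw [← QuotientGroup.out_eq' w, ← QuotientGroup.out_eq' w', QuotientGroup.eq,
        Subgroup.mem_subgroupOf]
      exact h1
    · refine ⟨((⟨r.1.out, r.2⟩ : L.T) : L.T ⧸ L.H.subgroupOf L.T), Subtype.ext ?_⟩
      simp only [f]
      conv_rhs => rw [← QuotientGroup.out_eq' r.1]
      rw [QuotientGroup.eq]
      obtain ⟨u, hu⟩ := QuotientGroup.mk_out_eq_mul (L.H.subgroupOf L.T) (⟨r.1.out, r.2⟩ : L.T)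
      rw [hu]
      simpa [mul_assoc] using inv_mem (Subgroup.mem_subgroupOf.1 u.2)
  rw [← h, Nat.card_eq_fintype_card, Fintype.card_subtype]

variable {γ : V →ₗ[k] V'} (hT : ∀ t ∈ L.T, ∀ v, γ (el ρ t v) = el ρ' t (γ v))
include hT

theorem term_mul (q : G) {d : G} (hd : d ∈ L.D) : L.term ρ ρ' γ (q * d) = L.term ρ ρ' γ q := by
  refine LinearMap.ext fun v => ?_
  have hc : ∀ w, ρ L.a (el ρ d⁻¹ w) = el ρ d⁻¹ (ρ L.a w) := fun w => by
    rw [← Twist.rho_mul, ← Twist.rho_mul, L.haD _ (inv_mem hd)]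
  simp only [term, LinearMap.comp_apply]
  rw [mul_inv_rev, ← el_el ρ d⁻¹ q⁻¹, hc, hT _ (L.hHT (L.hDH (inv_mem hd))), el_el,
    mul_inv_cancel_right]

/-- The trace from `D` commutes with the group algebra. -/
theorem glob_comm (z : MonoidAlgebra k G) (v : V) :
    L.glob ρ ρ' γ (ρ z v) = ρ' z (L.glob ρ ρ' γ v) := by
  induction z using MonoidAlgebra.induction_on with
  | of h =>
    show L.glob ρ ρ' γ (el ρ h v) = el ρ' h (L.glob ρ ρ' γ v)
    simp only [glob, LinearMap.sum_apply, map_sum]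
    refine (sum_translate L.D (fun q => L.term ρ ρ' γ q (el ρ h v))
      (fun q d hd => by rw [L.term_mul ρ ρ' hT q hd]) h).symm.trans ?_
    refine Finset.sum_congr rfl fun q _ => ?_
    simp only [term, LinearMap.comp_apply]
    rw [el_el, el_el, mul_inv_rev, inv_mul_cancel_right]
  | add a b ha hb => rw [map_add, LinearMap.add_apply, map_add, ha, hb, map_add, LinearMap.add_apply]
  | smul r a ha => rw [map_smul, LinearMap.smul_apply, map_smul, ha, map_smul, LinearMap.smul_apply]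

variable (hec : ∀ v, γ (ρ L.ec v) = γ v)
include hec

/-- The cosets of `D` inside one coset of `H` in `T` give `γ`. -/
theorem sum_term_of_mem {r : G} (hr : r ∈ L.T) :
    ∑ s : L.H ⧸ L.D.subgroupOf L.H, L.term ρ ρ' γ (r * (s.out : L.H)) = γ := by
  refine LinearMap.ext fun v => ?_
  have hterm : ∀ s : L.H ⧸ L.D.subgroupOf L.H, L.term ρ ρ' γ (r * (s.out : L.H)) v =
      el ρ' r (γ (ρ (single ((s.out : L.H) : G) 1 * L.a * single ((s.out : L.H) : G)⁻¹ 1)
        (el ρ r⁻¹ v))) := fun s => by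
    simp only [term, LinearMap.comp_apply]
    rw [Twist.rho_mul, Twist.rho_mul, hT _ (L.hHT (s.out : L.H).2), el_el, el_el, mul_inv_rev]
  rw [LinearMap.sum_apply, Finset.sum_congr rfl fun s _ => hterm s, ← map_sum, ← map_sum,
    ← LinearMap.sum_apply, ← map_sum, ← finsum_eq_sum_of_fintype, L.hatr, hec,
    hT _ (inv_mem hr), el_el, mul_inv_cancel]
  show ρ' (single 1 1) (γ v) = γ v
  rw [← MonoidAlgebra.one_def, map_one, Module.End.one_apply]

variable (hec' : ∀ v, ρ' L.ec (γ v) = γ v) [FiniteDimensional k V']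
include hec'

/-- On short vectors of the corner the trace from `D` is `e γ` up to the radical part. -/
theorem glob_congr {v : V} (hv : ρ L.f v = v) (hv0 : ρ (L.x ^ (L.n - 1)) v = 0) :
    ρ' L.f (L.glob ρ ρ' γ v) - (L.e : k) • ρ' L.f (γ v) ∈ LinearMap.range (ρ' L.x) := by
  classical
  set Φ : G → V' := fun q => ρ' L.f (L.term ρ ρ' γ q v) with hΦ
  have hΦD : ∀ q, ∀ d ∈ L.D, Φ (q * d) = Φ q := fun q d hd => by
    simp only [hΦ, L.term_mul ρ ρ' hT q hd]
  have hNmul : ∀ q, ∀ d ∈ L.D, (q * d ∈ L.N ↔ q ∈ L.N) := fun q d hd =>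
    Subgroup.mul_mem_cancel_right L.N (L.hTN (L.hHT (L.hDH hd)))
  set Ψ : G → V' := fun q => if q ∈ L.N then 0 else Φ q with hΨ
  have hΨD : ∀ q, ∀ d ∈ L.D, Ψ (q * d) = Ψ q := fun q d hd => by
    simp only [hΨ, hΦD q d hd, hNmul q d hd]
  have h0 : ρ' L.f (L.glob ρ ρ' γ v) = ∑ q : G ⧸ L.D, Φ q.out := by
    simp only [glob, LinearMap.sum_apply, map_sum, hΦ]
  have hr : ∀ (r : G ⧸ L.H), ∑ s : L.H ⧸ L.D.subgroupOf L.H, Φ (r.out * (s.out : L.H)) =
      (if r.out ∈ L.T then ρ' L.f (γ v) else 0) +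
        ∑ s : L.H ⧸ L.D.subgroupOf L.H, Ψ (r.out * (s.out : L.H)) := by
    intro r
    by_cases hT' : r.out ∈ L.T
    · rw [if_pos hT', Finset.sum_eq_zero (f := fun s : L.H ⧸ L.D.subgroupOf L.H =>
        Ψ (r.out * (s.out : L.H))) fun s _ => if_pos (L.hTN (L.T.mul_mem hT' (L.hHT (s.out : L.H).2))),
        add_zero]
      simp only [hΦ]
      rw [← map_sum, ← LinearMap.sum_apply, L.sum_term_of_mem ρ ρ' hT hec hT']
    · rw [if_neg hT', zero_add]
      refine Finset.sum_congr rfl fun s _ => ?_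
      simp only [hΨ]
      split_ifs with hN
      · have hq : r.out * ((s.out : L.H) : G) ∉ L.T := fun h =>
          hT' ((Subgroup.mul_mem_cancel_right L.T (L.hHT (s.out : L.H).2)).1 h)
        simp only [hΦ, term, LinearMap.comp_apply]
        rw [← hec' (ρ L.a (el ρ _ v)), ← Twist.rho_mul, ← Twist.rho_mul,
          show L.f * single (r.out * ((s.out : L.H) : G)) 1 * L.ec =
            L.f * (L.ec * single (r.out * ((s.out : L.H) : G)) 1 * L.ec) by
            rw [← mul_assoc L.f (L.ec * _), ← mul_assoc L.f L.ec, L.f_ec],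
          L.horth _ hN hq, mul_zero, map_zero, LinearMap.zero_apply]
      · rfl
  rw [h0, sum_cosets L.hDH Φ hΦD, Finset.sum_congr rfl fun r _ => hr r, Finset.sum_add_distrib,
    ← sum_cosets L.hDH Ψ hΨD, ← Finset.sum_filter, Finset.sum_const, L.card_cosets_T,
    ← Nat.cast_smul_eq_nsmul k, add_sub_cancel_left]
  -- the free part
  set S : Finset (G ⧸ L.D) := Finset.univ.filter fun q => q.out ∉ L.N with hS
  have hΨS : ∑ q : G ⧸ L.D, Ψ q.out = ρ' L.f (∑ q ∈ S, L.term ρ ρ' γ q.out v) := by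
    rw [map_sum, hS, Finset.sum_filter]
    refine Finset.sum_congr rfl fun q _ => ?_
    simp only [hΨ, hΦ]
    by_cases h : q.out ∈ L.N <;> simp [h]
  rw [hΨS]
  have hsmul : ∀ (h : G) (q : G ⧸ L.D), ∃ d ∈ L.D, (h • q : G ⧸ L.D).out = h * q.out * d := by
    intro h q
    refine ⟨(h * q.out)⁻¹ * (h • q : G ⧸ L.D).out, QuotientGroup.eq.1 ?_, (mul_inv_cancel_left _ _).symm⟩
    rw [QuotientGroup.out_eq']
    conv_rhs => rw [← QuotientGroup.out_eq' q]
    rfl
  have htsm : ∀ (h : G), h ∈ L.H → ∀ (q : G ⧸ L.D) (w : V), L.term ρ ρ' γ (h • q : G ⧸ L.D).out w =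
      el ρ' h (L.term ρ ρ' γ q.out (el ρ h⁻¹ w)) := by
    intro h _ q w
    obtain ⟨d, hd, hq⟩ := hsmul h q
    rw [hq, L.term_mul ρ ρ' hT _ hd]
    simp only [term, LinearMap.comp_apply]
    rw [el_el, el_el, mul_inv_rev]
  have hSinv : ∀ (h : L.H), ∀ q ∈ S, (h : G) • q ∈ S := by
    intro h q hq
    rw [hS, Finset.mem_filter] at hq ⊢
    obtain ⟨d, hd, hqd⟩ := hsmul h q
    refine ⟨Finset.mem_univ _, fun hN => hq.2 ?_⟩
    rw [hqd, hNmul _ d hd] at hN
    exact (Subgroup.mul_mem_cancel_left L.N (L.hTN (L.hHT h.2))).1 hN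
  let Z : V →ₗ[k] V' := ∑ q ∈ S, L.term ρ ρ' γ q.out
  have hZ : ∀ w, Z w = ∑ q ∈ S, L.term ρ ρ' γ q.out w := fun w => by simp [Z]
  have hZH : ∀ (h : L.H) (w : V), el ρ' (h : G) (Z (el ρ (h : G)⁻¹ w)) = Z w := by
    intro h w
    rw [hZ, hZ, map_sum]
    refine Finset.sum_nbij' (fun q => (h : G) • q) (fun q => ((h⁻¹ : L.H) : G) • q)
      (fun q hq => hSinv h q hq) (fun q hq => hSinv h⁻¹ q hq)
      (fun q _ => by simp [smul_smul]) (fun q _ => by simp [smul_smul]) fun q _ => ?_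
    rw [htsm _ h.2]
  obtain ⟨R, hRS, hsum⟩ := exists_free_trace (D := L.D.subgroupOf L.H) S
    (fun d q hq => hSinv (d : L.H) q hq)
    (fun q hq d hdq => by
      obtain ⟨d', hd', hqd⟩ := hsmul ((d : L.H) : G) q
      have hdq' : ((d : L.H) : G) • q = q := hdq
      rw [hdq'] at hqd
      refine Subtype.ext (Subtype.ext (L.hfree q.out (Finset.mem_filter.1 hq).2 _
        (Subgroup.mem_subgroupOf.1 d.2) ?_))
      rw [show q.out⁻¹ * ((d : L.H) : G) * q.out = d'⁻¹ by
        rw [eq_inv_iff_mul_eq_one, mul_assoc q.out⁻¹, mul_assoc q.out⁻¹, ← hqd, inv_mul_cancel]]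
      exact inv_mem hd')
    (fun q => L.term ρ ρ' γ q.out)
  let R₀ : V →ₗ[k] V' := ρ' L.a ∘ₗ ∑ r ∈ R, L.term ρ ρ' γ r.out
  suffices h : ρ' L.f (Z v) = ρ' L.f (∑ c : L.H, el ρ' (c : G) (R₀ (el ρ ((c : G)⁻¹) v))) by
    rw [← hZ, h]
    exact L.trick ρ ρ' R₀ hv hv0
  have hZd : ∀ w, Z w = ∑ d : L.D.subgroupOf L.H,
      el ρ' ((d : L.H) : G) ((∑ r ∈ R, L.term ρ ρ' γ r.out) (el ρ ((d : L.H) : G)⁻¹ w)) := by
    intro w
    rw [hZ, ← LinearMap.sum_apply, hsum, LinearMap.sum_apply]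
    refine Finset.sum_congr rfl fun d _ => ?_
    rw [LinearMap.sum_apply, LinearMap.sum_apply, map_sum]
    exact Finset.sum_congr rfl fun r _ => htsm _ (d : L.H).2 r w
  conv_lhs => rw [show ρ' L.f (Z v) = ρ' (L.f * L.ec) (Z v) by rw [L.f_ec]]
  rw [Twist.rho_mul, ← L.hatr, finsum_eq_sum_of_fintype, map_sum ρ', LinearMap.sum_apply]
  refine congrArg (ρ' L.f) ?_
  rw [sum_group (L.D.subgroupOf L.H)]
  refine Finset.sum_congr rfl fun s _ => ?_
  have hs : el ρ' ((s.out : L.H) : G)⁻¹ (Z v) = Z (el ρ ((s.out : L.H) : G)⁻¹ v) := by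
    conv_rhs => rw [← hZH (s.out : L.H)⁻¹, Subgroup.coe_inv, inv_inv, el_el, mul_inv_cancel]
    rw [show el ρ (1 : G) v = v by rw [el, ← MonoidAlgebra.one_def, map_one, Module.End.one_apply]]
  rw [Twist.rho_mul, Twist.rho_mul, hs, hZd, map_sum, map_sum]
  refine Finset.sum_congr rfl fun d _ => ?_
  simp only [R₀, LinearMap.comp_apply, Subgroup.coe_mul, mul_inv_rev]
  rw [← Twist.rho_mul ρ' L.a, ← L.haD _ (Subgroup.mem_subgroupOf.1 d.2), Twist.rho_mul, el_el, el_el]

end CfsgLib.CyclicRank.Loc
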