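import Cfsg.Agent.Lib.Blocks.CyclicRank.Witness
import Mathlib.LinearAlgebra.Matrix.ToLin
import Mathlib.Algebra.Algebra.Pi

/-!
# Twisted uniserial corners and witnesses in modules

A corner generated by `x` and `g` with `g x = ζ x g`: the witnesses of a module pass to a composition
factor, which is one of the factors of the semisimple quotient.
-/

set_option autoImplicit false

universe u v w

namespace CfsgLib.CyclicRank

variable {k : Type u} [Field k] {A : Type v} [Ring A] [Algebra k A]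

/-- A twisted uniserial corner. -/
structure Twist (k : Type u) [Field k] (A : Type v) [Ring A] [Algebra k A] where
  f : A
  x : A
  g : A
  n : ℕ
  e : ℕ
  ζ : k
  hff : f * f = f
  hfx : f * x = x
  hxf : x * f = x
  hfg : f * g = g
  hgf : g * f = g
  hxn : x ^ n = 0
  hn : 2 ≤ n
  hge : g ^ e = f
  hgx : g * x = ζ • (x * g)
  hζ : IsPrimitiveRoot ζ e
  he : (e : k) ≠ 0

namespace Twist

variable (T : Twist k A)

theorem one_le_e : 1 ≤ T.e := CyclicRank.one_le_e T.he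

theorem gf_comm : Commute T.g T.f := T.hgf.trans T.hfg.symm

theorem xf_comm : Commute T.x T.f := T.hxf.trans T.hfx.symm

theorem f_pow_x {i : ℕ} (hi : 1 ≤ i) : T.f * T.x ^ i = T.x ^ i := by
  obtain ⟨j, rfl⟩ : ∃ j, i = j + 1 := ⟨i - 1, by omega⟩
  rw [pow_succ', ← mul_assoc, T.hfx]

theorem pow_x_f {i : ℕ} (hi : 1 ≤ i) : T.x ^ i * T.f = T.x ^ i := by
  rw [(T.xf_comm.pow_left i).eq, T.f_pow_x hi]

theorem g_pow_x (i : ℕ) : T.g ^ i * T.x = T.ζ ^ i • (T.x * T.g ^ i) := by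
  induction i with
  | zero => simp
  | succ i ih =>
    rw [pow_succ', mul_assoc, ih, mul_smul_comm, ← mul_assoc, T.hgx, smul_mul_assoc, smul_smul,
      mul_assoc, ← pow_succ]

theorem zeta_congr {a b : ℕ} (c d : ℕ) (h : a + T.e * c = b + T.e * d) : T.ζ ^ a = T.ζ ^ b := by
  have h' := congrArg (T.ζ ^ ·) h
  simpa [pow_add, zeta_pow_mul T.hζ] using h'

/-- A multiple of the projection on one degree. -/
noncomputable def proj (t : ℕ) : A :=
  (T.e : k)⁻¹ • ∑ i ∈ Finset.range T.e, T.ζ ^ (i * ((T.e - 1) * t)) • (T.g ^ i * T.f)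

theorem f_proj (t : ℕ) : T.f * T.proj t = T.proj t := by
  rw [proj, mul_smul_comm, Finset.mul_sum]
  congr 1
  refine Finset.sum_congr rfl fun i _ => ?_
  rw [mul_smul_comm, ← mul_assoc T.f, (T.gf_comm.pow_left i).symm.eq, mul_assoc (T.g ^ i), T.hff]

theorem g_proj (t : ℕ) : T.g * T.proj t = T.ζ ^ t • T.proj t := by
  let F : ℕ → A := fun i => T.ζ ^ (i * ((T.e - 1) * t)) • (T.g ^ i * T.f)
  have hF : F T.e = F 0 := by
    simp only [F]
    rw [zero_mul, pow_zero, pow_zero, one_mul, zeta_pow_mul T.hζ, T.hge, T.hff]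
  have h1 : ∑ i ∈ Finset.range T.e, F (i + 1) = ∑ i ∈ Finset.range T.e, F i := by
    have h := Finset.sum_range_succ F T.e
    rw [Finset.sum_range_succ', hF] at h
    exact add_right_cancel h
  show T.g * ((T.e : k)⁻¹ • ∑ i ∈ Finset.range T.e, F i) = _
  rw [mul_smul_comm, proj, smul_comm (T.ζ ^ t)]
  congr 1
  show T.g * ∑ i ∈ Finset.range T.e, F i = T.ζ ^ t • ∑ i ∈ Finset.range T.e, F i
  conv_rhs => rw [← h1]
  rw [Finset.mul_sum, Finset.smul_sum]
  refine Finset.sum_congr rfl fun i _ => ?_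
  simp only [F]
  rw [mul_smul_comm, ← mul_assoc T.g, ← pow_succ', smul_smul, ← pow_add]
  congr 1
  obtain ⟨e', he'⟩ : ∃ e', T.e = e' + 1 := ⟨T.e - 1, by have := T.one_le_e; omega⟩
  refine T.zeta_congr t 0 ?_
  rw [he', Nat.add_sub_cancel]
  ring

theorem proj_x (t : ℕ) : T.proj t * T.x = T.x * T.proj (t + (T.e - 1)) := by
  rw [proj, proj, smul_mul_assoc, mul_smul_comm, Finset.mul_sum, Finset.sum_mul]
  congr 1
  refine Finset.sum_congr rfl fun i _ => ?_
  rw [smul_mul_assoc, mul_smul_comm, mul_assoc, T.hfx, T.g_pow_x, smul_smul,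
    (T.gf_comm.pow_left i).eq, ← mul_assoc T.x, T.hxf, ← pow_add]
  congr 1
  obtain ⟨e', he'⟩ : ∃ e', T.e = e' + 1 := ⟨T.e - 1, by have := T.one_le_e; omega⟩
  refine T.zeta_congr (i * e') i ?_
  rw [he', Nat.add_sub_cancel]
  ring

section Rep

variable {V : Type w} [AddCommGroup V] [Module k V] (ρ : A →ₐ[k] Module.End k V)

theorem rho_mul (a b : A) (v : V) : ρ (a * b) v = ρ a (ρ b v) := by
  rw [map_mul, Module.End.mul_apply]

/-- A witness of degree `t` in a module. -/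
def Wit (t : ℕ) : Prop :=
  ∃ v : V, ρ T.f v = v ∧ ρ T.g v = T.ζ ^ t • v ∧ ρ (T.x ^ (T.n - 1)) v = 0 ∧
    v ∉ LinearMap.range (ρ T.x)

theorem Wit.congr {t t' : ℕ} (h : T.Wit ρ t) (ht : T.ζ ^ t = T.ζ ^ t') : T.Wit ρ t' := by
  obtain ⟨v, h1, h2, h3, h4⟩ := h
  exact ⟨v, h1, by rw [← ht]; exact h2, h3, h4⟩

theorem proj_apply {t : ℕ} {v : V} (hf : ρ T.f v = v) (hg : ρ T.g v = T.ζ ^ t • v) :
    ρ (T.proj t) v = v := by
  have hi : ∀ i, ρ (T.g ^ i * T.f) v = T.ζ ^ (i * t) • v := fun i => by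
    rw [rho_mul, hf]
    induction i with
    | zero => simp
    | succ i ih => rw [pow_succ', rho_mul, ih, map_smul, hg, smul_smul, ← pow_add, Nat.succ_mul]
  rw [proj, map_smul, map_sum, LinearMap.smul_apply, LinearMap.sum_apply,
    Finset.sum_congr rfl (g := fun _ => v) fun i _ => ?_, Finset.sum_const, Finset.card_range,
    ← Nat.cast_smul_eq_nsmul k, smul_smul, inv_mul_cancel₀ T.he, one_smul]
  rw [map_smul, LinearMap.smul_apply, hi, smul_smul, ← pow_add]
  obtain ⟨e', he'⟩ : ∃ e', T.e = e' + 1 := ⟨T.e - 1, by have := T.one_le_e; omega⟩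
  rw [T.zeta_congr 0 (i * t) (a := i * ((T.e - 1) * t) + i * t) (b := 0)
    (by rw [he', Nat.add_sub_cancel]; ring), pow_zero, one_smul]

theorem fix_x (w : LinearMap.range (ρ T.f)) : ρ T.x w.1 ∈ LinearMap.range (ρ T.f) :=
  ⟨ρ T.x w.1, by rw [← rho_mul, T.hfx]⟩

theorem fix_g (w : LinearMap.range (ρ T.f)) : ρ T.g w.1 ∈ LinearMap.range (ρ T.f) :=
  ⟨ρ T.g w.1, by rw [← rho_mul, T.hfg]⟩

theorem f_fix (w : LinearMap.range (ρ T.f)) : ρ T.f w.1 = w.1 := by
  obtain ⟨v, hv⟩ := w.2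
  rw [← hv, ← rho_mul, T.hff]

/-- The graded operator on the corner of a module. -/
noncomputable def X₀ : Module.End k (LinearMap.range (ρ T.f)) :=
  (ρ T.x ∘ₗ (LinearMap.range (ρ T.f)).subtype).codRestrict _ (T.fix_x ρ)

/-- The grading operator on the corner of a module. -/
noncomputable def g₀ : Module.End k (LinearMap.range (ρ T.f)) :=
  (ρ T.g ∘ₗ (LinearMap.range (ρ T.f)).subtype).codRestrict _ (T.fix_g ρ)

theorem coe_X₀_pow (i : ℕ) (w : LinearMap.range (ρ T.f)) :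
    ((T.X₀ ρ ^ i) w : V) = ρ (T.x ^ i) w.1 := by
  induction i with
  | zero => simp
  | succ i ih =>
    rw [pow_succ', pow_succ', Module.End.mul_apply, rho_mul, ← ih]
    rfl

theorem coe_g₀_pow (i : ℕ) (w : LinearMap.range (ρ T.f)) :
    ((T.g₀ ρ ^ i) w : V) = ρ (T.g ^ i) w.1 := by
  induction i with
  | zero => simp
  | succ i ih =>
    rw [pow_succ', pow_succ', Module.End.mul_apply, rho_mul, ← ih]
    rfl

/-- The graded structure on the corner of a module. -/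
noncomputable def graded : Graded k (LinearMap.range (ρ T.f)) T.ζ T.n T.e where
  X := T.X₀ ρ
  g := T.g₀ ρ
  X_pow := LinearMap.ext fun w => Subtype.ext (by
    rw [coe_X₀_pow, T.hxn, map_zero]; simp)
  g_pow := LinearMap.ext fun w => Subtype.ext (by
    rw [coe_g₀_pow, T.hge, f_fix]; rfl)
  comm := LinearMap.ext fun w => Subtype.ext (by
    show ρ T.g (ρ T.x w.1) = T.ζ • ρ T.x (ρ T.g w.1)
    rw [← rho_mul, ← rho_mul, T.hgx, map_smul, LinearMap.smul_apply])

theorem mem_range_X₀_iff {w : LinearMap.range (ρ T.f)} :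
    w ∈ LinearMap.range (T.graded ρ).X ↔ w.1 ∈ LinearMap.range (ρ T.x) := by
  constructor
  · rintro ⟨u, rfl⟩
    exact ⟨u.1, rfl⟩
  · rintro ⟨u, hu⟩
    refine ⟨⟨ρ T.f u, LinearMap.mem_range_self _ u⟩, Subtype.ext ?_⟩
    show ρ T.x (ρ T.f u) = w.1
    rw [← rho_mul, T.hxf, hu]

theorem wit_graded {t : ℕ} (h : T.Wit ρ t) : (T.graded ρ).Wit t := by
  obtain ⟨v, hf, hg, hx, hr⟩ := h
  refine ⟨⟨v, v, hf⟩, Subtype.ext hg, Subtype.ext ?_, fun h => hr ((T.mem_range_X₀_iff ρ).1 h)⟩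
  exact (T.coe_X₀_pow ρ _ _).trans hx

theorem wit_of_graded {t : ℕ} (h : (T.graded ρ).Wit t) : T.Wit ρ t := by
  obtain ⟨w, hg, hx, hr⟩ := h
  refine ⟨w.1, T.f_fix ρ w, congrArg Subtype.val hg, ?_, fun h => hr ((T.mem_range_X₀_iff ρ).2 h)⟩
  rw [← T.coe_X₀_pow]
  exact congrArg Subtype.val hx

variable [FiniteDimensional k V]

/-- A corner map lifting to a map commuting with `x` and `g`. -/
theorem lift_hom {V' : Type*} [AddCommGroup V'] [Module k V'] (ρ' : A →ₐ[k] Module.End k V')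
    (γ : LinearMap.range (ρ T.f) →ₗ[k] LinearMap.range (ρ' T.f))
    (hX : ∀ w, γ ((T.graded ρ).X w) = (T.graded ρ').X (γ w))
    (hg : ∀ w, γ ((T.graded ρ).g w) = (T.graded ρ').g (γ w)) :
    ∃ Γ : V →ₗ[k] V', (∀ w, ρ' T.f (Γ w) = Γ w) ∧ (∀ w, Γ (ρ T.f w) = Γ w) ∧
      (∀ w, Γ (ρ T.x w) = ρ' T.x (Γ w)) ∧ (∀ w, Γ (ρ T.g w) = ρ' T.g (Γ w)) ∧
      ∀ w : LinearMap.range (ρ T.f), Γ w.1 = (γ w).1 := by
  let Γ : V →ₗ[k] V' :=
    (LinearMap.range (ρ' T.f)).subtype ∘ₗ γ ∘ₗ (ρ T.f).rangeRestrict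
  have hΓ : ∀ w, Γ w = (γ ⟨ρ T.f w, LinearMap.mem_range_self _ w⟩).1 := fun w => rfl
  refine ⟨Γ, fun w => ?_, fun w => ?_, fun w => ?_, fun w => ?_, fun w => ?_⟩
  · rw [hΓ, f_fix]
  · rw [hΓ, hΓ]
    congr 2
    exact Subtype.ext (T.f_fix ρ ⟨_, LinearMap.mem_range_self _ w⟩)
  · rw [hΓ, hΓ]
    refine (congrArg (fun z => (γ z).1) (Subtype.ext ?_)).trans (congrArg Subtype.val (hX _))
    show ρ T.f (ρ T.x w) = ρ T.x (ρ T.f w)
    rw [← rho_mul, ← rho_mul, T.hfx, T.hxf]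
  · rw [hΓ, hΓ]
    refine (congrArg (fun z => (γ z).1) (Subtype.ext ?_)).trans (congrArg Subtype.val (hg _))
    show ρ T.f (ρ T.g w) = ρ T.g (ρ T.f w)
    rw [← rho_mul, ← rho_mul, T.hfg, T.hgf]
  · rw [hΓ]
    congr 2
    exact Subtype.ext (T.f_fix ρ w)

omit [FiniteDimensional k V] in
/-- A module with no witness is free on the corner. -/
theorem exists_homotopy [FiniteDimensional k V] (h : ∀ t, ¬ T.Wit ρ t) :
    ∃ P : V →ₗ[k] V, ∀ v, ρ T.f v = v →
      ∑ i ∈ Finset.range T.n, ρ (T.x ^ i) (P (ρ (T.x ^ (T.n - 1 - i)) v)) = v := by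
  set S := T.graded ρ with hS
  have hn := T.hn
  have hker : ∀ v, (S.X ^ (T.n - 1)) v = 0 → v ∈ LinearMap.range S.X := fun v hv =>
    S.mem_range_of_no_witness T.hζ T.he (fun t ht => h t (T.wit_of_graded ρ ht)) hv
  obtain ⟨W, hW⟩ := (LinearMap.range S.X).exists_isCompl
  let Ψ : (Fin T.n → W) →ₗ[k] LinearMap.range (ρ T.f) :=
    ∑ i : Fin T.n, (S.X ^ i.1) ∘ₗ W.subtype ∘ₗ LinearMap.proj i
  have hΨ : ∀ c, Ψ c = ∑ i : Fin T.n, (S.X ^ i.1) (c i).1 := fun c => by simp [Ψ]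
  have hXge : ∀ {r : ℕ} (w : LinearMap.range (ρ T.f)), T.n ≤ r → (S.X ^ r) w = 0 := fun {r} w hr => by
    rw [show r = T.n + (r - T.n) by omega, pow_add, S.X_pow, zero_mul, LinearMap.zero_apply]
  have hinj : Function.Injective Ψ := by
    rw [← LinearMap.ker_eq_bot, eq_bot_iff]
    intro c hc
    rw [LinearMap.mem_ker, hΨ] at hc
    rw [Submodule.mem_bot]
    funext i
    induction i using WellFoundedLT.induction with
    | _ i ih =>
      have h1 := congrArg (fun z => (S.X ^ (T.n - 1 - i.1)) z) hc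
      simp only [map_sum, map_zero] at h1
      rw [Finset.sum_eq_single i] at h1
      · rw [← Module.End.mul_apply, ← pow_add, show T.n - 1 - i.1 + i.1 = T.n - 1 by omega] at h1
        refine Subtype.ext ?_
        exact (Submodule.disjoint_def.1 hW.disjoint) _ (hker _ h1) (c i).2
      · intro j _ hj
        rcases lt_or_gt_of_ne hj with hlt | hgt
        · rw [ih j hlt]; simp
        · rw [← Module.End.mul_apply, ← pow_add, hXge]
          have : i.1 < j.1 := hgt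
          omega
      · simp
  have hsurj : LinearMap.range Ψ = ⊤ := by
    have hstep : ∀ r, r ≤ T.n → LinearMap.range (S.X ^ (T.n - r)) ≤ LinearMap.range Ψ := by
      intro r hr
      induction r with
      | zero => rw [Nat.sub_zero, S.X_pow, LinearMap.range_zero]; exact bot_le
      | succ r ih =>
        rintro _ ⟨u, rfl⟩
        obtain ⟨a, ha, b, hb, rfl⟩ := Submodule.mem_sup.1
          (show u ∈ W ⊔ LinearMap.range S.X from by
            rw [sup_comm, hW.sup_eq_top]; exact Submodule.mem_top)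
        obtain ⟨u', rfl⟩ := hb
        rw [map_add]
        refine add_mem ⟨Pi.single (⟨T.n - (r + 1), by omega⟩ : Fin T.n) ⟨a, ha⟩, ?_⟩ (ih (by omega) ⟨u', ?_⟩)
        · rw [hΨ, Finset.sum_eq_single (⟨T.n - (r + 1), by omega⟩ : Fin T.n)]
          · simp
          · intro j _ hj; simp [Pi.single_eq_of_ne hj]
          · simp
        · rw [← Module.End.mul_apply, ← pow_succ, show T.n - (r + 1) + 1 = T.n - r by omega]
    have h1 := hstep T.n le_rfl
    rw [Nat.sub_self, pow_zero, Module.End.one_eq_id, LinearMap.range_id] at h1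
    exact top_le_iff.1 h1
  let E := LinearEquiv.ofBijective Ψ ⟨hinj, LinearMap.range_eq_top.1 hsurj⟩
  let P₀ : LinearMap.range (ρ T.f) →ₗ[k] LinearMap.range (ρ T.f) :=
    W.subtype ∘ₗ LinearMap.proj (⟨T.n - 1, by omega⟩ : Fin T.n) ∘ₗ E.symm.toLinearMap
  have hP : ∀ (r : ℕ) (w : W), P₀ ((S.X ^ r) w.1) = if r = T.n - 1 then w.1 else 0 := by
    intro r w
    by_cases hr : T.n ≤ r
    · rw [hXge _ hr, map_zero, if_neg (by omega)]
    · have h1 : E.symm ((S.X ^ r) w.1) = Pi.single (⟨r, by omega⟩ : Fin T.n) w := by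
        rw [LinearEquiv.symm_apply_eq]
        show _ = Ψ _
        rw [hΨ, Finset.sum_eq_single (⟨r, by omega⟩ : Fin T.n)]
        · simp
        · intro j _ hj; simp [Pi.single_eq_of_ne hj]
        · simp
      show ((E.symm ((S.X ^ r) w.1)) ⟨T.n - 1, _⟩).1 = _
      rw [h1]
      split_ifs with hrn
      · subst hrn; simp
      · rw [Pi.single_eq_of_ne (fun h => hrn (Fin.mk.inj_iff.1 h).symm)]; rfl
  let Q : Module.End k (LinearMap.range (ρ T.f)) :=
    ∑ i ∈ Finset.range T.n, (S.X ^ i) ∘ₗ P₀ ∘ₗ (S.X ^ (T.n - 1 - i))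
  have hQ : ∀ z, Q z = z := by
    intro z
    obtain ⟨c, rfl⟩ := LinearMap.range_eq_top.1 hsurj z
    rw [hΨ, map_sum]
    refine Finset.sum_congr rfl fun a _ => ?_
    simp only [Q, LinearMap.sum_apply, LinearMap.comp_apply]
    rw [Finset.sum_eq_single a.1]
    · rw [← Module.End.mul_apply (S.X ^ (T.n - 1 - a.1)), ← pow_add, hP, if_pos (by omega)]
    · intro i hi hia
      rw [Finset.mem_range] at hi
      rw [← Module.End.mul_apply (S.X ^ (T.n - 1 - i)), ← pow_add, hP, if_neg (by omega), map_zero]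
    · intro ha
      exact absurd (Finset.mem_range.2 a.2) ha
  refine ⟨(LinearMap.range (ρ T.f)).subtype ∘ₗ P₀ ∘ₗ (ρ T.f).rangeRestrict, fun v hv => ?_⟩
  have h1 := congrArg Subtype.val (hQ ⟨v, v, hv⟩)
  simp only [Q, LinearMap.sum_apply, Submodule.coe_sum, LinearMap.comp_apply, hS, graded,
    coe_X₀_pow] at h1
  refine (Finset.sum_congr rfl fun i _ => ?_).trans h1
  simp only [LinearMap.comp_apply, Submodule.subtype_apply]
  refine congrArg (fun z => ρ (T.x ^ i) (P₀ z).1) (Subtype.ext ?_)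
  rw [coe_X₀_pow]
  show ρ T.f (ρ (T.x ^ (T.n - 1 - i)) v) = _
  rw [← rho_mul, (T.xf_comm.pow_left _).symm.eq, rho_mul, hv]

end Rep

end Twist

end CfsgLib.CyclicRank
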