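import Mathlib.LinearAlgebra.Dual.Lemmas
import Mathlib.LinearAlgebra.FiniteDimensional.Lemmas
import Mathlib.RingTheory.RootsOfUnity.PrimitiveRoots
import Mathlib.Algebra.Field.GeomSum

/-!
# Graded nilpotent operators

A space with a nilpotent operator `X` of class at most `n` and an operator `g` with `g ^ e = 1` and
`g X = ζ X g` decomposes by eigenvalue of `g`. A witness of degree `j` is a vector of degree `j`
killed by `X ^ (n - 1)` outside the range of `X`: the top of a string shorter than `n`.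
-/

set_option autoImplicit false

namespace CfsgLib.CyclicRank

variable {k : Type*} [Field k]

/-- A graded nilpotent operator. -/
structure Graded (k : Type*) [Field k] (M : Type*) [AddCommGroup M] [Module k M] (ζ : k) (n e : ℕ) where
  X : Module.End k M
  g : Module.End k M
  X_pow : X ^ n = 0
  g_pow : g ^ e = 1
  comm : g * X = ζ • (X * g)

variable {M M' : Type*} [AddCommGroup M] [Module k M] [AddCommGroup M'] [Module k M']
  {ζ : k} {n e : ℕ}

/-- The top of a short string of degree `j`. -/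
def Graded.Wit (S : Graded k M ζ n e) (j : ℕ) : Prop :=
  ∃ v : M, S.g v = ζ ^ j • v ∧ (S.X ^ (n - 1)) v = 0 ∧ v ∉ LinearMap.range S.X

theorem Graded.g_X_pow (S : Graded k M ζ n e) (i : ℕ) (v : M) :
    S.g ((S.X ^ i) v) = ζ ^ i • (S.X ^ i) (S.g v) := by
  induction i with
  | zero => simp
  | succ i ih =>
    have h : ∀ w, S.g (S.X w) = ζ • S.X (S.g w) := fun w => LinearMap.congr_fun S.comm w
    rw [pow_succ', Module.End.mul_apply, Module.End.mul_apply, h, ih, map_smul, smul_smul, pow_succ']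

theorem Graded.g_pow_X_pow (S : Graded k M ζ n e) (i l : ℕ) (v : M) :
    (S.g ^ i) ((S.X ^ l) v) = ζ ^ (i * l) • (S.X ^ l) ((S.g ^ i) v) := by
  induction i with
  | zero => simp
  | succ i ih =>
    rw [pow_succ', Module.End.mul_apply, Module.End.mul_apply, ih, map_smul, S.g_X_pow, smul_smul,
      ← pow_add, Nat.succ_mul]

theorem Graded.g_pow_eigen (S : Graded k M ζ n e) {j : ℕ} {v : M} (hv : S.g v = ζ ^ j • v) (i : ℕ) :
    (S.g ^ i) v = ζ ^ (i * j) • v := by
  induction i with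
  | zero => simp
  | succ i ih =>
    rw [pow_succ', Module.End.mul_apply, ih, map_smul, hv, smul_smul, ← pow_add, Nat.succ_mul]

variable (hζ : IsPrimitiveRoot ζ e) (he : (e : k) ≠ 0)
include hζ he

omit he in
theorem zeta_ne_zero (he1 : 1 ≤ e) : ζ ≠ 0 := hζ.ne_zero (by omega)

omit he in
theorem zeta_pow_mul (i : ℕ) : ζ ^ (e * i) = 1 := by rw [pow_mul, hζ.pow_eq_one, one_pow]

omit hζ in
theorem one_le_e : 1 ≤ e := Nat.one_le_iff_ne_zero.2 fun h => he (by simp [h])

/-- The average that is a multiple of the projection on one degree. -/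
theorem sum_pow_eq_zero {j j' : ℕ} (h : ζ ^ j ≠ ζ ^ j') :
    ∑ i ∈ Finset.range e, ζ ^ (i * ((e - 1) * j + j')) = 0 := by
  have he1 := one_le_e (k := k) he
  have hr : ζ ^ ((e - 1) * j + j') ≠ 1 := fun h1 => h (by
    have h2 := congrArg (fun z => ζ ^ j * z) h1
    simp only [mul_one, ← pow_add] at h2
    rw [← h2, show j + ((e - 1) * j + j') = e * j + j' by
      rw [← add_assoc, Nat.sub_mul, one_mul, Nat.add_sub_cancel' (Nat.le_mul_of_pos_left j he1)],
      pow_add, zeta_pow_mul hζ, one_mul])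
  simp only [mul_comm _ ((e - 1) * j + j'), pow_mul]
  rw [geom_sum_eq hr, ← pow_mul, mul_comm, zeta_pow_mul hζ, sub_self, zero_div]

/-- If there is no witness of any degree, short vectors are in the range. -/
theorem Graded.mem_range_of_no_witness (S : Graded k M ζ n e) (h : ∀ j, ¬ S.Wit j) {v : M}
    (hv : (S.X ^ (n - 1)) v = 0) : v ∈ LinearMap.range S.X := by
  have he1 := one_le_e (k := k) he
  let P : ℕ → M := fun j => (e : k)⁻¹ • ∑ i ∈ Finset.range e, ζ ^ (i * ((e - 1) * j)) • (S.g ^ i) v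
  have hsum : ∑ j ∈ Finset.range e, P j = v := by
    simp only [P]
    rw [← Finset.smul_sum, Finset.sum_comm]
    simp only [← Finset.sum_smul]
    rw [Finset.sum_eq_single_of_mem 0 (Finset.mem_range.2 he1)]
    · simp [smul_smul, he]
    · intro i hi hi0
      have hne : ζ ^ i ≠ ζ ^ 0 := by
        rw [pow_zero]; exact hζ.pow_ne_one_of_pos_of_lt hi0 (Finset.mem_range.1 hi)
      rw [show (∑ j ∈ Finset.range e, ζ ^ (i * ((e - 1) * j))) =
        ∑ j ∈ Finset.range e, ζ ^ (j * ((e - 1) * i + 0)) from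
          Finset.sum_congr rfl fun j _ => by ring_nf, sum_pow_eq_zero hζ he hne, zero_smul]
  rw [← hsum]
  refine Submodule.sum_mem _ fun j _ => ?_
  by_contra hj
  refine h j ⟨P j, ?_, ?_, hj⟩
  · simp only [P]
    rw [map_smul, smul_comm]
    congr 1
    rw [map_sum, Finset.smul_sum]
    simp only [map_smul, ← Module.End.mul_apply, ← pow_succ', smul_smul, ← pow_add]
    have hz : ∀ i, ζ ^ (j + (i + 1) * ((e - 1) * j)) = ζ ^ (i * ((e - 1) * j)) := fun i => by
      rw [show j + (i + 1) * ((e - 1) * j) = i * ((e - 1) * j) + e * j by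
        rw [Nat.succ_mul, ← add_assoc, add_comm j, add_assoc, Nat.sub_mul, one_mul,
          Nat.add_sub_cancel' (Nat.le_mul_of_pos_left j he1)], pow_add, zeta_pow_mul hζ, mul_one]
    refine Finset.sum_bij' (fun i _ => (i + 1) % e) (fun i _ => (i + (e - 1)) % e)
      (fun i _ => Finset.mem_range.2 (Nat.mod_lt _ he1)) (fun i _ => Finset.mem_range.2 (Nat.mod_lt _ he1))
      (fun i hi => ?_) (fun i hi => ?_) (fun i _ => ?_)
    · rw [Nat.mod_add_mod, show i + 1 + (e - 1) = i + e by omega, Nat.add_mod_right,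
        Nat.mod_eq_of_lt (Finset.mem_range.1 hi)]
    · rw [Nat.mod_add_mod, show i + (e - 1) + 1 = i + e by omega, Nat.add_mod_right,
        Nat.mod_eq_of_lt (Finset.mem_range.1 hi)]
    · have hp : S.g ^ ((i + 1) % e) = S.g ^ (i + 1) := by
        conv_rhs => rw [← Nat.mod_add_div (i + 1) e, pow_add, pow_mul, S.g_pow, one_pow, mul_one]
      have hp' : ζ ^ (((i + 1) % e) * ((e - 1) * j)) = ζ ^ ((i + 1) * ((e - 1) * j)) := by
        conv_rhs => rw [← Nat.mod_add_div (i + 1) e, add_mul, pow_add, mul_assoc, zeta_pow_mul hζ, mul_one]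
      rw [hp, pow_add ζ j, hp', ← pow_add, hz]
  · simp only [P, map_smul, map_sum]
    rw [Finset.sum_eq_zero fun i _ => ?_, smul_zero]
    have h1 := S.g_pow_X_pow i (n - 1) v
    rw [hv, map_zero, eq_comm, smul_eq_zero] at h1
    rw [h1.resolve_left (pow_ne_zero _ (zeta_ne_zero hζ he1)), smul_zero]

/-- A witness of degree `j` at the top of a shortest string maps to any vector of the same degree
and no longer string, killing every other degree modulo the range. -/
theorem Graded.exists_hom [FiniteDimensional k M] (S : Graded k M ζ n e) (S' : Graded k M' ζ n e)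
    {j : ℕ} {v : M} (hvg : S.g v = ζ ^ j • v) (hv : v ∉ LinearMap.range S.X) {L : ℕ}
    (hvL : (S.X ^ (L + 1)) v = 0)
    (hmin : ∀ w, S.g w = ζ ^ j • w → (S.X ^ L) w = 0 → w ∈ LinearMap.range S.X)
    {v' : M'} (hv'g : S'.g v' = ζ ^ j • v') (hv'L : (S'.X ^ (L + 1)) v' = 0) :
    ∃ γ : M →ₗ[k] M', (∀ w, γ (S.X w) = S'.X (γ w)) ∧ (∀ w, γ (S.g w) = S'.g (γ w)) ∧
      γ v - v' ∈ LinearMap.range S'.X ∧
      ∀ w j', S.g w = ζ ^ j' • w → ζ ^ j' ≠ ζ ^ j → γ w ∈ LinearMap.range S'.X := by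
  classical
  have he1 := one_le_e (k := k) he
  have hnot : (S.X ^ L) v ∉ LinearMap.range (S.X ^ (L + 1)) := by
    rintro ⟨w, hw⟩
    -- replace `w` by its component of the right degree
    let w1 : M := (e : k)⁻¹ • ∑ i ∈ Finset.range e, ζ ^ (i * ((e - 1) * j + 1)) • (S.g ^ i) w
    have hgw1 : S.g w1 = ζ ^ (j + (e - 1)) • w1 := by
      simp only [w1]
      rw [map_smul, smul_comm]
      congr 1
      rw [map_sum, Finset.smul_sum]
      simp only [map_smul, ← Module.End.mul_apply, ← pow_succ', smul_smul, ← pow_add]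
      refine Finset.sum_bij' (fun i _ => (i + 1) % e) (fun i _ => (i + (e - 1)) % e)
        (fun i _ => Finset.mem_range.2 (Nat.mod_lt _ he1)) (fun i _ => Finset.mem_range.2 (Nat.mod_lt _ he1))
        (fun i hi => ?_) (fun i hi => ?_) (fun i _ => ?_)
      · rw [Nat.mod_add_mod, show i + 1 + (e - 1) = i + e by omega, Nat.add_mod_right,
          Nat.mod_eq_of_lt (Finset.mem_range.1 hi)]
      · rw [Nat.mod_add_mod, show i + (e - 1) + 1 = i + e by omega, Nat.add_mod_right,
          Nat.mod_eq_of_lt (Finset.mem_range.1 hi)]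
      · have hp : S.g ^ ((i + 1) % e) = S.g ^ (i + 1) := by
          conv_rhs => rw [← Nat.mod_add_div (i + 1) e, pow_add, pow_mul, S.g_pow, one_pow, mul_one]
        have hp' : ζ ^ (((i + 1) % e) * ((e - 1) * j + 1)) = ζ ^ ((i + 1) * ((e - 1) * j + 1)) := by
          conv_rhs => rw [← Nat.mod_add_div (i + 1) e, add_mul, pow_add, mul_assoc, zeta_pow_mul hζ, mul_one]
        rw [hp, pow_add ζ (j + (e - 1)), hp', ← pow_add,
          show j + (e - 1) + (i + 1) * ((e - 1) * j + 1) = i * ((e - 1) * j + 1) + e * (j + 1) by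
            obtain ⟨e', rfl⟩ : ∃ e', e = e' + 1 := ⟨e - 1, by omega⟩
            simp only [Nat.add_sub_cancel]; ring, pow_add ζ, zeta_pow_mul hζ, mul_one]
    have hXw1 : (S.X ^ (L + 1)) w1 = (S.X ^ L) v := by
      simp only [w1]
      rw [map_smul, map_sum, Finset.sum_congr rfl (g := fun _ => (S.X ^ L) v) fun i _ => ?_,
        Finset.sum_const, Finset.card_range, ← Nat.cast_smul_eq_nsmul k, smul_smul,
        inv_mul_cancel₀ he, one_smul]
      have h1 := S.g_pow_X_pow i (L + 1) w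
      rw [hw, S.g_pow_X_pow, S.g_pow_eigen hvg, map_smul, smul_smul, ← pow_add] at h1
      -- `h1 : ζ^(i L + i j) X^L v = ζ^(i (L+1)) X^(L+1) g^i w`
      have h2 := congrArg (fun z => ζ ^ (i * ((e - 1) * (L + 1) + ((e - 1) * j + 1))) • z) h1
      simp only [smul_smul, ← pow_add] at h2
      obtain ⟨e', rfl⟩ : ∃ e', e = e' + 1 := ⟨e - 1, by omega⟩
      simp only [Nat.add_sub_cancel] at h2 ⊢
      rw [show i * (e' * (L + 1) + (e' * j + 1)) + (i * L + i * j) = (e' + 1) * (i * (L + j)) + i * (e' + 1) by ring,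
        show i * (e' * (L + 1) + (e' * j + 1)) + i * (L + 1) = (e' + 1) * (i * (L + 1)) + i * (e' * j + 1) by ring,
        pow_add, pow_add, zeta_pow_mul hζ, zeta_pow_mul hζ, one_mul, one_mul,
        show i * (e' + 1) = (e' + 1) * i by ring, zeta_pow_mul hζ, one_smul] at h2
      rw [map_smul, ← h2]
    clear_value w1
    refine hv ?_
    have hX : S.g (S.X w1) = ζ ^ j • S.X w1 := by
      have h := S.g_X_pow 1 w1
      rw [pow_one, pow_one, hgw1, map_smul, smul_smul, ← pow_succ',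
        show j + (e - 1) + 1 = j + e * 1 by omega, pow_add, zeta_pow_mul hζ, mul_one] at h
      exact h
    have h3 := hmin (v - S.X w1) (by rw [map_sub, hvg, hX, smul_sub]) (by
      rw [map_sub, ← Module.End.mul_apply, ← pow_succ, hXw1, sub_self])
    have h4 := add_mem h3 (LinearMap.mem_range_self S.X w1)
    rwa [sub_add_cancel] at h4
  obtain ⟨ℓ₀, hℓ0, hℓrange⟩ : ∃ ℓ : Module.Dual k M, ℓ ((S.X ^ L) v) ≠ 0 ∧
      (LinearMap.range (S.X ^ (L + 1))).map ℓ = ⊥ :=
    Submodule.exists_dual_map_eq_bot_of_notMem hnot inferInstance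
  have hℓ0' : ∀ w, ℓ₀ ((S.X ^ (L + 1)) w) = 0 := fun w => by
    have h : ℓ₀ ((S.X ^ (L + 1)) w) ∈ (LinearMap.range (S.X ^ (L + 1))).map ℓ₀ :=
      Submodule.mem_map_of_mem (LinearMap.mem_range_self _ w)
    rwa [hℓrange, Submodule.mem_bot] at h
  set c := ℓ₀ ((S.X ^ L) v)
  let ℓ : Module.Dual k M :=
    ((e : k) * c)⁻¹ • ∑ i ∈ Finset.range e, ζ ^ (i * ((e - 1) * (j + L))) • ℓ₀ ∘ₗ (S.g ^ i)
  have hℓ : ∀ w, ℓ w = ((e : k) * c)⁻¹ *
      ∑ i ∈ Finset.range e, ζ ^ (i * ((e - 1) * (j + L))) * ℓ₀ ((S.g ^ i) w) := fun w => by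
    simp [ℓ, LinearMap.sum_apply]
  have hℓv : ℓ ((S.X ^ L) v) = 1 := by
    rw [hℓ, Finset.sum_congr rfl (g := fun _ => c) fun i _ => ?_, Finset.sum_const, Finset.card_range,
      nsmul_eq_mul, inv_mul_cancel₀ (mul_ne_zero he hℓ0)]
    rw [S.g_pow_X_pow, S.g_pow_eigen hvg, map_smul, map_smul, map_smul, smul_eq_mul, smul_eq_mul,
      ← mul_assoc, ← mul_assoc, ← pow_add, ← pow_add,
      show i * ((e - 1) * (j + L)) + i * L + i * j = e * (i * (j + L)) by
        obtain ⟨e', rfl⟩ : ∃ e', e = e' + 1 := ⟨e - 1, by omega⟩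
        simp only [Nat.add_sub_cancel]; ring, zeta_pow_mul hζ, one_mul]
  have hℓX : ∀ w, ℓ ((S.X ^ (L + 1)) w) = 0 := fun w => by
    rw [hℓ, Finset.sum_eq_zero fun i _ => by rw [S.g_pow_X_pow, map_smul, hℓ0', smul_zero, mul_zero],
      mul_zero]
  have hℓg : ∀ w, ℓ (S.g w) = ζ ^ (j + L) * ℓ w := fun w => by
    rw [hℓ, hℓ, mul_left_comm]
    congr 1
    rw [Finset.mul_sum]
    simp only [← Module.End.mul_apply, ← pow_succ, ← mul_assoc, ← pow_add]
    refine Finset.sum_bij' (fun i _ => (i + 1) % e) (fun i _ => (i + (e - 1)) % e)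
      (fun i _ => Finset.mem_range.2 (Nat.mod_lt _ he1)) (fun i _ => Finset.mem_range.2 (Nat.mod_lt _ he1))
      (fun i hi => ?_) (fun i hi => ?_) (fun i _ => ?_)
    · rw [Nat.mod_add_mod, show i + 1 + (e - 1) = i + e by omega, Nat.add_mod_right,
        Nat.mod_eq_of_lt (Finset.mem_range.1 hi)]
    · rw [Nat.mod_add_mod, show i + (e - 1) + 1 = i + e by omega, Nat.add_mod_right,
        Nat.mod_eq_of_lt (Finset.mem_range.1 hi)]
    · have hp : S.g ^ ((i + 1) % e) = S.g ^ (i + 1) := by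
        conv_rhs => rw [← Nat.mod_add_div (i + 1) e, pow_add, pow_mul, S.g_pow, one_pow, mul_one]
      have hp' : ζ ^ (((i + 1) % e) * (e - 1) * (j + L)) = ζ ^ ((i + 1) * ((e - 1) * (j + L))) := by
        rw [mul_assoc]
        conv_rhs => rw [← Nat.mod_add_div (i + 1) e, add_mul, pow_add, mul_assoc, zeta_pow_mul hζ, mul_one]
      rw [hp, pow_add ζ (j + L), hp', ← pow_add]
      congr 1
      rw [show (j + L) + (i + 1) * ((e - 1) * (j + L)) = i * ((e - 1) * (j + L)) + e * (j + L) by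
        obtain ⟨e', rfl⟩ : ∃ e', e = e' + 1 := ⟨e - 1, by omega⟩
        simp only [Nat.add_sub_cancel]; ring, pow_add ζ, zeta_pow_mul hζ, mul_one, mul_assoc]
  let γ : M →ₗ[k] M' :=
    ∑ i ∈ Finset.range (L + 1), (LinearMap.toSpanSingleton k M' ((S'.X ^ i) v')) ∘ₗ ℓ ∘ₗ (S.X ^ (L - i))
  have hγ : ∀ w, γ w = ∑ i ∈ Finset.range (L + 1), ℓ ((S.X ^ (L - i)) w) • (S'.X ^ i) v' := fun w => by
    simp [γ, LinearMap.sum_apply]
  refine ⟨γ, fun w => ?_, fun w => ?_, ?_, fun w j' hw hne => ?_⟩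
  · rw [hγ, hγ, map_sum, Finset.sum_range_succ', Finset.sum_range_succ (n := L)]
    simp only [map_smul, ← Module.End.mul_apply, ← pow_succ, ← pow_succ', Nat.sub_zero, hℓX, hv'L,
      zero_smul, smul_zero, add_zero]
    refine Finset.sum_congr rfl fun i hi => ?_
    rw [Finset.mem_range] at hi
    rw [show L - (i + 1) + 1 = L - i by omega]
  · rw [hγ, hγ, map_sum]
    refine Finset.sum_congr rfl fun i hi => ?_
    rw [Finset.mem_range] at hi
    have h1 : ℓ ((S.X ^ (L - i)) (S.g w)) = ζ ^ (j + i) * ℓ ((S.X ^ (L - i)) w) := by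
      have h := congrArg ℓ (S.g_X_pow (L - i) w)
      rw [map_smul, hℓg, smul_eq_mul] at h
      refine mul_left_cancel₀ (pow_ne_zero (L - i) (zeta_ne_zero hζ he1)) ?_
      rw [← h, ← mul_assoc, ← pow_add]
      congr 2
      omega
    rw [h1, map_smul, S'.g_X_pow, hv'g, map_smul, smul_smul, smul_smul, mul_assoc, ← pow_add, mul_comm, add_comm i j]
  · rw [hγ, Finset.sum_range_succ', Nat.sub_zero, hℓv, pow_zero, one_smul, Module.End.one_apply,
      add_sub_cancel_right]
    exact Submodule.sum_mem _ fun i _ => Submodule.smul_mem _ _ (by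
      rw [pow_succ']; exact LinearMap.mem_range_self _ _)
  · rw [hγ, Finset.sum_range_succ', Nat.sub_zero]
    refine add_mem (Submodule.sum_mem _ fun i _ => Submodule.smul_mem _ _ (by
      rw [pow_succ']; exact LinearMap.mem_range_self _ _)) ?_
    have h := congrArg ℓ (S.g_X_pow L w)
    rw [hℓg, hw, map_smul, map_smul, map_smul, smul_eq_mul, smul_eq_mul, ← mul_assoc, ← pow_add,
      ← sub_eq_zero, ← sub_mul, mul_eq_zero] at h
    rw [h.resolve_left (sub_ne_zero.2 fun e' => hne ?_), zero_smul]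
    · exact Submodule.zero_mem _
    · rw [pow_add ζ j L, pow_add ζ L j', mul_comm (ζ ^ j)] at e'
      exact (mul_left_cancel₀ (pow_ne_zero L (zeta_ne_zero hζ he1)) e').symm

/-- A shortest witness of a degree. -/
theorem Graded.exists_min (S : Graded k M ζ n e) {j : ℕ} (hw : S.Wit j) (hn : 1 ≤ n) :
    ∃ (v : M) (L : ℕ), S.g v = ζ ^ j • v ∧ v ∉ LinearMap.range S.X ∧ (S.X ^ (L + 1)) v = 0 ∧
      L + 1 ≤ n - 1 ∧ ∀ w, S.g w = ζ ^ j • w → (S.X ^ L) w = 0 → w ∈ LinearMap.range S.X := by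
  classical
  obtain ⟨v₀, hg, hX, hr⟩ := hw
  have hex : ∃ L, ∃ v, S.g v = ζ ^ j • v ∧ v ∉ LinearMap.range S.X ∧ (S.X ^ L) v = 0 :=
    ⟨n - 1, v₀, hg, hr, hX⟩
  obtain ⟨v, hvg, hvr, hvX⟩ := Nat.find_spec hex
  have hL0 : Nat.find hex ≠ 0 := fun h0 => by
    rw [h0, pow_zero, Module.End.one_apply] at hvX
    exact hvr (hvX ▸ Submodule.zero_mem _)
  refine ⟨v, Nat.find hex - 1, hvg, hvr, ?_, ?_, fun w hwg hwX => ?_⟩
  · rwa [Nat.sub_add_cancel (Nat.one_le_iff_ne_zero.2 hL0)]
  · rw [Nat.sub_add_cancel (Nat.one_le_iff_ne_zero.2 hL0)]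
    exact Nat.find_min' hex ⟨v₀, hg, hr, hX⟩
  · by_contra hwr
    exact Nat.find_min hex (show Nat.find hex - 1 < Nat.find hex by omega) ⟨w, hwg, hwr, hwX⟩

end CfsgLib.CyclicRank
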